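import Groth.Prelude.Def_Neron
import Mathlib.AlgebraicGeometry.Morphisms.SchemeTheoreticallyDominant

/-!
# Morphisms agreeing on a schematically dominant subobject
-/

set_option autoImplicit false
universe u

open CategoryTheory CategoryTheory.Limits AlgebraicGeometry

namespace K491.Ext

/-- Two morphisms to a separated `S`-scheme which agree after a scheme-theoretically dominant
morphism are equal. -/
theorem eq_of_comp_eq {S X Y Z : Scheme.{u}} (pX : X ⟶ S) (pY : Y ⟶ S) [IsSeparated pY]
    (i : Z ⟶ X) [IsSchemeTheoreticallyDominant i] (f g : X ⟶ Y) (hf : f ≫ pY = pX)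
    (hg : g ≫ pY = pX) (h : i ≫ f = i ≫ g) : f = g := by
  have hfg : f ≫ pY = g ≫ pY := by rw [hf, hg]
  let l : X ⟶ pullback pY pY := pullback.lift f g hfg
  let j : pullback l (pullback.diagonal pY) ⟶ X := pullback.fst _ _
  have hj : IsClosedImmersion j := inferInstance
  have hl1 : l ≫ pullback.fst pY pY = f := pullback.lift_fst _ _ _
  have hl2 : l ≫ pullback.snd pY pY = g := pullback.lift_snd _ _ _
  let k : Z ⟶ pullback l (pullback.diagonal pY) := pullback.lift i (i ≫ f) (by
    apply pullback.hom_ext
    · rw [Category.assoc, hl1, Category.assoc, pullback.diagonal_fst, Category.comp_id]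
    · rw [Category.assoc, hl2, Category.assoc, pullback.diagonal_snd, Category.comp_id, h])
  have hk : k ≫ j = i := pullback.lift_fst _ _ _
  have h1 : j.ker = ⊥ := by
    rw [← le_bot_iff, ← i.ker_eq_bot, ← hk]
    exact Scheme.Hom.le_ker_comp k j
  have h2 : IsIso j := by
    refine IsClosedImmersion.isIso_of_ker_eq j (𝟙 X) j (Category.comp_id _) ?_
    rw [h1, Scheme.Hom.ker_eq_bot_of_isIso]
  have h3 : j ≫ f = j ≫ g := by
    have e1 : j ≫ l = pullback.snd _ _ ≫ pullback.diagonal pY := pullback.condition
    have e2 := congrArg (· ≫ pullback.fst pY pY) e1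
    have e3 := congrArg (· ≫ pullback.snd pY pY) e1
    simp only [Category.assoc, hl1, hl2, pullback.diagonal_fst,
      pullback.diagonal_snd, Category.comp_id] at e2 e3
    rw [e2, e3]
  exact (cancel_epi j).mp h3

theorem dom_genPt (R : Type u) [CommRing R] [IsDomain R] :
    IsSchemeTheoreticallyDominant (Neron.genPt R) := by
  have : IsDominant (Neron.genPt R) := by
    constructor
    change DenseRange (PrimeSpectrum.comap (algebraMap R (FractionRing R)))
    rw [PrimeSpectrum.denseRange_comap_iff_ker_le_nilRadical,
      (RingHom.injective_iff_ker_eq_bot _).mp (IsFractionRing.injective R (FractionRing R))]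
    exact bot_le
  exact .of_isDominant _

end K491.Ext
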