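import Groth.Agent.Sga3C.SchemImage
import Groth.Agent.Neron.K491.Ext
import Groth.Prelude.Def_Red
import Mathlib.RingTheory.Flat.TorsionFree

/-!
# Schematic closure of a closed subgroup of the generic fibre

* `isPullback_image`: a closed subscheme of the base change along a flat quasi-compact monomorphism is
  the base change of its schematic closure;
* `flat_of_schemeDominant`: flatness of schemes over a Dedekind domain with schematically dense generic
  fibre;
* `mulAdj`: the bijection `Hom(T, G_{S'}) = Hom(T → S, G)` is a group isomorphism.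
-/

set_option autoImplicit false
universe u

open CategoryTheory CategoryTheory.Limits AlgebraicGeometry MonObj MonoidalCategory
  CartesianMonoidalCategory GrpObj

namespace K491.Closure

open Groth.Agent.Sga3C.SchemImage

/-- A closed subscheme of the base change of `Y` along a flat quasi-compact monomorphism `g` is the base change of
its schematic closure in `Y`. -/
theorem isPullback_image {S T X Y : Scheme.{u}} (g : T ⟶ S) [Flat g] [Mono g] [QuasiCompact g]
    (y : Y ⟶ S) (p : X ⟶ T) (j : X ⟶ Y) (hj : j ≫ y = p ≫ g)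
    [IsClosedImmersion (pullback.lift j p hj)] :
    IsPullback j.toImage p (j.imageι ≫ y) g := by
  have hqc : QuasiCompact j := by
    rw [← pullback.lift_fst j p hj]
    infer_instance
  have hw : j.toImage ≫ j.imageι ≫ y = p ≫ g := by
    rw [Scheme.Hom.toImage_imageι_assoc, hj]
  have hdom : IsSchemeTheoreticallyDominant j.toImage := dominant_toImage j
  let c : X ⟶ pullback (j.imageι ≫ y) g := pullback.lift j.toImage p hw
  have hc1 : c ≫ pullback.fst (j.imageι ≫ y) g = j.toImage := pullback.lift_fst _ _ _
  have hc2 : c ≫ pullback.snd (j.imageι ≫ y) g = p := pullback.lift_snd _ _ _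
  have hmono : Mono (pullback.fst (j.imageι ≫ y) g) := inferInstance
  -- the square with the identity of `X`
  have hsq : IsPullback (𝟙 X) c j.toImage (pullback.fst (j.imageι ≫ y) g) := by
    refine ⟨⟨by rw [Category.id_comp, hc1]⟩, ⟨PullbackCone.IsLimit.mk _ (fun s => s.fst) ?_ ?_ ?_⟩⟩
    · intro s; simp
    · intro s
      rw [← cancel_mono (pullback.fst (j.imageι ≫ y) g), Category.assoc, hc1, s.condition]
    · intro s m h1 h2
      simpa using h1
  have hcdom : IsSchemeTheoreticallyDominant c := .of_isPullback hsq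
  -- closed immersion
  let d : pullback (j.imageι ≫ y) g ⟶ pullback y g :=
    pullback.lift (pullback.fst _ _ ≫ j.imageι) (pullback.snd _ _) (by
      rw [Category.assoc, pullback.condition])
  have hd1 : d ≫ pullback.fst y g = pullback.fst _ _ ≫ j.imageι := pullback.lift_fst _ _ _
  have hd2 : d ≫ pullback.snd y g = pullback.snd _ _ := pullback.lift_snd _ _ _
  have hdsq : IsPullback (pullback.fst (j.imageι ≫ y) g) d j.imageι (pullback.fst y g) := by
    refine IsPullback.of_bot ?_ hd1.symm (IsPullback.of_hasPullback y g)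
    rw [hd2]
    exact IsPullback.of_hasPullback (j.imageι ≫ y) g
  have hdci : IsClosedImmersion d := MorphismProperty.of_isPullback hdsq inferInstance
  have hcd : c ≫ d = pullback.lift j p hj := by
    apply pullback.hom_ext
    · rw [Category.assoc, hd1, reassoc_of% hc1, Scheme.Hom.toImage_imageι, pullback.lift_fst]
    · rw [Category.assoc, hd2, hc2, pullback.lift_snd]
  have hcci : IsClosedImmersion c := by
    have : IsClosedImmersion (c ≫ d) := by rw [hcd]; infer_instance
    exact IsClosedImmersion.of_comp_isClosedImmersion c d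
  have hciso : IsIso c := IsClosedImmersion.isIso_iff_ker_eq_bot.mpr hcdom.ker_eq_bot
  exact IsPullback.of_iso_pullback ⟨hw⟩ (asIso c) hc1 hc2

/-- A scheme over a Dedekind domain which receives a schematically dominant morphism from a scheme over the fraction
field is flat. -/
theorem flat_of_schemeDominant {R : Type u} [CommRing R] [IsDedekindDomain R] {K : Type u} [Field K]
    [Algebra R K] [IsFractionRing R K] {X Y : Scheme.{u}} (t : X ⟶ Y) [QuasiCompact t]
    [IsSchemeTheoreticallyDominant t] (q : Y ⟶ Spec (CommRingCat.of R)) (p : X ⟶ Spec (CommRingCat.of K))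
    (h : t ≫ q = p ≫ Spec.map (CommRingCat.ofHom (algebraMap R K))) : Flat q := by
  refine (IsZariskiLocalAtSource.iff_of_openCover (P := @Flat) Y.affineCover).2 fun i => ?_
  obtain ⟨A, hA⟩ : ∃ A : CommRingCat.{u}, Y.affineCover.X i = Spec A := ⟨_, rfl⟩
  have key : ∀ (A : CommRingCat.{u}) (j : Spec A ⟶ Y) [IsOpenImmersion j], Flat (j ≫ q) := by
    intro A j _
    obtain ⟨ψ, hψ⟩ := Spec.map_surjective (j ≫ q)
    rw [← hψ, Flat.SpecMap_iff]
    let _ : Algebra R A := ψ.hom.toAlgebra
    change Module.Flat R A
    let t' : pullback t j ⟶ Spec A := pullback.snd t j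
    have ht' : IsSchemeTheoreticallyDominant t' :=
      inferInstanceAs (IsSchemeTheoreticallyDominant (pullback.snd t j))
    have hinj : Function.Injective t'.appTop := t'.app_injective ⊤
    have hsq : t' ≫ Spec.map ψ = (pullback.fst t j ≫ p) ≫ Spec.map (CommRingCat.ofHom (algebraMap R K)) := by
      rw [hψ, Category.assoc, ← h, ← pullback.condition_assoc]
    have hring : ∀ r : R, t'.appTop ((Scheme.ΓSpecIso A).inv (ψ.hom r)) =
        ((pullback.fst t j ≫ p).appTop ((Scheme.ΓSpecIso (CommRingCat.of K)).inv (algebraMap R K r))) := by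
      intro r
      have h1 := congrArg (fun f => f.appTop ((Scheme.ΓSpecIso (CommRingCat.of R)).inv r)) hsq
      simp only [Scheme.Hom.comp_appTop, ConcreteCategory.comp_apply] at h1
      have h2 : (Spec.map ψ).appTop ((Scheme.ΓSpecIso (CommRingCat.of R)).inv r) =
          (Scheme.ΓSpecIso A).inv (ψ.hom r) := by
        rw [← ConcreteCategory.comp_apply, ← Scheme.ΓSpecIso_inv_naturality]
        rfl
      have h3 : (Spec.map (CommRingCat.ofHom (algebraMap R K))).appTop
          ((Scheme.ΓSpecIso (CommRingCat.of R)).inv r) =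
          (Scheme.ΓSpecIso (CommRingCat.of K)).inv (algebraMap R K r) := by
        rw [← ConcreteCategory.comp_apply, ← Scheme.ΓSpecIso_inv_naturality]
        rfl
      rw [h2, h3] at h1
      rw [h1, Scheme.Hom.comp_appTop]
      rfl
    have htf : Module.IsTorsionFree R A := by
      refine .of_smul_eq_zero fun r a hra => ?_
      by_contra hcon
      push Not at hcon
      obtain ⟨hr, ha⟩ := hcon
      have hu : IsUnit (t'.appTop ((Scheme.ΓSpecIso A).inv (ψ.hom r))) := by
        rw [hring]
        refine ((IsUnit.mk0 (algebraMap R K r) ?_).map _).map _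
        exact (map_ne_zero_iff _ (IsFractionRing.injective R K)).mpr hr
      have h0 : ψ.hom r * a = 0 := hra
      have h1 : t'.appTop ((Scheme.ΓSpecIso A).inv (ψ.hom r)) *
          t'.appTop ((Scheme.ΓSpecIso A).inv a) = 0 := by
        rw [← map_mul, ← map_mul, h0, map_zero, map_zero]
      have h2 := hu.mul_right_eq_zero.mp h1
      have h3 : (Scheme.ΓSpecIso A).inv a = 0 := hinj (by rw [h2, map_zero])
      have h4 : (Scheme.ΓSpecIso A).hom ((Scheme.ΓSpecIso A).inv a) = 0 := by rw [h3, map_zero]
      rw [← ConcreteCategory.comp_apply, Iso.inv_hom_id] at h4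
      exact ha h4
    infer_instance
  rw [show Y.affineCover.f i ≫ q = eqToHom hA ≫ (eqToHom hA.symm ≫ Y.affineCover.f i) ≫ q by simp]
  have := key A (eqToHom hA.symm ≫ Y.affineCover.f i)
  infer_instance

section adj

variable {S S' : Scheme.{u}} (g : S' ⟶ S) {G : Over S} [GrpObj G]

/-- The bijection `Hom_{S'}(T, G_{S'}) → Hom_S(T, G)`. -/
noncomputable def dn {T : Over S'} (x : T ⟶ Red.bc g G) : (Over.map g).obj T ⟶ G :=
  ((Over.mapPullbackAdj g).homEquiv T G).symm x

omit [GrpObj G] in
theorem dn_left {T : Over S'} (x : T ⟶ Red.bc g G) :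
    (dn g x).left = x.left ≫ pullback.fst G.hom g := by
  rw [dn, Adjunction.homEquiv_counit]
  simp [Over.mapPullbackAdj]

theorem dn_mul {T : Over S'} (x y : T ⟶ Red.bc g G) : dn g (x * y) = dn g x * dn g y := by
  obtain ⟨x, rfl⟩ := ((Over.mapPullbackAdj g).homEquiv T G).surjective x
  obtain ⟨y, rfl⟩ := ((Over.mapPullbackAdj g).homEquiv T G).surjective y
  have h : ((Over.mapPullbackAdj g).homEquiv T G) (x * y) =
      (((Over.mapPullbackAdj g).homEquiv T G) x : T ⟶ Red.bc g G) *
        (((Over.mapPullbackAdj g).homEquiv T G) y : T ⟶ Red.bc g G) := by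
    rw [Adjunction.homEquiv_unit, Adjunction.homEquiv_unit, Adjunction.homEquiv_unit]
    have h1 : (Over.pullback g).map (x * y) =
        ((Over.pullback g).map x : (Over.pullback g).obj _ ⟶ Red.bc g G) * (Over.pullback g).map y :=
      Functor.map_mul _ _ _
    rw [h1]
    exact MonObj.comp_mul _ _ _
  rw [dn, ← h, Equiv.symm_apply_apply, dn, dn, Equiv.symm_apply_apply, Equiv.symm_apply_apply]

omit [GrpObj G] in
theorem dn_comp {T T' : Over S'} (a : T' ⟶ T) (x : T ⟶ Red.bc g G) :
    (Over.map g).map a ≫ dn g x = dn g (a ≫ x) := by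
  rw [dn, dn, Adjunction.homEquiv_naturality_left_symm]

theorem dn_one {T : Over S'} : dn g (1 : T ⟶ Red.bc g G) = 1 := by
  have h := dn_mul g (1 : T ⟶ Red.bc g G) 1
  rw [_root_.mul_one] at h
  exact (mul_eq_left.mp h.symm)

theorem dn_inv {T : Over S'} (x : T ⟶ Red.bc g G) : dn g x⁻¹ = (dn g x)⁻¹ := by
  rw [eq_inv_iff_mul_eq_one, ← dn_mul, inv_mul_cancel, dn_one]

end adj

section main

variable {R : Type u} [CommRing R] [IsDedekindDomain R]

theorem exists_closure (G : Over (Spec (CommRingCat.of R))) [GrpObj G]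
    (HK : Over (Spec (CommRingCat.of (FractionRing R)))) [GrpObj HK]
    (i : HK ⟶ Red.bc (Neron.genPt R) G) [IsMonHom i] [IsClosedImmersion i.left] :
    ∃ (H : Over (Spec (CommRingCat.of R))) (_ : GrpObj H) (j : H ⟶ G) (φ : HK.left ⟶ H.left),
      IsMonHom j ∧ IsClosedImmersion j.left ∧ Flat H.hom ∧
      IsPullback φ HK.hom H.hom (Neron.genPt R) ∧
      φ ≫ j.left = i.left ≫ pullback.fst G.hom (Neron.genPt R) ∧
      φ.ker = ⊥ := by
  have hflat : Flat (Neron.genPt R) := by
    rw [HasRingHomProperty.Spec_iff (P := @Flat)]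
    change (algebraMap R (FractionRing R)).Flat
    rw [RingHom.flat_algebraMap_iff]
    exact IsLocalization.flat _ (nonZeroDivisors R)
  have hpre : IsPreimmersion (Neron.genPt R) := IsPreimmersion.of_isLocalization (nonZeroDivisors R)
  have hdomg : IsSchemeTheoreticallyDominant (Neron.genPt R) := Ext.dom_genPt R
  let f : HK.left ⟶ G.left := i.left ≫ pullback.fst G.hom (Neron.genPt R)
  have hf : f ≫ G.hom = HK.hom ≫ Neron.genPt R := by
    simp only [f, Category.assoc, pullback.condition]
    rw [← Over.w i]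
    rfl
  have hlift : pullback.lift f HK.hom hf = i.left := by
    apply pullback.hom_ext
    · exact pullback.lift_fst _ _ _
    · rw [pullback.lift_snd]
      exact (Over.w i).symm
  have hcl : IsClosedImmersion (pullback.lift f HK.hom hf) := by rw [hlift]; infer_instance
  have hfqc : QuasiCompact f := by
    rw [← pullback.lift_fst f HK.hom hf]
    infer_instance
  have hpb := isPullback_image (Neron.genPt R) G.hom HK.hom f hf
  let H : Over (Spec (CommRingCat.of R)) := Over.mk (f.imageι ≫ G.hom)
  let j : H ⟶ G := Over.homMk f.imageι rfl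
  have hj : IsClosedImmersion j.left := inferInstanceAs (IsClosedImmersion f.imageι)
  have hjm : Mono j := (Over.forget _).mono_of_mono_map (inferInstanceAs (Mono f.imageι))
  let HK' : Over (Spec (CommRingCat.of R)) := (Over.map (Neron.genPt R)).obj HK
  let t : HK' ⟶ H := Over.homMk f.toImage (by
    change f.toImage ≫ f.imageι ≫ G.hom = HK.hom ≫ Neron.genPt R
    rw [Scheme.Hom.toImage_imageι_assoc, hf])
  have htj : t ≫ j = dn (Neron.genPt R) i := by
    ext1
    rw [dn_left]
    exact Scheme.Hom.toImage_imageι f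
  have htdom : IsSchemeTheoreticallyDominant t.left := dominant_toImage f
  have htqc : QuasiCompact t.left := inferInstanceAs (QuasiCompact f.toImage)
  have hdom' : IsSchemeTheoreticallyDominant f.toImage := htdom
  have hHflat : Flat H.hom :=
    flat_of_schemeDominant (K := FractionRing R) f.toImage H.hom HK.hom hpb.w
  have hHKflat : Flat HK'.hom := by
    change Flat (HK.hom ≫ Neron.genPt R)
    infer_instance
  -- the unit
  have hone : ∃ e : 𝟙_ (Over (Spec (CommRingCat.of R))) ⟶ H, e ≫ j = η[G] := by
    let X : Over (Spec (CommRingCat.of R)) :=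
      (Over.map (Neron.genPt R)).obj (𝟙_ (Over (Spec (CommRingCat.of (FractionRing R)))))
    let u : X ⟶ 𝟙_ (Over (Spec (CommRingCat.of R))) := toUnit X
    have hu : u.left = Neron.genPt R := by
      have h1 : u.left ≫ 𝟙 _ = 𝟙 _ ≫ Neron.genPt R := Over.w u
      rwa [Category.comp_id, Category.id_comp] at h1
    have hud : IsSchemeTheoreticallyDominant u.left := by rw [hu]; exact hdomg
    refine exists_lift_over u η[G] j ((Over.map (Neron.genPt R)).map η[HK] ≫ t) ?_
    rw [Category.assoc, htj, dn_comp, IsMonHom.one_hom]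
    have h2 : (η[Red.bc (Neron.genPt R) G] : 𝟙_ _ ⟶ Red.bc (Neron.genPt R) G) = 1 :=
      MonObj.one_eq_one _
    rw [h2, dn_one]
    exact Hom.one_def
  have hinv : ∃ w : H ⟶ H, w ≫ j = j ≫ ι[G] := by
    refine exists_lift_over t (j ≫ ι[G]) j ((Over.map (Neron.genPt R)).map ι[HK] ≫ t) ?_
    rw [Category.assoc, htj, dn_comp, ← Category.assoc t, htj]
    have h2 : ι[HK] ≫ i = i⁻¹ := GrpObj.inv_hom i
    rw [h2, dn_inv]
    exact Hom.inv_def _
  have hmul : ∃ m : H ⊗ H ⟶ H, m ≫ j = (j ⊗ₘ j) ≫ μ[G] := by
    have hdom : IsSchemeTheoreticallyDominant (t ⊗ₘ t).left := by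
      rw [MonoidalCategory.tensorHom_def, Over.comp_left]
      have h1 := dominant_whiskerRight t HK'
      have h2 := dominant_whiskerLeft t H
      have h3 := quasiCompact_whiskerRight t HK'
      exact MorphismProperty.comp_mem _ _ _ h1 h2
    let T' : Over (Spec (CommRingCat.of (FractionRing R))) := Over.mk ((fst HK' HK').left ≫ HK.hom)
    let a : T' ⟶ HK := Over.homMk (fst HK' HK').left rfl
    let b : T' ⟶ HK := Over.homMk (snd HK' HK').left (by
      rw [← cancel_mono (Neron.genPt R)]
      have h1 := Over.w (fst HK' HK')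
      have h2 := Over.w (snd HK' HK')
      rw [← h1] at h2
      simpa [T', HK'] using h2)
    let e : HK' ⊗ HK' ⟶ (Over.map (Neron.genPt R)).obj T' := Over.homMk (𝟙 _) (by
      simp [T', HK'])
    have hea : e ≫ (Over.map (Neron.genPt R)).map a = fst HK' HK' := by
      ext1; simp [e, a]
    have heb : e ≫ (Over.map (Neron.genPt R)).map b = snd HK' HK' := by
      ext1; simp [e, b]
    refine exists_lift_over (t ⊗ₘ t) ((j ⊗ₘ j) ≫ μ[G]) j
      (e ≫ (Over.map (Neron.genPt R)).map (a * b) ≫ t) ?_
    rw [Category.assoc, Category.assoc, htj, dn_comp, MonObj.mul_comp, dn_mul, MonObj.comp_mul,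
      ← dn_comp, ← dn_comp, reassoc_of% hea, reassoc_of% heb, ← htj, tensorHom_comp_tensorHom_assoc,
      Hom.mul_def]
    congr 1
  obtain ⟨hgrp, hmon⟩ := Groth.Agent.Sga3C.SubGrp.exists_grpObj_of_mono j hmul hone hinv
  exact ⟨H, hgrp, j, f.toImage, hmon, hj, hHflat, hpb, Scheme.Hom.toImage_imageι f, htdom.ker_eq_bot⟩

end main

end K491.Closure
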