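import Groth.Agent.Variety.K430.Frob
import Groth.Agent.Neron.K490.IsogFlat
import Groth.Agent.Sga7.H729.Dict
import Groth.Agent.Sga7.H756.Assembly
import Groth.Agent.Sga7.H274.Transport
import Groth.Agent.Sga7.H738.RankZeroBc
import Groth.Agent.Sga7.H760.L2
import Mathlib.FieldTheory.PurelyInseparable.Exponent

/-!
# The relative Frobenius is an isogeny; semistable reduction and purely inseparable extensions

* `rF p G : G ⟶ Red.bc (FrobSch.frob S p) G`: the relative Frobenius of a group scheme, a homomorphism.
* `hasSemistableReduction_bc`: semistable reduction is stable under arbitrary base change.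
* `semistable_iff_of_isPurelyInseparable`: `E` semistable over `R` iff `E_L` semistable over the
  integral closure of `R` in `L`, `L / K` finite purely inseparable.
-/

set_option autoImplicit false
universe u

open CategoryTheory CategoryTheory.Limits AlgebraicGeometry MonObj
open MonoidalCategory CartesianMonoidalCategory

noncomputable section

namespace K491.FrobIsog

open Groth.Agent.Sga7.H729.Dict Groth.Agent.Sga7.H274.Transport
open Groth.Agent.Sga3B Groth.Agent.Sga3B.RedIso

section hom

variable {S : Scheme.{u}} (p : ℕ) [Fact p.Prime] [FrobSch.IsCharP S p] (G : Over S)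

/-- The relative Frobenius as a morphism over `S`. -/
def rF : G ⟶ Red.bc (FrobSch.frob S p) G :=
  Over.homMk (FrobSch.relFrob G.hom p) (FrobSch.relFrob_snd G.hom p)

lemma rF_left : (rF p G).left = FrobSch.relFrob G.hom p := rfl

/-- The absolute Frobenius of `T` as a morphism over `S`. -/
def aF (T : Over S) : (Over.map (FrobSch.frob S p)).obj T ⟶ T :=
  haveI : FrobSch.IsCharP T.left p := FrobSch.IsCharP.of_hom T.hom p
  Over.homMk (FrobSch.frob T.left p) (FrobSch.frob_comp p T.hom)

lemma bcPts_comp_rF [GrpObj G] (T : Over S) (x : T ⟶ G) :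
    bcPts (FrobSch.frob S p) G T (x ≫ rF p G) = aF p T ≫ x := by
  ext1
  have h1 : FrobSch.IsCharP T.left p := FrobSch.IsCharP.of_hom T.hom p
  have h2 : FrobSch.IsCharP G.left p := FrobSch.IsCharP.of_hom G.hom p
  rw [bcPts_left, Over.comp_left, Over.comp_left, rF_left, Category.assoc, FrobSch.relFrob_fst]
  exact (FrobSch.frob_comp p x.left).symm

instance isMonHom_rF [GrpObj G] : IsMonHom (rF p G) where
  one_hom := by
    apply (bcPts (FrobSch.frob S p) G (𝟙_ (Over S))).injective
    rw [bcPts_comp_rF]
    have h1 : (η : 𝟙_ (Over S) ⟶ G) = 1 := by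
      rw [MonObj.one_eq_one]
    have h2 : (η : 𝟙_ (Over S) ⟶ Red.bc (FrobSch.frob S p) G) = 1 := by
      rw [MonObj.one_eq_one]
    rw [h1, h2, map_one, MonObj.comp_one]
  mul_hom := by
    apply (bcPts (FrobSch.frob S p) G (G ⊗ G)).injective
    have h3 : (rF p G ⊗ₘ rF p G) ≫ μ = (fst G G ≫ rF p G) * (snd G G ≫ rF p G) := by
      rw [Hom.mul_def]
      congr 1
    have h4 : (μ : G ⊗ G ⟶ G) = fst G G * snd G G := MonObj.mul_eq_mul G
    rw [bcPts_comp_rF, h3, map_mul, bcPts_comp_rF, bcPts_comp_rF, h4, MonObj.comp_mul]

end hom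

section field

variable (K : Type u) [Field K] (p : ℕ) [Fact p.Prime] [CharP K p]

/-- The relative Frobenius of a group of finite type is an isogeny. -/
theorem isIsogenyOver_rF (E : Over (Spec (CommRingCat.of K))) [GrpObj E] [LocallyOfFiniteType E.hom] :
    SGA7.IsIsogenyOver (rF p E) := by
  have h1 := K430.Frob.relFrob_isFinite p E.hom
  refine ⟨?_, fun N i hN => ?_⟩
  · rw [rF_left]
    have h2 := K430.Frob.relFrob_isUnivHomeo p E.hom
    exact ((Groth.Agent.FlatA.UnivHomeo.isUnivHomeo_iff _).mp h2).2.2
  · have h3 := K490.IsogFlat.isPullback_left_of_isKernel hN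
    exact MorphismProperty.of_isPullback (P := @IsFinite) h3 (by rw [rF_left]; exact h1)

/-- The absolute Frobenius of the spectrum of a field. -/
theorem frob_spec : FrobSch.frob (Spec (CommRingCat.of K)) p = sp (frobenius K p) := by
  apply ext_of_isAffine
  ext s
  obtain ⟨x, rfl⟩ := (Scheme.ΓSpecIso (CommRingCat.of K)).commRingCatIsoToRingEquiv.symm.surjective s
  rw [FrobSch.frob_appTop]
  have h1 := congrArg (fun f => f.hom x) (Scheme.ΓSpecIso_inv_naturality (CommRingCat.ofHom (frobenius K p)))
  have h2 : (sp (frobenius K p)).appTop ((Scheme.ΓSpecIso (CommRingCat.of K)).inv x) =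
    (Scheme.ΓSpecIso (CommRingCat.of K)).inv (x ^ p) := h1.symm
  have h3 : (Scheme.ΓSpecIso (CommRingCat.of K)).commRingCatIsoToRingEquiv.symm x =
    (Scheme.ΓSpecIso (CommRingCat.of K)).inv x := rfl
  rw [h3, h2]
  exact (map_pow (Scheme.ΓSpecIso (CommRingCat.of K)).inv.hom x p).symm

end field

section bc

variable {R₁ K₁ R₂ K₂ : Type u} [CommRing R₁] [Field K₁] [Algebra R₁ K₁] [CommRing R₂] [Field K₂]
  [Algebra R₂ K₂]

/-- **Semistable reduction and base change.** -/
theorem hasSemistableReduction_bc (f : R₁ →+* R₂) (κ : K₁ →+* K₂)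
    (h : ∀ r, algebraMap R₂ K₂ (f r) = κ (algebraMap R₁ K₁ r))
    {A : Over (Spec (CommRingCat.of K₁))} [GrpObj A] (hA : SGA7.HasSemistableReduction R₁ K₁ A) :
    SGA7.HasSemistableReduction R₂ K₂ (Red.bc (sp κ) A) := by
  obtain ⟨G, iG, i, hi, h1, h2, h3, h4⟩ := hA
  have hi' : IsMonHom i.hom := hi
  let e : Grp.mk (Red.bc (sp (algebraMap R₁ K₁)) G) ≅ Grp.mk A :=
    Grp.mkIso i (one_f := IsMonHom.one_hom i.hom) (mul_f := IsMonHom.mul_hom i.hom)
  let e' := genIso f κ h G ≪≫ BcIso.bcMapIso (sp κ) e
  refine ⟨Red.bc (sp f) G, inferInstance, und e', inferInstance, ?_, ?_, ?_, ?_⟩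
  · change Smooth (pullback.snd G.hom (sp f))
    infer_instance
  · change IsSeparated (pullback.snd G.hom (sp f))
    infer_instance
  · change QuasiCompact (pullback.snd G.hom (sp f))
    infer_instance
  · exact Groth.Agent.Sga7.H738.RankZeroBc.fibresUnipotentRankZero_bc
      (fun k _ _ G _ _ j _ hj => Groth.Agent.Sga7.H760.L2 k G j hj) (sp f) G h4

end bc

section insep

variable (R K : Type u) [CommRing R] [IsDomain R] [IsDiscreteValuationRing R] [Field K]
  [Algebra R K] [IsFractionRing R K] (p : ℕ) [Fact p.Prime] [CharP K p]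

theorem of_twist (E : Over (Spec (CommRingCat.of K))) [GrpObj E] [IsProper E.hom]
    [GeometricallyIntegral E.hom]
    (h : SGA7.HasSemistableReduction R K (Red.bc (sp (frobenius K p)) E)) :
    SGA7.HasSemistableReduction R K E := by
  rw [← frob_spec] at h
  have h1 : IsProper (Red.bc (FrobSch.frob (Spec (CommRingCat.of K)) p) E).hom :=
    inferInstanceAs (IsProper (pullback.snd E.hom _))
  have h2 : GeometricallyIntegral (Red.bc (FrobSch.frob (Spec (CommRingCat.of K)) p) E).hom :=
    inferInstanceAs (GeometricallyIntegral (pullback.snd E.hom _))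
  exact (Groth.Agent.Sga7.H756.Assembly.main R K (rF p E) (isIsogenyOver_rF K p E)).2.mpr h

theorem of_iterate (n : ℕ) : ∀ (E : Over (Spec (CommRingCat.of K))) [GrpObj E] [IsProper E.hom]
    [GeometricallyIntegral E.hom],
    SGA7.HasSemistableReduction R K (Red.bc (sp (iterateFrobenius K p n)) E) →
    SGA7.HasSemistableReduction R K E := by
  induction n with
  | zero =>
    intro E _ _ _ h
    have h0 : sp (iterateFrobenius K p 0) = 𝟙 (Spec (CommRingCat.of K)) := by
      rw [iterateFrobenius_zero]
      exact Spec.map_id _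
    exact hasSemistableReduction_of_iso (BcIso.bcCongrIso h0 E ≪≫ BcIso.bcIdIso E) h
  | succ n ih =>
    intro E _ _ _ h
    have h1 : IsProper (Red.bc (sp (frobenius K p)) E).hom :=
      inferInstanceAs (IsProper (pullback.snd E.hom _))
    have h2 : GeometricallyIntegral (Red.bc (sp (frobenius K p)) E).hom :=
      inferInstanceAs (GeometricallyIntegral (pullback.snd E.hom _))
    refine of_twist R K p E (ih _ ?_)
    refine hasSemistableReduction_of_iso ?_ h
    refine BcIso.bcCongrIso ?_ E ≪≫ BcIso.bcCompIso (sp (iterateFrobenius K p n)) (sp (frobenius K p)) E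
    rw [sp_comp]
    congr 1
    ext x
    simp [iterateFrobenius_def, frobenius_def, pow_succ', pow_mul]

variable (L : Type u) [Field L] [Algebra K L] [FiniteDimensional K L] [IsPurelyInseparable K L]
  [Algebra R L] [IsScalarTower R K L]

omit [CharP K p] in
theorem exists_exponent [CharP K p] : ∃ n : ℕ, ∀ l : L, ∃ k : K, algebraMap K L k = l ^ p ^ n := by
  have hE : ExpChar K p := ExpChar.prime Fact.out
  exact ⟨_, IsPurelyInseparable.exponent_def' K p⟩

include p in
/-- **Semistable reduction and purely inseparable extensions.** -/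
theorem semistable_iff_of_isPurelyInseparable (E : Over (Spec (CommRingCat.of K))) [GrpObj E]
    [IsProper E.hom] [GeometricallyIntegral E.hom] :
    SGA7.HasSemistableReduction R K E ↔
      SGA7.HasSemistableReduction (integralClosure R L) L (Red.bc (sp (algebraMap K L)) E) := by
  constructor
  · intro h
    refine hasSemistableReduction_bc (algebraMap R (integralClosure R L)) (algebraMap K L)
      (fun r => ?_) h
    rw [← IsScalarTower.algebraMap_apply, ← IsScalarTower.algebraMap_apply]
  · intro h
    obtain ⟨n, hn⟩ := exists_exponent K p L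
    have hcL : CharP L p := charP_of_injective_algebraMap (algebraMap K L).injective p
    choose lam hlam using hn
    let Λ : L →+* K :=
      { toFun := lam
        map_one' := (algebraMap K L).injective (by rw [hlam, map_one, one_pow])
        map_zero' := (algebraMap K L).injective (by
          rw [hlam, map_zero, zero_pow (pow_ne_zero _ (Fact.out : p.Prime).ne_zero)])
        map_mul' := fun x y => (algebraMap K L).injective (by
          rw [hlam, map_mul, hlam, hlam, mul_pow])
        map_add' := fun x y => (algebraMap K L).injective (by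
          rw [hlam, map_add, hlam, hlam, add_pow_char_pow]) }
    have hΛ : ∀ l : L, algebraMap K L (Λ l) = l ^ p ^ n := hlam
    have hint : ∀ x : integralClosure R L, ∃ r : R, algebraMap R K r = Λ x := by
      intro x
      have h1 : IsIntegral R (algebraMap K L (Λ x)) := by
        rw [hΛ]
        exact x.2.pow _
      exact IsIntegrallyClosed.isIntegral_iff.mp
        ((isIntegral_algebraMap_iff (algebraMap K L).injective).mp h1)
    choose fr hfr using hint
    have hinj := IsFractionRing.injective R K
    let F : integralClosure R L →+* R :=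
      { toFun := fr
        map_one' := hinj (by rw [hfr]; simp)
        map_zero' := hinj (by rw [hfr]; simp)
        map_mul' := fun x y => hinj (by rw [hfr, map_mul, hfr, hfr]; simp)
        map_add' := fun x y => hinj (by rw [hfr, map_add, hfr, hfr]; simp) }
    have h2 := hasSemistableReduction_bc F Λ (fun x => hfr x) h
    refine of_iterate R K p n E ?_
    refine hasSemistableReduction_of_iso ?_ h2
    refine (BcIso.bcCompIso (sp Λ) (sp (algebraMap K L)) E).symm ≪≫ BcIso.bcCongrIso ?_ E
    rw [sp_comp]
    congr 1
    ext x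
    apply (algebraMap K L).injective
    rw [RingHom.comp_apply, hΛ, iterateFrobenius_def, map_pow]

end insep

end K491.FrobIsog
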