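import Groth.Agent.Sga3B.BcPts
import Groth.Agent.Sga3B.Pts
import Groth.Prelude.Def_WeilRes
import Mathlib.AlgebraicGeometry.Morphisms.FlatMono
import Mathlib.RingTheory.Etale.Field
import Mathlib.FieldTheory.Normal.Basic

/-!
# A Weil restriction along a finite Galois extension splits into the conjugates

`L / K` a finite Galois extension, `T` an `L`-scheme.  The sections `T ⟶ T ×_K L` attached to
the automorphisms of `L` over `K` are disjoint open immersions which cover `T ×_K L`; hence for a Weil restriction
`(A, q)` of an `L`-scheme `E` the points of `A_L` are the families of points of the conjugates of `E`.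
The first section (specialisation) is the one of `WeilRes.K933.WRTorus`, repeated to keep the imports light.
-/

set_option autoImplicit false
universe u

open CategoryTheory Limits MonoidalCategory CartesianMonoidalCategory MonObj AlgebraicGeometry

namespace K491.GalWeil

open Groth.Agent.Sga3B.BcPts

section sect

variable {S S' V : Scheme.{u}} {f : S' ⟶ S} {v : V ⟶ S} {w : V ⟶ S'} (hw : w ≫ f = v)

/-- The tautological section of `T ×_S S' → T` for a scheme `T` over `V → S'`. -/
noncomputable def sect (T : Over V) :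
    (Over.map w).obj T ⟶ Red.bc f ((Over.map v).obj T) :=
  Over.homMk (pullback.lift (𝟙 T.left) (T.hom ≫ w) (by
    change 𝟙 T.left ≫ T.hom ≫ v = (T.hom ≫ w) ≫ f
    rw [Category.id_comp, Category.assoc, hw])) (pullback.lift_snd _ _ _)

lemma sect_left_fst (T : Over V) :
    (sect hw T).left ≫ pullback.fst ((Over.map v).obj T).hom f = 𝟙 T.left :=
  pullback.lift_fst _ _ _

lemma sect_left_snd (T : Over V) :
    (sect hw T).left ≫ pullback.snd ((Over.map v).obj T).hom f = T.hom ≫ w :=
  pullback.lift_snd _ _ _

lemma sect_naturality {T₁ T : Over V} (g : T₁ ⟶ T) :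
    (Over.map w).map g ≫ sect hw T =
      sect hw T₁ ≫ (Over.pullback f).map ((Over.map v).map g) := by
  apply Over.OverMorphism.ext
  apply pullback.hom_ext
  · rw [Over.comp_left, Over.comp_left, Category.assoc, Category.assoc]
    refine (congrArg (fun k => ((Over.map w).map g).left ≫ k) (sect_left_fst hw T)).trans ?_
    have h1 : ((Over.pullback f).map ((Over.map v).map g)).left ≫
      pullback.fst ((Over.map v).obj T).hom f =
        pullback.fst ((Over.map v).obj T₁).hom f ≫ g.left := pullback.lift_fst _ _ _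
    refine Eq.trans ?_ (congrArg (fun k => (sect hw T₁).left ≫ k) h1).symm
    change g.left ≫ 𝟙 T.left = (sect hw T₁).left ≫ pullback.fst ((Over.map v).obj T₁).hom f ≫ g.left
    rw [← Category.assoc, sect_left_fst, Category.comp_id]
    exact (Category.id_comp _).symm
  · rw [Over.comp_left, Over.comp_left, Category.assoc, Category.assoc]
    refine (congrArg (fun k => ((Over.map w).map g).left ≫ k) (sect_left_snd hw T)).trans ?_
    have h1 : ((Over.pullback f).map ((Over.map v).map g)).left ≫
      pullback.snd ((Over.map v).obj T).hom f =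
        pullback.snd ((Over.map v).obj T₁).hom f := pullback.lift_snd _ _ _
    refine Eq.trans ?_ (congrArg (fun k => (sect hw T₁).left ≫ k) h1).symm
    change g.left ≫ T.hom ≫ w = (sect hw T₁).left ≫ pullback.snd ((Over.map v).obj T₁).hom f
    rw [sect_left_snd, ← Category.assoc, Over.w g]

variable {E : Over S'} {R : Over S} (q : Red.bc f R ⟶ E)

/-- Points of the Weil restriction give points of the fibre at `w`. -/
noncomputable def spec (T : Over V) (g : T ⟶ Red.bc v R) : T ⟶ Red.bc w E :=
  bcEquiv w T E (sect hw T ≫ WeilRes.restr f q ((Over.map v).obj T) ((bcEquiv v T R).symm g))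

lemma comp_spec {T₁ T : Over V} (h : T₁ ⟶ T) (g : T ⟶ Red.bc v R) :
    h ≫ spec hw q T g = spec hw q T₁ (h ≫ g) := by
  rw [spec, spec, comp_bcEquiv_symm, ← comp_bcEquiv, ← Category.assoc, sect_naturality,
    WeilRes.restr_comp, Category.assoc]

lemma spec_mul [GrpObj E] [GrpObj R] [IsMonHom q] {T : Over V} (g h : T ⟶ Red.bc v R) :
    spec hw q T (g * h) = spec hw q T g * spec hw q T h := by
  have h1 : (bcEquiv v T R).symm (g * h) = (bcEquiv v T R).symm g * (bcEquiv v T R).symm h :=
    map_mul (bcMulEquiv v T R).symm g h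
  rw [spec, h1, WeilRes.restr_mul, MonObj.comp_mul, bcEquiv_mul]
  rfl

theorem isMonHom_spec [GrpObj E] [GrpObj R] [IsMonHom q] {G : Over V} [GrpObj G]
    (φ : G ⟶ Red.bc v R) [IsMonHom φ] : IsMonHom (spec hw q G φ) := by
  refine Groth.Agent.Sga3B.Pts.isMonHom_of_points _ fun T x y => ?_
  rw [comp_spec, comp_spec, comp_spec, ← spec_mul, MonObj.mul_comp]

end sect

section

variable (K L : Type u) [Field K] [Field L] [Algebra K L]

/-- the structure map of the field extension -/
noncomputable abbrev ext : Spec (CommRingCat.of L) ⟶ Spec (CommRingCat.of K) :=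
  Spec.map (CommRingCat.ofHom (algebraMap K L))

variable {K L} in
/-- the action of an automorphism -/
noncomputable abbrev conj (σ : L ≃ₐ[K] L) : Spec (CommRingCat.of L) ⟶ Spec (CommRingCat.of L) :=
  Spec.map (CommRingCat.ofHom (σ : L →+* L))

lemma conj_ext (σ : L ≃ₐ[K] L) : conj σ ≫ ext K L = ext K L := by
  rw [ext, conj, ← Spec.map_comp, ← CommRingCat.ofHom_comp]
  congr 2
  ext x
  exact σ.commutes x

lemma etale_ext [FiniteDimensional K L] [Algebra.IsSeparable K L] : Etale (ext K L) := by
  rw [HasRingHomProperty.Spec_iff (P := @Etale)]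
  have h1 : Algebra.FormallyEtale K L := Algebra.FormallyEtale.of_isSeparable K L
  have h2 : Algebra.Etale K L := ⟨h1, (Algebra.FinitePresentation.of_finiteType).mp inferInstance⟩
  exact (RingHom.etale_algebraMap).mpr h2

variable (T : Over (Spec (CommRingCat.of L)))

/-- the scheme `T ×_K L` -/
noncomputable abbrev PT : Scheme.{u} := pullback ((Over.map (ext K L)).obj T).hom (ext K L)

/-- the first projection -/
noncomputable abbrev p1 : PT K L T ⟶ T.left := pullback.fst ((Over.map (ext K L)).obj T).hom (ext K L)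

/-- the second projection -/
noncomputable abbrev p2 : PT K L T ⟶ Spec (CommRingCat.of L) :=
  pullback.snd ((Over.map (ext K L)).obj T).hom (ext K L)

lemma p1_p2 : p1 K L T ≫ T.hom ≫ ext K L = p2 K L T ≫ ext K L := pullback.condition

/-- the sections -/
noncomputable abbrev sec (σ : L ≃ₐ[K] L) : T.left ⟶ PT K L T := (sect (conj_ext K L σ) T).left

lemma sec_fst (σ : L ≃ₐ[K] L) : sec K L T σ ≫ p1 K L T = 𝟙 T.left := sect_left_fst _ _

lemma sec_snd (σ : L ≃ₐ[K] L) : sec K L T σ ≫ p2 K L T = T.hom ≫ conj σ := sect_left_snd _ _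

instance mono_sec (σ : L ≃ₐ[K] L) : Mono (sec K L T σ) := by
  have : Mono (sec K L T σ ≫ p1 K L T) := by
    rw [sec_fst]; infer_instance
  exact mono_of_mono _ (p1 K L T)

instance isOpenImmersion_sec [FiniteDimensional K L] [Algebra.IsSeparable K L] (σ : L ≃ₐ[K] L) : IsOpenImmersion (sec K L T σ) := by
  have h1 : Etale (ext K L) := etale_ext K L
  have h2 : Etale (p1 K L T) := inferInstance
  have h3 : Etale (sec K L T σ) := by
    have h4 : Etale (sec K L T σ ≫ p1 K L T) := by
      rw [sec_fst]; infer_instance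
    exact Etale.of_comp (sec K L T σ) (p1 K L T)
  exact IsOpenImmersion.of_flat_of_mono _

/-- Every point of `T ×_K L` lies on one of the sections. -/
theorem exists_mem_range [Normal K L] (x : PT K L T) : ∃ σ : L ≃ₐ[K] L, x ∈ Set.range (sec K L T σ) := by
  let i : Spec ((PT K L T).residueField x) ⟶ PT K L T := (PT K L T).fromSpecResidueField x
  let a : L →+* (PT K L T).residueField x := (Spec.preimage (i ≫ p1 K L T ≫ T.hom)).hom
  let b : L →+* (PT K L T).residueField x := (Spec.preimage (i ≫ p2 K L T)).hom
  have ha : Spec.map (CommRingCat.ofHom a) = i ≫ p1 K L T ≫ T.hom := Spec.map_preimage _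
  have hb : Spec.map (CommRingCat.ofHom b) = i ≫ p2 K L T := Spec.map_preimage _
  have hab : a.comp (algebraMap K L) = b.comp (algebraMap K L) := by
    have h1 : CommRingCat.ofHom (a.comp (algebraMap K L)) = CommRingCat.ofHom (b.comp (algebraMap K L)) := by
      apply Spec.map_injective
      rw [CommRingCat.ofHom_comp, CommRingCat.ofHom_comp, Spec.map_comp, Spec.map_comp, ha, hb]
      change (i ≫ p1 K L T ≫ T.hom) ≫ ext K L = (i ≫ p2 K L T) ≫ ext K L
      rw [Category.assoc, Category.assoc, Category.assoc, p1_p2]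
    exact congrArg CommRingCat.Hom.hom h1
  let _ : Algebra L ((PT K L T).residueField x) := a.toAlgebra
  let _ : Algebra K ((PT K L T).residueField x) := (a.comp (algebraMap K L)).toAlgebra
  have : IsScalarTower K L ((PT K L T).residueField x) := IsScalarTower.of_algebraMap_eq' rfl
  let b' : L →ₐ[K] (PT K L T).residueField x := { b with commutes' := fun r => (congrArg (fun f => f r) hab).symm }
  let σ : L ≃ₐ[K] L := Normal.algHomEquivAut K ((PT K L T).residueField x) L b'
  have hσ : b = a.comp (σ : L →+* L) := by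
    have h1 : (Normal.algHomEquivAut K ((PT K L T).residueField x) L).symm σ = b' := Equiv.symm_apply_apply _ _
    refine RingHom.ext fun y => ?_
    exact (congrArg (fun f : L →ₐ[K] (PT K L T).residueField x => f y) h1).symm
  refine ⟨σ, ?_⟩
  have h3 : i = (i ≫ p1 K L T) ≫ sec K L T σ := by
    apply pullback.hom_ext
    · change i ≫ p1 K L T = ((i ≫ p1 K L T) ≫ sec K L T σ) ≫ p1 K L T
      rw [Category.assoc (i ≫ p1 K L T), sec_fst, Category.comp_id]
    · change i ≫ p2 K L T = ((i ≫ p1 K L T) ≫ sec K L T σ) ≫ p2 K L T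
      rw [Category.assoc (i ≫ p1 K L T), sec_snd, ← hb, hσ, CommRingCat.ofHom_comp, Spec.map_comp, ha]
      simp only [Category.assoc]
  have h4 : i (IsLocalRing.closedPoint _) = x := Scheme.fromSpecResidueField_apply _ _
  refine ⟨(i ≫ p1 K L T) (IsLocalRing.closedPoint _), ?_⟩
  rw [← Scheme.Hom.comp_apply]
  exact (congrArg (fun k : Spec ((PT K L T).residueField x) ⟶ PT K L T => k (IsLocalRing.closedPoint _)) h3.symm).trans h4

/-- The sections are disjoint. -/
theorem isEmpty_pullback {σ τ : L ≃ₐ[K] L} (h : σ ≠ τ) :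
    IsEmpty ↥(pullback (sec K L T σ) (sec K L T τ)) := by
  constructor
  intro p
  apply h
  let i : Spec ((pullback (sec K L T σ) (sec K L T τ)).residueField p) ⟶ pullback (sec K L T σ) (sec K L T τ) :=
    (pullback (sec K L T σ) (sec K L T τ)).fromSpecResidueField p
  have h0 : i ≫ pullback.fst (sec K L T σ) (sec K L T τ) ≫ sec K L T σ =
      i ≫ pullback.snd (sec K L T σ) (sec K L T τ) ≫ sec K L T τ := by rw [pullback.condition]
  have h1 : i ≫ pullback.fst (sec K L T σ) (sec K L T τ) = i ≫ pullback.snd _ _ := by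
    have h2 := congrArg (fun k => k ≫ p1 K L T) h0
    simp only [Category.assoc] at h2
    rwa [sec_fst, sec_fst, Category.comp_id, Category.comp_id] at h2
  have h3 : (i ≫ pullback.fst (sec K L T σ) (sec K L T τ) ≫ T.hom) ≫ conj σ =
      (i ≫ pullback.fst (sec K L T σ) (sec K L T τ) ≫ T.hom) ≫ conj τ := by
    have h2 := congrArg (fun k => k ≫ p2 K L T) h0
    simp only [Category.assoc] at h2
    rw [sec_snd, sec_snd, ← Category.assoc i (pullback.snd _ _), ← h1] at h2
    simpa only [Category.assoc] using h2
  let a : L →+* (pullback (sec K L T σ) (sec K L T τ)).residueField p :=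
    (Spec.preimage (i ≫ pullback.fst _ _ ≫ T.hom)).hom
  have ha : Spec.map (CommRingCat.ofHom a) = i ≫ pullback.fst _ _ ≫ T.hom := Spec.map_preimage _
  rw [← ha, ← Spec.map_comp, ← Spec.map_comp, ← CommRingCat.ofHom_comp, ← CommRingCat.ofHom_comp] at h3
  have h4 := congrArg CommRingCat.Hom.hom (Spec.map_injective h3)
  refine AlgEquiv.ext fun y => a.injective ?_
  exact congrArg (fun f : L →+* (pullback (sec K L T σ) (sec K L T τ)).residueField p => f y) h4

variable [FiniteDimensional K L] [IsGalois K L]

/-- the covering of `T ×_K L` by the sections -/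
noncomputable def cov : Scheme.OpenCover (PT K L T) :=
  Scheme.Cover.mkOfCovers (L ≃ₐ[K] L) (fun _ => T.left) (fun σ => sec K L T σ)
    (fun x => exists_mem_range K L T x) (fun _ => isOpenImmersion_sec K L T _)

/-- **Morphisms out of `T ×_K L` are families of morphisms out of the conjugates of `T`.** -/
theorem bijective_sect (E : Over (Spec (CommRingCat.of L))) :
    Function.Bijective (fun (g : Red.bc (ext K L) ((Over.map (ext K L)).obj T) ⟶ E) (σ : L ≃ₐ[K] L) =>
      sect (conj_ext K L σ) T ≫ g) := by
  constructor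
  · intro g g' h
    ext1
    refine Scheme.Cover.hom_ext (cov K L T) _ _ fun σ => ?_
    exact congrArg (fun k => k.left) (congrFun h σ)
  · intro h
    have hc : ∀ σ τ : L ≃ₐ[K] L, pullback.fst (sec K L T σ) (sec K L T τ) ≫ (h σ).left =
        pullback.snd (sec K L T σ) (sec K L T τ) ≫ (h τ).left := by
      intro σ τ
      by_cases hst : σ = τ
      · subst hst
        have h1 : pullback.fst (sec K L T σ) (sec K L T σ) = pullback.snd _ _ := by
          rw [← cancel_mono (sec K L T σ), pullback.condition]
        rw [h1]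
      · have := isEmpty_pullback K L T hst
        exact (isInitialOfIsEmpty (X := pullback (sec K L T σ) (sec K L T τ))).hom_ext _ _
    let g := (cov K L T).glueMorphisms (fun σ => (h σ).left) hc
    have hg : ∀ σ, sec K L T σ ≫ g = (h σ).left := fun σ => (cov K L T).ι_glueMorphisms _ _ σ
    refine ⟨Over.homMk g ?_, ?_⟩
    · refine Scheme.Cover.hom_ext (cov K L T) _ _ fun σ => ?_
      change sec K L T σ ≫ g ≫ E.hom = sec K L T σ ≫ p2 K L T
      rw [← Category.assoc, hg, sec_snd]
      exact Over.w (h σ)
    · funext σ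
      ext1
      exact hg σ

omit [FiniteDimensional K L] [IsGalois K L] in
variable {K L} in
/-- the components of `A_L` -/
noncomputable def comp {E : Over (Spec (CommRingCat.of L))} {A : Over (Spec (CommRingCat.of K))}
    (q : Red.bc (ext K L) A ⟶ E) (σ : L ≃ₐ[K] L) : Red.bc (ext K L) A ⟶ Red.bc (conj σ) E :=
  spec (conj_ext K L σ) q _ (𝟙 _)

instance isMonHom_comp {E : Over (Spec (CommRingCat.of L))} {A : Over (Spec (CommRingCat.of K))}
    [GrpObj E] [GrpObj A] (q : Red.bc (ext K L) A ⟶ E) [IsMonHom q] (σ : L ≃ₐ[K] L) : IsMonHom (comp q σ) :=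
  isMonHom_spec _ q _

/-- **The base change to `L` of a Weil restriction along a finite Galois extension is the product of the
conjugates** (in terms of points). -/
theorem bijective_comp {E : Over (Spec (CommRingCat.of L))} {A : Over (Spec (CommRingCat.of K))}
    {q : Red.bc (ext K L) A ⟶ E} (hA : WeilRes.IsWeilRes (ext K L) E A q) (T : Over (Spec (CommRingCat.of L))) :
    Function.Bijective (fun (g : T ⟶ Red.bc (ext K L) A) (σ : L ≃ₐ[K] L) => g ≫ comp q σ) := by
  have h1 := (Equiv.piCongrRight (fun σ : L ≃ₐ[K] L => bcEquiv (conj σ) T E)).bijective.comp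
    ((bijective_sect K L T E).comp ((hA ((Over.map (ext K L)).obj T)).comp (bcEquiv (ext K L) T A).symm.bijective))
  have h2 : (fun (g : T ⟶ Red.bc (ext K L) A) (σ : L ≃ₐ[K] L) => g ≫ comp q σ) =
      (Equiv.piCongrRight (fun σ : L ≃ₐ[K] L => bcEquiv (conj σ) T E)) ∘
        (fun (g : Red.bc (ext K L) ((Over.map (ext K L)).obj T) ⟶ E) (σ : L ≃ₐ[K] L) =>
          sect (conj_ext K L σ) T ≫ g) ∘
        (WeilRes.restr (ext K L) q ((Over.map (ext K L)).obj T)) ∘ (bcEquiv (ext K L) T A).symm := by
    funext g σ
    change g ≫ spec (conj_ext K L σ) q _ (𝟙 _) = spec (conj_ext K L σ) q T g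
    rw [comp_spec, Category.comp_id]
  rw [h2]
  exact h1

end

end K491.GalWeil
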