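import Groth.Prelude.Def_AlgGrp
import Groth.Prelude.Def_Neron

/-!
# Additive functions on group schemes, systems of additive polynomials (definitions)
-/

set_option autoImplicit false
universe u

open CategoryTheory CategoryTheory.Limits AlgebraicGeometry MonObj MonoidalCategory CartesianMonoidalCategory
open scoped TensorProduct

namespace K491.PDefs

section

variable {S : Scheme.{u}}

/-- The value of a global function at a point. -/
def ev {G T : Over S} (f : Γ(G.left, ⊤)) (a : T ⟶ G) : Γ(T.left, ⊤) := a.left.appTop.hom f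

/-- An additive function on a group scheme. -/
def IsAdd (G : Over S) [GrpObj G] (f : Γ(G.left, ⊤)) : Prop :=
  ∀ (T : Over S) (a b : T ⟶ G), ev f (a * b) = ev f a + ev f b

end

variable (K : Type u) [Field K]

/-- The structure homomorphism of the ring of global functions. -/
noncomputable def str (G : Over (Spec (CommRingCat.of K))) : K →+* Γ(G.left, ⊤) :=
  G.hom.appTop.hom.comp (Scheme.ΓSpecIso (CommRingCat.of K)).inv.hom

/-- `x` are additive coordinates: they identify `G` with a closed subgroup of `G_a ^ n`. -/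
structure IsVec (G : Over (Spec (CommRingCat.of K))) [GrpObj G] {n : ℕ} (x : Fin n → Γ(G.left, ⊤)) : Prop where
  affine : IsAffine G.left
  add : ∀ l, IsAdd G (x l)
  gen : ∀ A : Subring Γ(G.left, ⊤), (∀ c, str K G c ∈ A) → (∀ l, x l ∈ A) → A = ⊤

variable {K}

/-- The value of the `j`-th additive polynomial of the system `F`. -/
noncomputable def addVal (p : ℕ) {A : Type*} [CommRing A] (ρ : K →+* A) {m n : ℕ} (F : Fin m → Fin n → (ℕ →₀ K))
    (j : Fin m) (y : Fin n → A) : A :=
  ∑ l, (F j l).sum fun k a => ρ a * y l ^ p ^ k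

/-- Pseudo-abelian: all smooth connected affine closed subgroups are trivial. -/
def IsPA (P : Over (Spec (CommRingCat.of K))) [GrpObj P] : Prop :=
  ∀ (H : Over (Spec (CommRingCat.of K))) [GrpObj H] (j : H ⟶ P) [IsMonHom j],
    IsClosedImmersion j.left → Smooth H.hom → ConnectedSpace ↥H.left → IsAffine H.left → IsIso η[H]

section lemmas

variable {S : Scheme.{u}} {G T T' : Over S}

lemma ev_comp (f : Γ(G.left, ⊤)) (b : T' ⟶ T) (a : T ⟶ G) : ev f (b ≫ a) = ev (ev f a) b := rfl

lemma ev_add (f g : Γ(G.left, ⊤)) (a : T ⟶ G) : ev (f + g) a = ev f a + ev g a := map_add _ _ _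

lemma ev_mul (f g : Γ(G.left, ⊤)) (a : T ⟶ G) : ev (f * g) a = ev f a * ev g a := map_mul _ _ _

lemma ev_str {G T : Over (Spec (CommRingCat.of K))} (c : K) (a : T ⟶ G) : ev (str K G c) a = str K T c := by
  have h : G.hom.appTop ≫ a.left.appTop = T.hom.appTop := by
    rw [← Scheme.Hom.comp_appTop, Over.w]
  exact congr($(h).hom ((Scheme.ΓSpecIso (CommRingCat.of K)).inv.hom c))

lemma IsAdd.one {G : Over S} [GrpObj G] {f : Γ(G.left, ⊤)} (hf : IsAdd G f) (T : Over S) : ev f (1 : T ⟶ G) = 0 := by
  have h := hf T 1 1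
  rw [_root_.one_mul] at h
  exact left_eq_add.mp h

lemma IsAdd.inv {G : Over S} [GrpObj G] {f : Γ(G.left, ⊤)} (hf : IsAdd G f) {T : Over S} (a : T ⟶ G) :
    ev f a⁻¹ = - ev f a := by
  have h := hf T a⁻¹ a
  rw [_root_.inv_mul_cancel, hf.one] at h
  exact eq_neg_of_add_eq_zero_left h.symm

/-- Two points of an affine scheme with the same additive coordinates are equal. -/
lemma IsVec.ext {G : Over (Spec (CommRingCat.of K))} [GrpObj G] {n : ℕ} {x : Fin n → Γ(G.left, ⊤)}
    (hx : IsVec K G x) {T : Over (Spec (CommRingCat.of K))} {a b : T ⟶ G} (h : ∀ l, ev (x l) a = ev (x l) b) :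
    a = b := by
  have := hx.affine
  let A : Subring Γ(G.left, ⊤) := RingHom.eqLocus a.left.appTop.hom b.left.appTop.hom
  have hA : A = ⊤ := hx.gen A (fun c => by
    change ev (str K G c) a = ev (str K G c) b
    rw [ev_str, ev_str]) h
  ext1
  apply ext_of_isAffine
  ext f
  have : f ∈ A := by rw [hA]; trivial
  exact this

variable {p : ℕ} {A B : Type*} [CommRing A] [CommRing B] {K : Type*} [Field K] {m n : ℕ}
  (F : Fin m → Fin n → (ℕ →₀ K)) (j : Fin m)

lemma map_addVal (φ : A →+* B) (ρ : K →+* A) (y : Fin n → A) :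
    φ (addVal p ρ F j y) = addVal p (φ.comp ρ) F j (fun l => φ (y l)) := by
  simp [addVal, Finsupp.sum, map_sum]

lemma addVal_add [Fact p.Prime] [CharP A p] (ρ : K →+* A) (y y' : Fin n → A) :
    addVal p ρ F j (fun l => y l + y' l) = addVal p ρ F j y + addVal p ρ F j y' := by
  simp only [addVal, Finsupp.sum, add_pow_char_pow, mul_add, Finset.sum_add_distrib]

lemma addVal_zero [Fact p.Prime] (ρ : K →+* A) : addVal p ρ F j (fun _ => 0) = 0 := by
  simp only [addVal, Finsupp.sum]
  refine Finset.sum_eq_zero fun l _ => Finset.sum_eq_zero fun k _ => ?_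
  rw [zero_pow (pow_ne_zero _ (Fact.out : p.Prime).ne_zero), mul_zero]

end lemmas

end K491.PDefs
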