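import Groth.Agent.Neron.K491.AsData
import Groth.Agent.Ega4dB.SchDense
import Groth.Agent.FlatA.EtaleSections

/-!
# Neron models as algebraic spaces: the data from a Neron model after a smooth cover
-/

set_option autoImplicit false
universe u

open CategoryTheory CategoryTheory.Limits AlgebraicGeometry Opposite

namespace K491.AsBuild

open K491.AsData

variable {S S' : Scheme.{u}} (g : S' ⟶ S) (U : S.Opens) {A : Scheme.{u}} (a : A ⟶ (U : Scheme.{u}))
  (N' : Over S')

abbrev US : Over S := Over.mk U.ι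
abbrev AS : Over S := Over.mk (a ≫ U.ι)
abbrev αU : AS U a ⟶ US U := Over.homMk a
abbrev SS : Over S := Over.mk g
abbrev NN : Over S := Over.mk (N'.hom ≫ g)
abbrev νν : NN g N' ⟶ SS g := Over.homMk N'.hom

lemma sub {T : Over S} (x y : T ⟶ US U) : x = y := by
  ext1
  rw [← cancel_mono U.ι]
  exact (Over.w x).trans (Over.w y).symm

/-- The point of `g⁻¹U` over a point of `S'` and a point of `U`. -/
noncomputable def up {T : Over S} (v : T ⟶ US U) (h : T ⟶ SS g) : T.left ⟶ (g ⁻¹ᵁ U) :=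
  (isPullback_morphismRestrict g U).lift v.left h.left ((Over.w v).trans (Over.w h).symm)

@[reassoc]
lemma up_ι {T : Over S} (v : T ⟶ US U) (h : T ⟶ SS g) : up g U v h ≫ (g ⁻¹ᵁ U).ι = h.left :=
  (isPullback_morphismRestrict g U).lift_snd _ _ _

@[reassoc]
lemma up_res {T : Over S} (v : T ⟶ US U) (h : T ⟶ SS g) : up g U v h ≫ (g ∣_ U) = v.left :=
  (isPullback_morphismRestrict g U).lift_fst _ _ _

/-- The point of `N' ×_{S'} U'`. -/
noncomputable def pt {T : Over S} (v : T ⟶ US U) (x : T ⟶ NN g N') :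
    T.left ⟶ pullback N'.hom (g ⁻¹ᵁ U).ι :=
  pullback.lift x.left (up g U v (x ≫ νν g N')) (by rw [up_ι]; rfl)

@[reassoc]
lemma pt_fst {T : Over S} (v : T ⟶ US U) (x : T ⟶ NN g N') : pt g U N' v x ≫ pullback.fst _ _ = x.left :=
  pullback.lift_fst _ _ _

@[reassoc]
lemma pt_snd {T : Over S} (v : T ⟶ US U) (x : T ⟶ NN g N') :
    pt g U N' v x ≫ pullback.snd _ _ = up g U v (x ≫ νν g N') :=
  pullback.lift_snd _ _ _

lemma comp_up {T T' : Over S} (t : T' ⟶ T) (v : T ⟶ US U) (h : T ⟶ SS g) :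
    t.left ≫ up g U v h = up g U (t ≫ v) (t ≫ h) := by
  rw [← cancel_mono (g ⁻¹ᵁ U).ι, Category.assoc, up_ι, up_ι, Over.comp_left]

lemma comp_pt {T T' : Over S} (t : T' ⟶ T) (v : T ⟶ US U) (x : T ⟶ NN g N') :
    t.left ≫ pt g U N' v x = pt g U N' (t ≫ v) (t ≫ x) := by
  apply pullback.hom_ext
  · rw [Category.assoc, pt_fst, pt_fst, Over.comp_left]
  · rw [Category.assoc, pt_snd, pt_snd, comp_up, Category.assoc]

variable (e' : pullback N'.hom (g ⁻¹ᵁ U).ι ≅ pullback a (g ∣_ U))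
    (he' : e'.hom ≫ pullback.snd a (g ∣_ U) = pullback.snd N'.hom (g ⁻¹ᵁ U).ι)

include he' in
lemma pt_e_a {T : Over S} (v : T ⟶ US U) (x : T ⟶ NN g N') :
    pt g U N' v x ≫ e'.hom ≫ pullback.fst a (g ∣_ U) ≫ a = v.left := by
  rw [pullback.condition, reassoc_of% he', pt_snd_assoc, up_res]

/-- The point of `A`. -/
noncomputable def rho {T : Over S} (v : T ⟶ US U) (x : T ⟶ NN g N') : T ⟶ AS U a :=
  Over.homMk (pt g U N' v x ≫ e'.hom ≫ pullback.fst a (g ∣_ U)) (by
    have := congrArg (· ≫ U.ι) (pt_e_a g U a N' e' he' v x)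
    simp only [Category.assoc] at this
    simp only [Over.mk_hom, Category.assoc]
    rw [this]
    exact Over.w v)

lemma rho_left {T : Over S} (v : T ⟶ US U) (x : T ⟶ NN g N') :
    (rho g U a N' e' he' v x).left = pt g U N' v x ≫ e'.hom ≫ pullback.fst a (g ∣_ U) := rfl

lemma comp_rho {T T' : Over S} (t : T' ⟶ T) (v : T ⟶ US U) (x : T ⟶ NN g N') :
    t ≫ rho g U a N' e' he' v x = rho g U a N' e' he' (t ≫ v) (t ≫ x) := by
  ext1
  rw [Over.comp_left, rho_left, rho_left, ← comp_pt, Category.assoc]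

lemma rho_inj {T : Over S} (v : T ⟶ US U) (x y : T ⟶ NN g N')
    (h : rho g U a N' e' he' v x = rho g U a N' e' he' v y) (h' : x ≫ νν g N' = y ≫ νν g N') : x = y := by
  ext1
  have h1 := congrArg (fun w => w.left) h
  rw [rho_left, rho_left] at h1
  rw [← pt_fst g U N' v x, ← pt_fst g U N' v y]
  congr 1
  rw [← cancel_mono e'.hom]
  apply pullback.hom_ext
  · rw [Category.assoc, Category.assoc, h1]
  · rw [Category.assoc, Category.assoc, he', pt_snd, pt_snd, h']

lemma rho_surj {T : Over S} (v : T ⟶ US U) (α : T ⟶ AS U a) (h : T ⟶ SS g) :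
    ∃ x, rho g U a N' e' he' v x = α ∧ x ≫ νν g N' = h := by
  have hα : α.left ≫ a = up g U v h ≫ (g ∣_ U) := by
    rw [up_res, ← cancel_mono U.ι, Category.assoc]
    exact (Over.w α).trans (Over.w v).symm
  let x0 : T.left ⟶ N'.left := pullback.lift α.left (up g U v h) hα ≫ e'.inv ≫ pullback.fst _ _
  have hx0 : x0 ≫ N'.hom = h.left := by
    simp only [x0, Category.assoc]
    rw [pullback.condition, ← reassoc_of% he', Iso.inv_hom_id_assoc, pullback.lift_snd_assoc, up_ι]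
  let x : T ⟶ NN g N' := Over.homMk x0 (by
    change x0 ≫ N'.hom ≫ g = _
    rw [reassoc_of% hx0]
    exact Over.w h)
  have hxh : x ≫ νν g N' = h := by
    ext1
    exact hx0
  have hpt : pt g U N' v x = pullback.lift α.left (up g U v h) hα ≫ e'.inv := by
    apply pullback.hom_ext
    · rw [pt_fst, Category.assoc]
      rfl
    · rw [pt_snd, hxh, Category.assoc, ← he', Iso.inv_hom_id_assoc, pullback.lift_snd]
  refine ⟨x, ?_, hxh⟩
  ext1
  rw [rho_left, hpt, Category.assoc, Iso.inv_hom_id_assoc, pullback.lift_fst]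

theorem ext [Smooth N'.hom]
    (hN' : ∀ Y' : Over S', Smooth Y'.hom →
      Function.Bijective (fun f : Y' ⟶ N' => (Over.pullback (g ⁻¹ᵁ U).ι).map f))
    (Y : Over S) (hY : Smooth Y.hom) (h : Y ⟶ SS g) (f : Y ⨯ US U ⟶ AS U a) :
    ∃ F : Y ⟶ NN g N', F ≫ νν g N' = h ∧ rho g U a N' e' he' prod.snd (prod.fst ≫ F) = f := by
  let Y'' : Over S' := Over.mk (pullback.snd Y.hom g)
  have hY'' : Smooth Y''.hom := inferInstanceAs (Smooth (pullback.snd Y.hom g))
  let T : Over S := Over.mk (pullback.fst Y''.hom (g ⁻¹ᵁ U).ι ≫ pullback.fst Y.hom g ≫ Y.hom)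
  let t1 : T ⟶ Y := Over.homMk (pullback.fst Y''.hom (g ⁻¹ᵁ U).ι ≫ pullback.fst Y.hom g)
    (by simp [T])
  let h' : T ⟶ SS g := Over.homMk (pullback.fst Y''.hom (g ⁻¹ᵁ U).ι ≫ pullback.snd Y.hom g) (by
    simp only [T, Over.mk_hom, Category.assoc]
    rw [pullback.condition])
  have hc : pullback.fst Y''.hom (g ⁻¹ᵁ U).ι ≫ pullback.snd Y.hom g =
      pullback.snd Y''.hom (g ⁻¹ᵁ U).ι ≫ (g ⁻¹ᵁ U).ι := pullback.condition
  let v : T ⟶ US U := Over.homMk (pullback.snd Y''.hom (g ⁻¹ᵁ U).ι ≫ (g ∣_ U)) (by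
    simp only [T, Over.mk_hom, Category.assoc]
    rw [morphismRestrict_ι, ← reassoc_of% hc, pullback.condition])
  obtain ⟨x, hx, hx'⟩ := rho_surj g U a N' e' he' v (prod.lift t1 v ≫ f) h'
  have hup : up g U v h' = pullback.snd Y''.hom (g ⁻¹ᵁ U).ι := by
    rw [← cancel_mono (g ⁻¹ᵁ U).ι, up_ι, ← hc]
    rfl
  let w : (Over.pullback (g ⁻¹ᵁ U).ι).obj Y'' ⟶ (Over.pullback (g ⁻¹ᵁ U).ι).obj N' :=
    Over.homMk (pt g U N' v x) (by
      change pt g U N' v x ≫ pullback.snd _ _ = pullback.snd _ _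
      rw [pt_snd, hx', hup])
  obtain ⟨F', hF'⟩ := (hN' Y'' hY'').2 w
  have hF'w : pullback.fst Y''.hom (g ⁻¹ᵁ U).ι ≫ F'.left = x.left := by
    have h1 := congrArg (fun k => k.left ≫ pullback.fst _ _) hF'
    have h2 : ((Over.pullback (g ⁻¹ᵁ U).ι).map F').left ≫ pullback.fst N'.hom (g ⁻¹ᵁ U).ι =
        pullback.fst Y''.hom (g ⁻¹ᵁ U).ι ≫ F'.left := by
      simp only [Over.pullback, Over.homMk_left]
      exact pullback.lift_fst _ _ _
    rw [← h2]
    exact h1.trans (pt_fst g U N' v x)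
  let s : Y.left ⟶ pullback Y.hom g := pullback.lift (𝟙 _) h.left (by
    rw [Category.id_comp]
    exact (Over.w h).symm)
  have hs1 : s ≫ pullback.fst _ _ = 𝟙 _ := pullback.lift_fst _ _ _
  have hs2 : s ≫ pullback.snd _ _ = h.left := pullback.lift_snd _ _ _
  have hF'2 : F'.left ≫ N'.hom = pullback.snd Y.hom g := Over.w F'
  let F : Y ⟶ NN g N' := Over.homMk (s ≫ F'.left) (by
    simp only [Over.mk_hom, Category.assoc]
    rw [reassoc_of% hF'2, reassoc_of% hs2]
    exact Over.w h)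
  refine ⟨F, ?_, ?_⟩
  · ext1
    change (s ≫ F'.left) ≫ N'.hom = h.left
    rw [Category.assoc, hF'2, hs2]
  · let z0 : (Y ⨯ US U).left ⟶ pullback Y''.hom (g ⁻¹ᵁ U).ι :=
      pullback.lift ((prod.fst : Y ⨯ US U ⟶ Y).left ≫ s) (up g U prod.snd (prod.fst ≫ h)) (by
        rw [up_ι, Category.assoc]
        erw [hs2]
        rfl)
    have hz1 : z0 ≫ pullback.fst _ _ = (prod.fst : Y ⨯ US U ⟶ Y).left ≫ s := pullback.lift_fst _ _ _
    have hz2 : z0 ≫ pullback.snd _ _ = up g U prod.snd (prod.fst ≫ h) := pullback.lift_snd _ _ _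
    let z : (Y ⨯ US U) ⟶ T := Over.homMk z0 (by
      simp only [T, Over.mk_hom]
      rw [reassoc_of% hz1, reassoc_of% hs1]
      exact Over.w _)
    have hzt : z ≫ t1 = prod.fst := by
      ext1
      change z0 ≫ pullback.fst _ _ ≫ pullback.fst _ _ = _
      rw [reassoc_of% hz1, hs1, Category.comp_id]
    have hzv : z ≫ v = prod.snd := sub U _ _
    have hzx : z ≫ x = prod.fst ≫ F := by
      ext1
      change z0 ≫ x.left = (prod.fst : Y ⨯ US U ⟶ Y).left ≫ s ≫ F'.left
      rw [← hF'w, reassoc_of% hz1]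
    rw [← hzx, ← hzv, ← comp_rho, hx, ← Category.assoc, prod.comp_lift, hzt, hzv]
    have : prod.lift prod.fst prod.snd = 𝟙 (Y ⨯ US U) := by
      apply Limits.prod.hom_ext
      · rw [prod.lift_fst, Category.id_comp]
      · rw [prod.lift_snd, Category.id_comp]
    rw [this, Category.id_comp]

theorem uniq [IsLocallyNoetherian S] (hU : CInt.IsSchematicallyDense U) [IsSeparated N'.hom]
    (Y : Over S) (hY : Smooth Y.hom) (F F' : Y ⟶ NN g N') (h : F ≫ νν g N' = F' ≫ νν g N')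
    (h' : (prod.fst : Y ⨯ US U ⟶ Y) ≫ F = prod.fst ≫ F') : F = F' := by
  have h1 : IsSchemeTheoreticallyDominant U.ι :=
    Groth.Agent.Ega4dB.SchDense.isSchemeTheoreticallyDominant_ι U hU
  have h2 : IsSchemeTheoreticallyDominant (US U).hom := h1
  have h3 : QuasiCompact (US U).hom := inferInstanceAs (QuasiCompact U.ι)
  have h4 : IsSchemeTheoreticallyDominant (prod.fst : Y ⨯ US U ⟶ Y).left :=
    .of_isPullback (Data.isPullback_prod Y (US U)).flip
  ext1
  refine Groth.Agent.Ega4dB.SchDense.ext_of_isSchemeTheoreticallyDominant N'.hom ?_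
    (prod.fst : Y ⨯ US U ⟶ Y).left ?_
  · exact congrArg (fun k => k.left) h
  · exact congrArg (fun k => k.left) h'

theorem exists_cover (g : S' ⟶ S) [Smooth g] [Surjective g] :
    ∃ (S1 : Scheme.{u}) (c : S1 ⟶ S), Etale c ∧ Surjective c ∧ ∃ l : S1 ⟶ S', l ≫ g = c := by
  have H := fun s : S => Groth.Agent.FlatA.EtaleSections.exists_section g s (g.surjective s)
  choose T c t hc ht l hl using H
  refine ⟨∐ T, Sigma.desc c, IsZariskiLocalAtSource.sigmaDesc (P := @Etale) hc, ⟨fun s => ?_⟩,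
    Sigma.desc l, ?_⟩
  · refine ⟨Sigma.ι T s (t s), ?_⟩
    rw [← Scheme.Hom.comp_apply, Sigma.ι_desc, ht]
  · ext1 s
    simp [hl]

/-- The data. -/
noncomputable def data [IsLocallyNoetherian S] [Smooth g] [Surjective g]
    (hU : CInt.IsSchematicallyDense U) [Smooth N'.hom] [IsSeparated N'.hom]
    (hN' : ∀ Y' : Over S', Smooth Y'.hom →
      Function.Bijective (fun f : Y' ⟶ N' => (Over.pullback (g ⁻¹ᵁ U).ι).map f)) : Data S where
  US := US U
  sub := sub U
  AS := AS U a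
  αU := αU U a
  S' := SS g
  N' := NN g N'
  ν := νν g N'
  smooth_ν := inferInstanceAs (Smooth N'.hom)
  sep_ν := inferInstanceAs (IsSeparated N'.hom)
  rho := rho g U a N' e' he'
  comp_rho := comp_rho g U a N' e' he'
  rho_inj := rho_inj g U a N' e' he'
  rho_surj := rho_surj g U a N' e' he'
  ext := ext g U a N' e' he' hN'
  uniq := uniq g U N' hU
  S1 := Over.mk (exists_cover g).choose_spec.choose
  et := (exists_cover g).choose_spec.choose_spec.1
  surj := (exists_cover g).choose_spec.choose_spec.2.1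
  ℓ := Over.homMk (exists_cover g).choose_spec.choose_spec.2.2.choose
    (exists_cover g).choose_spec.choose_spec.2.2.choose_spec

end K491.AsBuild
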