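import Groth.Agent.Neron.K491.AsData
import Groth.Agent.S9868
import Groth.Agent.S9869
import Groth.Agent.AlgSp.K597.LocP
import Groth.Agent.AlgSp.K597.EtLoc
import Groth.Agent.AlgSp.K609.Sep
import Groth.Agent.AlgSp.K595.DiagRel

/-!
# Neron models as algebraic spaces: the quotient and its mapping property
-/

set_option autoImplicit false
universe u

open CategoryTheory CategoryTheory.Limits AlgebraicGeometry Opposite AlgSp K613.Basic K613.Cover

namespace K491.AsData

lemma prod_eta {C : Type*} [Category* C] [HasBinaryProducts C] {X Y Z : C} (x : X ⟶ Y ⨯ Z) :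
    prod.lift (x ≫ prod.fst) (x ≫ prod.snd) = x := by
  apply Limits.prod.hom_ext
  · rw [prod.lift_fst]
  · rw [prod.lift_snd]

namespace Data

variable {S : Scheme.{u}} (D : Data S)

/-- The quotient algebraic space. -/
noncomputable def N : Sp S := QuotSh.quot Scheme.fppfPrecoverage D.ψ (prod.fst : D.R1 ⟶ D.N1)

lemma isAlgSpace : IsAlgSpace D.N := Groth.Agent.S9868.result S _ _ D.isEtaleEqvRel

noncomputable def p : (yon S).obj D.N1 ⟶ D.N :=
  (QuotSh.repIsoUliftYoneda Scheme.fppfPrecoverage D.N1).inv ≫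
    QuotSh.quotπ Scheme.fppfPrecoverage D.ψ prod.fst

lemma pres : IsPresentation D.ψ (prod.fst : D.R1 ⟶ D.N1) D.p :=
  Groth.Agent.S9869.result S _ _ D.isEtaleEqvRel D.isAlgSpace

lemma p_eq_iff {T : Over S} (a b : T ⟶ D.N1) :
    (yon S).map a ≫ D.p = (yon S).map b ≫ D.p ↔ D.act a (b ≫ D.n1) = b := by
  rw [← D.exists_rel_iff]
  constructor
  · intro h
    obtain ⟨r, hr⟩ := (yon S).map_surjective (D.pres.isPullback.lift _ _ h)
    refine ⟨r, (yon S).map_injective ?_, (yon S).map_injective ?_⟩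
    · rw [Functor.map_comp, hr, D.pres.isPullback.lift_fst]
    · rw [Functor.map_comp, hr, D.pres.isPullback.lift_snd]
  · rintro ⟨r, rfl, rfl⟩
    rw [Functor.map_comp, Functor.map_comp, Category.assoc, Category.assoc, D.pres.isPullback.w]

lemma eSurj_p : ESurj D.p := ESurj.of_repWith D.pres.etale D.pres.surjective

/-- Lifting a section of the quotient étale locally. -/
lemma exists_lift {T : Over S} (φ : (yon S).obj T ⟶ D.N) :
    ∃ (T' : Over S) (c : T' ⟶ T) (x : T' ⟶ D.N1), EtC c ∧ (yon S).map x ≫ D.p = (yon S).map c ≫ φ := by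
  obtain ⟨T', c, h, hc, hh⟩ := D.eSurj_p T φ
  obtain ⟨x, rfl⟩ := (yon S).map_surjective h
  exact ⟨T', c, x, hc, hh⟩

/-- Lifting two sections of the quotient étale locally. -/
lemma exists_lift₂ {T : Over S} (φ φ' : (yon S).obj T ⟶ D.N) :
    ∃ (T' : Over S) (c : T' ⟶ T) (x x' : T' ⟶ D.N1), EtC c ∧
      (yon S).map x ≫ D.p = (yon S).map c ≫ φ ∧ (yon S).map x' ≫ D.p = (yon S).map c ≫ φ' := by
  obtain ⟨T', c, x, hc, hx⟩ := D.exists_lift φ
  obtain ⟨T'', c', x', hc', hx'⟩ := D.exists_lift ((yon S).map c ≫ φ')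
  refine ⟨T'', c' ≫ c, c' ≫ x, x', hc.comp hc', ?_, ?_⟩
  · rw [Functor.map_comp, Functor.map_comp, Category.assoc, Category.assoc, hx]
  · rw [hx', Functor.map_comp, Category.assoc]

lemma etC_fst (X : Over S) : EtC (prod.fst : X ⨯ D.S1 ⟶ X) := ⟨D.etale_fst X, D.surjective_fst X⟩

/-- Maps to a subterminal object agree. -/
lemma yon_sub {F : Sp S} (a b : F ⟶ (yon S).obj D.US) : a = b := by
  refine K613.Basic.hom_ext fun T x => ?_
  obtain ⟨a', ha⟩ := (yon S).map_surjective (x ≫ a)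
  obtain ⟨b', hb⟩ := (yon S).map_surjective (x ≫ b)
  rw [← ha, ← hb, D.sub a' b']

/-- The chart of `N × h_U`. -/
noncomputable def c : (yon S).obj (D.N1 ⨯ D.US) ⟶ D.N ⨯ (yon S).obj D.US :=
  prod.lift ((yon S).map prod.fst ≫ D.p) ((yon S).map prod.snd)

/-- The morphism from the chart. -/
noncomputable def b : D.N1 ⨯ D.US ⟶ D.AS := D.rho prod.snd (prod.fst ≫ D.m1)

lemma lift_b {T : Over S} (x : T ⟶ D.N1) (u : T ⟶ D.US) : prod.lift x u ≫ D.b = D.rho u (x ≫ D.m1) := by
  rw [b, D.comp_rho, prod.lift_snd, ← Category.assoc, prod.lift_fst]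

lemma map_lift_c {T : Over S} (x : T ⟶ D.N1) (u : T ⟶ D.US) :
    (yon S).map (prod.lift x u) ≫ D.c = prod.lift ((yon S).map x ≫ D.p) ((yon S).map u) := by
  apply Limits.prod.hom_ext
  · rw [Category.assoc, c, prod.lift_fst, prod.lift_fst, ← Category.assoc, ← Functor.map_comp,
      prod.lift_fst]
  · rw [Category.assoc, c, prod.lift_snd, prod.lift_snd, ← Functor.map_comp, prod.lift_snd]

lemma eSurj_c : ESurj D.c := by
  intro T g
  obtain ⟨T', c', x, hc', hx⟩ := D.exists_lift (g ≫ prod.fst)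
  obtain ⟨v, hv⟩ := (yon S).map_surjective (g ≫ prod.snd)
  refine ⟨T', c', (yon S).map (prod.lift x (c' ≫ v)), hc', ?_⟩
  rw [map_lift_c]
  apply Limits.prod.hom_ext
  · rw [prod.lift_fst, hx, Category.assoc]
  · rw [prod.lift_snd, Functor.map_comp, hv, Category.assoc]

lemma exists_eHom : ∃! y : D.N ⨯ (yon S).obj D.US ⟶ (yon S).obj D.AS, D.c ≫ y = (yon S).map D.b := by
  refine D.eSurj_c.fSurj.desc _ fun R v v' h => ?_
  obtain ⟨v, rfl⟩ := (yon S).map_surjective v
  obtain ⟨v', rfl⟩ := (yon S).map_surjective v'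
  obtain ⟨x, w, rfl⟩ : ∃ (x : R ⟶ D.N1) (w : R ⟶ D.US), v = prod.lift x w :=
    ⟨v ≫ prod.fst, v ≫ prod.snd, (prod_eta v).symm⟩
  obtain ⟨x', w', rfl⟩ : ∃ (x : R ⟶ D.N1) (w : R ⟶ D.US), v' = prod.lift x w :=
    ⟨v' ≫ prod.fst, v' ≫ prod.snd, (prod_eta v').symm⟩
  rw [map_lift_c, map_lift_c] at h
  have h1 := congrArg (fun t => t ≫ prod.fst) h
  simp only [prod.lift_fst] at h1
  rw [p_eq_iff] at h1
  rw [← Functor.map_comp, ← Functor.map_comp, lift_b, lift_b, ← h1, rho_act, D.sub w w']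

noncomputable def eHom : D.N ⨯ (yon S).obj D.US ⟶ (yon S).obj D.AS := D.exists_eHom.choose

lemma c_eHom : D.c ≫ D.eHom = (yon S).map D.b := D.exists_eHom.choose_spec.1

lemma lift_eHom {T : Over S} (x : T ⟶ D.N1) (u : T ⟶ D.US) :
    prod.lift ((yon S).map x ≫ D.p) ((yon S).map u) ≫ D.eHom = (yon S).map (D.rho u (x ≫ D.m1)) := by
  rw [← map_lift_c, Category.assoc, c_eHom, ← Functor.map_comp, lift_b]

lemma eSurj_eHom : ESurj D.eHom := by
  intro T g
  obtain ⟨α, rfl⟩ := (yon S).map_surjective g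
  obtain ⟨x, hx, hx'⟩ := D.rho_surj ((prod.fst : T ⨯ D.S1 ⟶ T) ≫ α ≫ D.αU) (prod.fst ≫ α)
    (prod.snd ≫ D.ℓ)
  refine ⟨T ⨯ D.S1, prod.fst, prod.lift ((yon S).map (D.lift1 x prod.snd hx') ≫ D.p)
    ((yon S).map (prod.fst ≫ α ≫ D.αU)), D.etC_fst T, ?_⟩
  rw [lift_eHom, lift1_m1, hx, Functor.map_comp]

instance mono_eHom : Mono D.eHom := by
  refine mono_of_injective fun T x y h => ?_
  have hx : x ≫ prod.snd = y ≫ prod.snd := D.yon_sub _ _
  refine Limits.prod.hom_ext ?_ hx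
  obtain ⟨T', c', a, a', hc', ha, ha'⟩ := D.exists_lift₂ (x ≫ prod.fst) (y ≫ prod.fst)
  obtain ⟨v, hv⟩ := (yon S).map_surjective (x ≫ prod.snd)
  have := hc'.fpC.epi
  rw [← cancel_epi ((yon S).map c'), ← ha, ← ha', p_eq_iff]
  refine D.act_eq_of_rho (c' ≫ v) _ _ ?_
  apply (yon S).map_injective
  rw [← lift_eHom, ← lift_eHom, ha, ha', Functor.map_comp, hv, ← prod.comp_lift, prod_eta, hx,
    ← prod.comp_lift, prod_eta, Category.assoc, Category.assoc, h]

instance isIso_eHom : IsIso D.eHom := D.eSurj_eHom.fSurj.isIso_of_mono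

/-- The isomorphism over `US`. -/
noncomputable def e : D.N ⨯ (yon S).obj D.US ≅ (yon S).obj D.AS := asIso D.eHom

@[simp] lemma e_hom : D.e.hom = D.eHom := rfl

/-- The restriction of a section to `US`. -/
lemma map_lift_map_eHom {T T' : Over S} (φ : (yon S).obj T ⟶ D.N) (t : T' ⟶ T) (x : T' ⟶ D.N1)
    (u : T' ⟶ D.US) (h : (yon S).map x ≫ D.p = (yon S).map t ≫ φ) :
    prod.lift ((yon S).map t) ((yon S).map u) ≫ prod.map φ (𝟙 _) ≫ D.eHom =
      (yon S).map (D.rho u (x ≫ D.m1)) := by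
  rw [← lift_eHom, ← Category.assoc, prod.lift_map, Category.comp_id, h]

/-- Uniqueness. -/
theorem uniq_of_smooth {T : Over S} (hT : Smooth T.hom) (φ φ' : (yon S).obj T ⟶ D.N)
    (h : prod.map φ (𝟙 ((yon S).obj D.US)) ≫ D.eHom = prod.map φ' (𝟙 ((yon S).obj D.US)) ≫ D.eHom) :
    φ = φ' := by
  obtain ⟨T', c, x, x', hc, hx, hx'⟩ := D.exists_lift₂ φ φ'
  have := hc.fpC.epi
  have hc1 := hc.etale
  have hT' : Smooth T'.hom := by
    rw [← Over.w c]
    infer_instance
  rw [← cancel_epi ((yon S).map c), ← hx, ← hx', p_eq_iff]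
  refine D.act_eq_of_smooth hT' _ _ ?_
  apply (yon S).map_injective
  rw [← Category.assoc, ← Category.assoc (prod.fst) x',
    ← D.map_lift_map_eHom φ (prod.fst ≫ c) (prod.fst ≫ x) prod.snd (by
      rw [Functor.map_comp, Functor.map_comp, Category.assoc, Category.assoc, hx]),
    ← D.map_lift_map_eHom φ' (prod.fst ≫ c) (prod.fst ≫ x') prod.snd (by
      rw [Functor.map_comp, Functor.map_comp, Category.assoc, Category.assoc, hx']), h]

/-- The two points of the double cover. -/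
lemma exists_double {T R : Over S} (a b : R ⟶ T ⨯ D.S1) (h : a ≫ prod.fst = b ≫ prod.fst) :
    ∃ r : R ⟶ (T ⨯ D.S1) ⨯ D.S1, r ≫ prod.fst = a ∧
      r ≫ prod.lift (prod.fst ≫ prod.fst) prod.snd = b := by
  refine ⟨prod.lift a (b ≫ prod.snd), prod.lift_fst _ _, ?_⟩
  rw [prod.comp_lift, ← Category.assoc, prod.lift_fst, prod.lift_snd, h, prod_eta]

/-- Existence. -/
theorem exists_of_smooth {T : Over S} (hT : Smooth T.hom)
    (γ : (yon S).obj T ⨯ (yon S).obj D.US ⟶ (yon S).obj D.AS) :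
    ∃ φ : (yon S).obj T ⟶ D.N, prod.map φ (𝟙 ((yon S).obj D.US)) ≫ D.eHom = γ := by
  obtain ⟨f, hf⟩ := (yon S).map_surjective
    (prod.lift ((yon S).map (prod.fst : T ⨯ D.US ⟶ T)) ((yon S).map prod.snd) ≫ γ)
  have hf' : ∀ (R : Over S) (t : R ⟶ T) (v : R ⟶ D.US), (yon S).map (prod.lift t v ≫ f) =
      prod.lift ((yon S).map t) ((yon S).map v) ≫ γ := by
    intro R t v
    rw [Functor.map_comp, hf, ← Category.assoc, prod.comp_lift, ← Functor.map_comp,
      ← Functor.map_comp, prod.lift_fst, prod.lift_snd]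
  have hT1 : Smooth (T ⨯ D.S1).hom := D.smooth_prod T hT
  obtain ⟨F, hF, hF'⟩ := D.exists_ext (T ⨯ D.S1) hT1 prod.snd (prod.map prod.fst (𝟙 _) ≫ f)
  have hF2 : ∀ (R : Over S) (t : R ⟶ T ⨯ D.S1) (v : R ⟶ D.US), D.rho v (t ≫ F ≫ D.m1) =
      prod.lift (t ≫ prod.fst) v ≫ f := by
    intro R t v
    have := congrArg (fun w => prod.lift t v ≫ w) hF'
    rw [D.comp_rho, prod.lift_snd, ← Category.assoc, prod.lift_fst] at this
    rw [this, ← Category.assoc, prod.lift_map, Category.comp_id]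
  have hfst := D.etC_fst T
  obtain ⟨φ, hφ, -⟩ := hfst.fpC.glue ((yon S).map F ≫ D.p) (fun R a b h => by
    obtain ⟨r, rfl, rfl⟩ := D.exists_double a b h
    rw [Functor.map_comp, Functor.map_comp, Category.assoc, Category.assoc]
    congr 1
    rw [← Category.assoc, ← Category.assoc, ← Functor.map_comp, ← Functor.map_comp, p_eq_iff]
    refine D.act_eq_of_smooth (D.smooth_prod _ hT1) _ _ ?_
    rw [Category.assoc, Category.assoc, ← Category.assoc prod.fst (prod.fst) (F ≫ D.m1),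
      ← Category.assoc prod.fst _ (F ≫ D.m1), hF2, hF2]
    congr 2
    rw [Category.assoc, Category.assoc, prod.lift_fst])
  refine ⟨φ, ?_⟩
  refine K613.Basic.hom_ext fun R x => ?_
  obtain ⟨t, ht⟩ := (yon S).map_surjective (x ≫ prod.fst)
  obtain ⟨v, hv⟩ := (yon S).map_surjective (x ≫ prod.snd)
  have hR := (D.etC_fst R).fpC.epi
  rw [← cancel_epi ((yon S).map (prod.fst : R ⨯ D.S1 ⟶ R)), ← prod_eta x, ← ht, ← hv,
    ← Category.assoc, ← Category.assoc, prod.comp_lift, ← Functor.map_comp, ← Functor.map_comp,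
    ← hf', Category.assoc, D.map_lift_map_eHom φ (prod.fst ≫ t) (prod.lift (prod.fst ≫ t) prod.snd ≫ F) _ (by
      rw [Functor.map_comp, Category.assoc, ← hφ, ← Category.assoc, ← Functor.map_comp,
        prod.lift_fst]), Category.assoc, hF2, prod.lift_fst, ← Functor.map_comp, ← Category.assoc prod.fst,
    prod.comp_lift]

/-- The structure morphism. -/
noncomputable def π : D.N ⟶ (yon S).obj (Over.mk (𝟙 S)) :=
  (IsTerminal.isTerminalObj (yon S) _ Over.mkIdTerminal).from D.N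

lemma locP_smooth_π : LocP @Smooth D.π := by
  refine K597.locP_of_chart K597.etLoc_smooth D.π D.p (𝟙 _) (Over.mkIdTerminal.from D.N1)
    D.pres.etale D.pres.surjective (repWith_id _ _) ?_ ?_
  · exact (IsTerminal.isTerminalObj (yon S) _ Over.mkIdTerminal).hom_ext _ _
  · have : (Over.mkIdTerminal.from D.N1).left = D.N1.hom := by
      simp
    rw [this]
    exact D.smooth_N1

lemma isClosedImmersion_lift : IsClosedImmersion
    (pullback.lift (prod.fst : D.R1 ⟶ D.N1).left D.ψ.left ((Over.w _).trans (Over.w D.ψ).symm) :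
      D.R1.left ⟶ pullback D.N1.hom D.N1.hom) := by
  have h1 : prod.lift prod.fst D.ψ ≫ prod.map (𝟙 _) D.n1 = 𝟙 D.R1 := by
    rw [prod.lift_map, Category.comp_id, ψ_n1]
    apply Limits.prod.hom_ext
    · rw [prod.lift_fst, Category.id_comp]
    · rw [prod.lift_snd, Category.id_comp]
  have h2 : IsPullback (prod.snd : D.N1 ⨯ D.N1 ⟶ D.N1) (prod.map (𝟙 D.N1) D.n1) D.n1 prod.snd := by
    refine (IsPullback.of_prod_fst_with_id D.n1 D.N1).of_iso (prod.braiding _ _) (Iso.refl _)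
      (prod.braiding _ _) (Iso.refl _) (by simp [prod.lift_snd]) (by simp) (by simp)
      (by simp [prod.lift_snd])
  have h3 : IsSeparated (prod.map (𝟙 D.N1) D.n1).left :=
    MorphismProperty.of_isPullback (P := @IsSeparated) (h2.map (Over.forget S))
      (inferInstanceAs (IsSeparated D.n1.left))
  have h4 : IsClosedImmersion (prod.lift prod.fst D.ψ).left := by
    have h5 : IsClosedImmersion ((prod.lift prod.fst D.ψ).left ≫ (prod.map (𝟙 D.N1) D.n1).left) := by
      rw [← Over.comp_left, h1, Over.id_left]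
      infer_instance
    exact IsClosedImmersion.of_comp _ (prod.map (𝟙 D.N1) D.n1).left
  rw [← K609.Diag.lift_left_comp_prodLeftIsoPullback]
  infer_instance

lemma isSeparatedMor_π : IsSeparatedMor D.π := by
  refine K595.DiagRel.repWith_diagonal_of_diag D.π ?_
  refine K609.Sep.repWith_diag_of_chart @IsClosedImmersion D.isAlgSpace.diag
    (K609.Sep.repWith_fppf_of_etale D.pres.etale D.pres.surjective) D.pres.isPullback
    D.isClosedImmersion_lift

end Data

end K491.AsData
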