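import Groth.Agent.Neron.K491.PDefs

/-!
# Points of group schemes with values in algebras, additive coordinates
-/

set_option autoImplicit false
universe u

open CategoryTheory CategoryTheory.Limits AlgebraicGeometry MonObj MonoidalCategory CartesianMonoidalCategory
open scoped TensorProduct

namespace K491.AlgPt

open K491.PDefs

variable (K : Type u) [Field K]

/-- The spectrum of a `K`-algebra. -/
noncomputable abbrev pt (A : Type u) [CommRing A] [Algebra K A] : Over (Spec (CommRingCat.of K)) :=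
  Over.mk (Spec.map (CommRingCat.ofHom (algebraMap K A)))

variable {K} {A A' A'' : Type u} [CommRing A] [Algebra K A] [CommRing A'] [Algebra K A'] [CommRing A''] [Algebra K A'']

/-- The morphism of spectra of an algebra homomorphism. -/
noncomputable def ptMap (φ : A →ₐ[K] A') : pt K A' ⟶ pt K A :=
  Over.homMk (Spec.map (CommRingCat.ofHom φ.toRingHom)) (by
    change Spec.map _ ≫ Spec.map _ = Spec.map _
    rw [← Spec.map_comp, ← CommRingCat.ofHom_comp]
    congr 2
    exact φ.comp_algebraMap)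

lemma ptMap_left (φ : A →ₐ[K] A') : (ptMap φ).left = Spec.map (CommRingCat.ofHom φ.toRingHom) := rfl

lemma ptMap_comp (φ : A →ₐ[K] A') (ψ : A' →ₐ[K] A'') : ptMap (ψ.comp φ) = ptMap ψ ≫ ptMap φ := by
  ext1
  rw [Over.comp_left, ptMap_left, ptMap_left, ptMap_left, ← Spec.map_comp, ← CommRingCat.ofHom_comp]
  rfl

lemma ptMap_id : ptMap (AlgHom.id K A) = 𝟙 _ := by
  ext1
  rw [ptMap_left, Over.id_left]
  exact Spec.map_id _

/-- Every morphism of spectra over `K` comes from an algebra homomorphism. -/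
lemma exists_ptMap (f : pt K A' ⟶ pt K A) : ∃ φ : A →ₐ[K] A', ptMap φ = f := by
  obtain ⟨φ, hφ⟩ : ∃ φ : CommRingCat.of A ⟶ CommRingCat.of A', Spec.map φ = f.left :=
    ⟨Spec.preimage f.left, Spec.map_preimage _⟩
  have hw : Spec.map φ ≫ Spec.map (CommRingCat.ofHom (algebraMap K A)) =
      Spec.map (CommRingCat.ofHom (algebraMap K A')) := by
    rw [hφ]
    exact Over.w f
  rw [← Spec.map_comp] at hw
  have h2 := Spec.map_injective hw
  refine ⟨{ φ.hom with commutes' := fun c => congr($(h2).hom c) }, ?_⟩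
  ext1
  exact hφ

variable {G S : Over (Spec (CommRingCat.of K))}

/-- The value of a function at an algebra-valued point. -/
noncomputable def evA (f : Γ(G.left, ⊤)) (σ : pt K A ⟶ G) : A :=
  (Scheme.ΓSpecIso (CommRingCat.of A)).hom.hom (ev f σ)

lemma evA_ptMap (f : Γ(G.left, ⊤)) (φ : A →ₐ[K] A') (σ : pt K A ⟶ G) : evA f (ptMap φ ≫ σ) = φ (evA f σ) := by
  unfold evA
  rw [ev_comp]
  have h := Scheme.ΓSpecIso_naturality (CommRingCat.ofHom φ.toRingHom)
  exact congr($(h).hom (ev f σ))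

lemma evA_mul [GrpObj G] {f : Γ(G.left, ⊤)} (hf : IsAdd G f) (σ τ : pt K A ⟶ G) :
    evA f (σ * τ) = evA f σ + evA f τ := by
  unfold evA
  rw [hf, map_add]

lemma evA_inv [GrpObj G] {f : Γ(G.left, ⊤)} (hf : IsAdd G f) (σ : pt K A ⟶ G) : evA f σ⁻¹ = - evA f σ := by
  unfold evA
  rw [hf.inv, map_neg]

lemma evA_one [GrpObj G] {f : Γ(G.left, ⊤)} (hf : IsAdd G f) : evA f (1 : pt K A ⟶ G) = 0 := by
  unfold evA
  rw [hf.one, map_zero]

lemma comp_str : (Scheme.ΓSpecIso (CommRingCat.of A)).hom.hom.comp (str K (pt K A)) = algebraMap K A := by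
  have h := Scheme.ΓSpecIso_naturality (CommRingCat.ofHom (algebraMap K A))
  ext c
  have h2 := congr($(h).hom ((Scheme.ΓSpecIso (CommRingCat.of K)).inv.hom c))
  have h3 : (Scheme.ΓSpecIso (CommRingCat.of K)).hom.hom ((Scheme.ΓSpecIso (CommRingCat.of K)).inv.hom c) = c :=
    congr($((Scheme.ΓSpecIso (CommRingCat.of K)).inv_hom_id).hom c)
  refine h2.trans ?_
  change algebraMap K A ((Scheme.ΓSpecIso (CommRingCat.of K)).hom.hom
    ((Scheme.ΓSpecIso (CommRingCat.of K)).inv.hom c)) = _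
  rw [h3]

lemma evA_ext [GrpObj G] {n : ℕ} {x : Fin n → Γ(G.left, ⊤)} (hx : IsVec K G x) {σ τ : pt K A ⟶ G}
    (h : ∀ l, evA (x l) σ = evA (x l) τ) : σ = τ := by
  apply hx.ext
  intro l
  have h1 := congrArg (Scheme.ΓSpecIso (CommRingCat.of A)).inv.hom (h l)
  have h2 : ∀ z, (Scheme.ΓSpecIso (CommRingCat.of A)).inv.hom ((Scheme.ΓSpecIso (CommRingCat.of A)).hom.hom z) = z :=
    fun z => congr($((Scheme.ΓSpecIso (CommRingCat.of A)).hom_inv_id).hom z)
  unfold evA at h1
  rwa [h2, h2] at h1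

/-- The system of additive polynomials describes the algebra-valued points. -/
lemma system_iff {p : ℕ} {m n : ℕ} {x : Fin n → Γ(S.left, ⊤)} {F : Fin m → Fin n → (ℕ →₀ K)}
    (hF : ∀ (T : Over (Spec (CommRingCat.of K))) (y : Fin n → Γ(T.left, ⊤)),
      (∀ j, addVal p (str K T) F j y = 0) ↔ ∃ a : T ⟶ S, ∀ l, ev (x l) a = y l) (y : Fin n → A) :
    (∀ j, addVal p (algebraMap K A) F j y = 0) ↔ ∃ σ : pt K A ⟶ S, ∀ l, evA (x l) σ = y l := by
  have h2 : ∀ z, (Scheme.ΓSpecIso (CommRingCat.of A)).inv.hom ((Scheme.ΓSpecIso (CommRingCat.of A)).hom.hom z) = z :=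
    fun z => congr($((Scheme.ΓSpecIso (CommRingCat.of A)).hom_inv_id).hom z)
  have h3 : ∀ z, (Scheme.ΓSpecIso (CommRingCat.of A)).hom.hom ((Scheme.ΓSpecIso (CommRingCat.of A)).inv.hom z) = z :=
    fun z => congr($((Scheme.ΓSpecIso (CommRingCat.of A)).inv_hom_id).hom z)
  have h4 := hF (pt K A) (fun l => (Scheme.ΓSpecIso (CommRingCat.of A)).inv.hom (y l))
  have h5 : ∀ j, addVal p (str K (pt K A)) F j (fun l => (Scheme.ΓSpecIso (CommRingCat.of A)).inv.hom (y l)) = 0 ↔
      addVal p (algebraMap K A) F j y = 0 := by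
    intro j
    rw [← comp_str (A := A)]
    have h6 := map_addVal (p := p) F j (Scheme.ΓSpecIso (CommRingCat.of A)).hom.hom (str K (pt K A))
      (fun l => (Scheme.ΓSpecIso (CommRingCat.of A)).inv.hom (y l))
    simp only [h3] at h6
    rw [← h6]
    constructor
    · intro h
      rw [h, map_zero]
    · intro h
      rw [← h2 (addVal p (str K (pt K A)) F j _), h, map_zero]
  simp only [h5] at h4
  rw [h4]
  refine exists_congr fun σ => forall_congr' fun l => ?_
  unfold evA
  constructor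
  · intro h
    rw [h, h3]
  · intro h
    rw [← h, h2]

end K491.AlgPt
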