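import Groth.Agent.AlgSp.K613.Cover

/-!
# Neron models as algebraic spaces: the descent datum

`Data S`: formal properties of a Néron model `N'` over a smooth cover `S'` of `S` (with respect to a
subterminal `US`), in the category of schemes over `S`, together with an étale cover `S1` of `S`
with a morphism to `S'`. `N1` is the pullback of `N'` to `S1`; we construct the equivalence relation
on `N1`.
-/

set_option autoImplicit false
universe u

open CategoryTheory CategoryTheory.Limits AlgebraicGeometry Opposite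

namespace K491.AsData

/-- The formal data. -/
structure Data (S : Scheme.{u}) where
  US : Over S
  sub : ∀ {T : Over S} (a b : T ⟶ US), a = b
  AS : Over S
  αU : AS ⟶ US
  S' : Over S
  N' : Over S
  ν : N' ⟶ S'
  smooth_ν : Smooth ν.left
  sep_ν : IsSeparated ν.left
  rho : ∀ {T : Over S} (_ : T ⟶ US) (_ : T ⟶ N'), (T ⟶ AS)
  comp_rho : ∀ {T T' : Over S} (t : T' ⟶ T) (u : T ⟶ US) (x : T ⟶ N'),
    t ≫ rho u x = rho (t ≫ u) (t ≫ x)
  rho_inj : ∀ {T : Over S} (u : T ⟶ US) (x y : T ⟶ N'), rho u x = rho u y → x ≫ ν = y ≫ ν → x = y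
  rho_surj : ∀ {T : Over S} (u : T ⟶ US) (α : T ⟶ AS) (h : T ⟶ S'), ∃ x, rho u x = α ∧ x ≫ ν = h
  ext : ∀ (Y : Over S) (_ : Smooth Y.hom) (h : Y ⟶ S') (f : Y ⨯ US ⟶ AS),
    ∃ F : Y ⟶ N', F ≫ ν = h ∧ rho prod.snd (prod.fst ≫ F) = f
  uniq : ∀ (Y : Over S) (_ : Smooth Y.hom) (F F' : Y ⟶ N'), F ≫ ν = F' ≫ ν →
    (prod.fst : Y ⨯ US ⟶ Y) ≫ F = prod.fst ≫ F' → F = F'
  S1 : Over S
  et : Etale S1.hom
  surj : Surjective S1.hom
  ℓ : S1 ⟶ S'

namespace Data

variable {S : Scheme.{u}} (D : Data S)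

attribute [local instance] smooth_ν sep_ν et surj

/-- The pullback of `N'` to `S1`. -/
noncomputable def N1 : Over S := pullback D.ν D.ℓ

noncomputable def m1 : D.N1 ⟶ D.N' := pullback.fst _ _

noncomputable def n1 : D.N1 ⟶ D.S1 := pullback.snd _ _

lemma m1_ν : D.m1 ≫ D.ν = D.n1 ≫ D.ℓ := pullback.condition

lemma isPullback_N1 : IsPullback D.m1 D.n1 D.ν D.ℓ := IsPullback.of_hasPullback _ _

lemma hom_ext {T : Over S} {x y : T ⟶ D.N1} (h1 : x ≫ D.m1 = y ≫ D.m1) (h2 : x ≫ D.n1 = y ≫ D.n1) :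
    x = y := pullback.hom_ext h1 h2

instance : Smooth D.n1.left :=
  MorphismProperty.of_isPullback (P := @Smooth) (D.isPullback_N1.map (Over.forget S)) D.smooth_ν

instance : IsSeparated D.n1.left :=
  MorphismProperty.of_isPullback (P := @IsSeparated) (D.isPullback_N1.map (Over.forget S)) D.sep_ν

instance smooth_N1 : Smooth D.N1.hom := by
  rw [← Over.w D.n1]
  infer_instance

/-- The first projection from the product with an étale object. -/
lemma isPullback_prod (X Y : Over S) :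
    IsPullback (prod.fst : X ⨯ Y ⟶ X).left (prod.snd : X ⨯ Y ⟶ Y).left X.hom Y.hom := by
  refine IsPullback.of_iso_pullback ⟨?_⟩ (Over.prodLeftIsoPullback X Y) ?_ ?_
  · rw [Over.w, Over.w]
  · exact Over.prodLeftIsoPullback_hom_fst X Y
  · exact Over.prodLeftIsoPullback_hom_snd X Y

lemma etale_fst (X : Over S) : Etale (prod.fst : X ⨯ D.S1 ⟶ X).left :=
  MorphismProperty.of_isPullback (P := @Etale) (isPullback_prod X D.S1).flip D.et

lemma surjective_fst (X : Over S) : Surjective (prod.fst : X ⨯ D.S1 ⟶ X).left :=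
  MorphismProperty.of_isPullback (P := @Surjective) (isPullback_prod X D.S1).flip D.surj

lemma smooth_prod (X : Over S) (h : Smooth X.hom) : Smooth (X ⨯ D.S1).hom := by
  have := D.etale_fst X
  rw [← Over.w (prod.fst : X ⨯ D.S1 ⟶ X)]
  infer_instance

/-- Morphisms into `N1`. -/
noncomputable def lift1 {T : Over S} (x : T ⟶ D.N') (k : T ⟶ D.S1) (h : x ≫ D.ν = k ≫ D.ℓ) :
    T ⟶ D.N1 := pullback.lift x k h

@[simp] lemma lift1_m1 {T : Over S} (x : T ⟶ D.N') (k : T ⟶ D.S1) (h : x ≫ D.ν = k ≫ D.ℓ) :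
    D.lift1 x k h ≫ D.m1 = x := pullback.lift_fst _ _ _

@[simp] lemma lift1_n1 {T : Over S} (x : T ⟶ D.N') (k : T ⟶ D.S1) (h : x ≫ D.ν = k ≫ D.ℓ) :
    D.lift1 x k h ≫ D.n1 = k := pullback.lift_snd _ _ _

/-- Extension into `N1`. -/
lemma exists_ext (Y : Over S) (hY : Smooth Y.hom) (k : Y ⟶ D.S1) (f : Y ⨯ D.US ⟶ D.AS) :
    ∃ F : Y ⟶ D.N1, F ≫ D.n1 = k ∧ D.rho prod.snd (prod.fst ≫ F ≫ D.m1) = f := by
  obtain ⟨F, hF, hF'⟩ := D.ext Y hY (k ≫ D.ℓ) f
  refine ⟨D.lift1 F k hF, D.lift1_n1 _ _ _, ?_⟩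
  rw [lift1_m1, hF']

lemma uniq1 (Y : Over S) (hY : Smooth Y.hom) (F F' : Y ⟶ D.N1) (h : F ≫ D.n1 = F' ≫ D.n1)
    (h' : D.rho (prod.snd : Y ⨯ D.US ⟶ _) (prod.fst ≫ F ≫ D.m1) =
      D.rho prod.snd (prod.fst ≫ F' ≫ D.m1)) : F = F' := by
  have h1 : (F ≫ D.m1) ≫ D.ν = (F' ≫ D.m1) ≫ D.ν := by
    rw [Category.assoc, Category.assoc, D.m1_ν, ← Category.assoc, h, Category.assoc]
  refine D.hom_ext ?_ h
  refine D.uniq Y hY _ _ h1 ?_
  refine D.rho_inj prod.snd _ _ h' ?_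
  have := congrArg (fun w => (prod.fst : Y ⨯ D.US ⟶ Y) ≫ w) h1
  simpa only [Category.assoc] using this

/-- The morphism changing the point of `S1`. -/
noncomputable def ψ : D.N1 ⨯ D.S1 ⟶ D.N1 :=
  (D.exists_ext (D.N1 ⨯ D.S1) (D.smooth_prod _ D.smooth_N1) prod.snd
    (D.rho prod.snd (prod.fst ≫ prod.fst ≫ D.m1))).choose

lemma ψ_n1 : D.ψ ≫ D.n1 = prod.snd :=
  (D.exists_ext (D.N1 ⨯ D.S1) (D.smooth_prod _ D.smooth_N1) prod.snd
    (D.rho prod.snd (prod.fst ≫ prod.fst ≫ D.m1))).choose_spec.1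

lemma rho_ψ : D.rho (prod.snd : (D.N1 ⨯ D.S1) ⨯ D.US ⟶ _) (prod.fst ≫ D.ψ ≫ D.m1) =
    D.rho prod.snd (prod.fst ≫ prod.fst ≫ D.m1) :=
  (D.exists_ext (D.N1 ⨯ D.S1) (D.smooth_prod _ D.smooth_N1) prod.snd
    (D.rho prod.snd (prod.fst ≫ prod.fst ≫ D.m1))).choose_spec.2

/-- `ψ` on points. -/
noncomputable def act {T : Over S} (x : T ⟶ D.N1) (k : T ⟶ D.S1) : T ⟶ D.N1 := prod.lift x k ≫ D.ψ

@[simp] lemma act_n1 {T : Over S} (x : T ⟶ D.N1) (k : T ⟶ D.S1) : D.act x k ≫ D.n1 = k := by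
  rw [act, Category.assoc, ψ_n1, prod.lift_snd]

lemma comp_act {T T' : Over S} (t : T' ⟶ T) (x : T ⟶ D.N1) (k : T ⟶ D.S1) :
    t ≫ D.act x k = D.act (t ≫ x) (t ≫ k) := by
  rw [act, act, ← Category.assoc, prod.comp_lift]

lemma rho_act {T : Over S} (u : T ⟶ D.US) (x : T ⟶ D.N1) (k : T ⟶ D.S1) :
    D.rho u (D.act x k ≫ D.m1) = D.rho u (x ≫ D.m1) := by
  have h := congrArg (fun w => prod.lift (prod.lift x k) u ≫ w) D.rho_ψ
  simp only [D.comp_rho, prod.lift_snd] at h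
  simp only [← Category.assoc, prod.lift_fst] at h
  exact h

lemma rho_comp_act {T T' : Over S} (u : T' ⟶ D.US) (t : T' ⟶ T) (x : T ⟶ D.N1) (k : T ⟶ D.S1) :
    D.rho u (t ≫ D.act x k ≫ D.m1) = D.rho u (t ≫ x ≫ D.m1) := by
  rw [← Category.assoc, comp_act, rho_act, Category.assoc]

lemma act_self {T : Over S} (x : T ⟶ D.N1) : D.act x (x ≫ D.n1) = x := by
  have h : D.act (𝟙 D.N1) D.n1 = 𝟙 D.N1 := by
    refine D.uniq1 _ D.smooth_N1 _ _ (by simp) ?_
    rw [rho_comp_act]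
  have h2 := congrArg (fun w => x ≫ w) h
  simpa only [comp_act, Category.comp_id] using h2

lemma act_act {T : Over S} (x : T ⟶ D.N1) (k k' : T ⟶ D.S1) :
    D.act (D.act x k) k' = D.act x k' := by
  have h : D.act (D.act (prod.fst ≫ prod.fst : (D.N1 ⨯ D.S1) ⨯ D.S1 ⟶ _) (prod.fst ≫ prod.snd))
      prod.snd = D.act (prod.fst ≫ prod.fst) prod.snd := by
    refine D.uniq1 _ (D.smooth_prod _ (D.smooth_prod _ D.smooth_N1)) _ _ (by simp) ?_
    rw [rho_comp_act, rho_comp_act, rho_comp_act]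
  have h2 := congrArg (fun w => prod.lift (prod.lift x k) k' ≫ w) h
  simp only [comp_act] at h2
  simpa only [← Category.assoc, prod.lift_fst, prod.lift_snd] using h2

/-- `y` is determined by `x` and its image in `S1` when both define the same point of `A` over `U`. -/
lemma act_eq_of_rho {T : Over S} (u : T ⟶ D.US) (x y : T ⟶ D.N1)
    (h : D.rho u (x ≫ D.m1) = D.rho u (y ≫ D.m1)) : D.act x (y ≫ D.n1) = y := by
  refine D.hom_ext ?_ (by simp)
  refine D.rho_inj u _ _ (by rw [rho_act, h]) ?_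
  rw [Category.assoc, Category.assoc, D.m1_ν, ← Category.assoc, act_n1, ← Category.assoc]

lemma act_eq_of_smooth {T : Over S} (hT : Smooth T.hom) (x y : T ⟶ D.N1)
    (h : D.rho (prod.snd : T ⨯ D.US ⟶ _) (prod.fst ≫ x ≫ D.m1) =
      D.rho prod.snd (prod.fst ≫ y ≫ D.m1)) : D.act x (y ≫ D.n1) = y := by
  refine D.uniq1 T hT _ _ (by simp) ?_
  rw [← h, rho_comp_act]

/-- The equivalence relation. -/
noncomputable abbrev R1 : Over S := D.N1 ⨯ D.S1

lemma exists_rel_iff {T : Over S} (a b : T ⟶ D.N1) :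
    (∃ r : T ⟶ D.R1, r ≫ prod.fst = a ∧ r ≫ D.ψ = b) ↔ D.act a (b ≫ D.n1) = b := by
  constructor
  · rintro ⟨r, rfl, rfl⟩
    rw [Category.assoc, ψ_n1, act]
    congr 1
    apply prod.hom_ext
    · exact prod.lift_fst _ _
    · exact prod.lift_snd _ _
  · intro h
    exact ⟨prod.lift a (b ≫ D.n1), prod.lift_fst _ _, h⟩

theorem isEqvRel : AlgSp.IsEqvRel D.ψ (prod.fst : D.R1 ⟶ D.N1) where
  injective T r r' h h' := by
    refine prod.hom_ext h ?_
    rw [← D.ψ_n1, ← Category.assoc, h', Category.assoc]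
  equivalence T :=
    { refl := fun a => (D.exists_rel_iff a a).2 (D.act_self a)
      symm := fun {a b} h => by
        rw [exists_rel_iff] at h ⊢
        rw [← h, act_act, act_self]
      trans := fun {a b c} h h' => by
        rw [exists_rel_iff] at h h' ⊢
        rw [← h, act_act] at h'
        exact h' }

/-- The symmetry of the relation. -/
noncomputable def τ : D.R1 ⟶ D.R1 := prod.lift D.ψ (prod.fst ≫ D.n1)

lemma τ_τ : D.τ ≫ D.τ = 𝟙 _ := by
  have h1 : D.τ ≫ D.ψ = prod.fst := by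
    have : D.ψ = D.act prod.fst prod.snd := by
      rw [act]
      have : prod.lift prod.fst prod.snd = 𝟙 (D.N1 ⨯ D.S1) := by apply prod.hom_ext <;> simp
      rw [this, Category.id_comp]
    change D.act D.ψ (prod.fst ≫ D.n1) = prod.fst
    conv_lhs => rw [this]
    rw [act_act, act_self]
  have h2 : D.τ ≫ prod.fst ≫ D.n1 = prod.snd := by
    rw [← Category.assoc, τ, prod.lift_fst, ψ_n1]
  apply prod.hom_ext
  · rw [Category.assoc, Category.id_comp]
    conv_lhs => rw [show D.τ ≫ prod.fst = D.ψ from prod.lift_fst _ _]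
    exact h1
  · rw [Category.assoc, Category.id_comp]
    conv_lhs => rw [show D.τ ≫ prod.snd = prod.fst ≫ D.n1 from prod.lift_snd _ _]
    exact h2

theorem isEtaleEqvRel : AlgSp.IsEtaleEqvRel D.ψ (prod.fst : D.R1 ⟶ D.N1) where
  toIsEqvRel := D.isEqvRel
  etale_right := D.etale_fst _
  etale_left := by
    have hτ : IsIso D.τ := ⟨D.τ, D.τ_τ, D.τ_τ⟩
    have h1 : IsIso D.τ.left := (Over.forget S).map_isIso D.τ
    have h2 : D.ψ = D.τ ≫ prod.fst := by rw [τ, prod.lift_fst]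
    have h3 := D.etale_fst D.N1
    rw [h2, Over.comp_left]
    infer_instance

end Data

end K491.AsData
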