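import Groth.Agent.Neron.K491.TorsCh
import Groth.Agent.Neron.K131.BddCalc
import Mathlib.AlgebraicGeometry.Morphisms.Flat
import Mathlib.AlgebraicGeometry.Morphisms.Affine

/-!
# Boundedness and extensions by subgroups of `G_a ^ n`

`bdd_of_ext`: `π : G ⟶ B` a faithfully flat affine homomorphism with kernel `S ⊆ G_a ^ n` given by a system of additive
polynomials with the boundedness property: if the rational points of `B` are bounded so are those of `G`.
-/

set_option autoImplicit false
universe u

open CategoryTheory CategoryTheory.Limits AlgebraicGeometry MonObj MonoidalCategory CartesianMonoidalCategory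
open scoped TensorProduct

namespace K491.BddExt

open K491.PDefs K491.AlgPt K491.TorsCh K131.Bdd K131.BddImg

variable {K : Type u} [Field K]

/-- The preimage of an affine open under a faithfully flat affine morphism. -/
theorem exists_chart {G B : Over (Spec (CommRingCat.of K))} (π : G ⟶ B) [IsAffineHom π.left] [Flat π.left]
    [Surjective π.left] {D : Type u} [CommRing D] [Algebra K D] (u : Spec (CommRingCat.of D) ⟶ B.left)
    (hu : u ≫ B.hom = Spec.map (CommRingCat.ofHom (algebraMap K D))) (ho : IsOpenImmersion u) :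
    ∃ (C : Type u) (_ : CommRing C) (_ : Algebra K C) (_ : Algebra D C) (_ : IsScalarTower K D C)
      (v : Spec (CommRingCat.of C) ⟶ G.left), IsOpenImmersion v ∧
      v ≫ G.hom = Spec.map (CommRingCat.ofHom (algebraMap K C)) ∧ Module.FaithfullyFlat D C ∧
      IsPullback v (Spec.map (CommRingCat.ofHom (algebraMap D C))) π.left u := by
  let X' := pullback π.left u
  have hX : IsAffine X' := isAffine_of_isAffineHom (pullback.snd π.left u)
  let C : Type u := Γ(X', ⊤)
  let φ : CommRingCat.of D ⟶ CommRingCat.of C := Spec.preimage (X'.isoSpec.inv ≫ pullback.snd π.left u)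
  have hφ : Spec.map φ = X'.isoSpec.inv ≫ pullback.snd π.left u := Spec.map_preimage _
  let algD : Algebra D C := φ.hom.toAlgebra
  let algK : Algebra K C := (φ.hom.comp (algebraMap K D)).toAlgebra
  have htow : IsScalarTower K D C := IsScalarTower.of_algebraMap_eq fun _ => rfl
  have hφ' : Spec.map (CommRingCat.ofHom (algebraMap D C)) = X'.isoSpec.inv ≫ pullback.snd π.left u := hφ
  have hpb : IsPullback (X'.isoSpec.inv ≫ pullback.fst π.left u) (Spec.map (CommRingCat.ofHom (algebraMap D C)))
      π.left u := by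
    rw [hφ']
    exact IsPullback.of_iso (IsPullback.of_hasPullback π.left u) X'.isoSpec (Iso.refl _) (Iso.refl _) (Iso.refl _)
      (by simp [X']) (by simp [X']) (by simp) (by simp)
  refine ⟨C, inferInstance, algK, algD, htow, X'.isoSpec.inv ≫ pullback.fst π.left u, inferInstance, ?_, ?_, hpb⟩
  · rw [Category.assoc, ← Over.w π, pullback.condition_assoc, hu, ← Category.assoc, ← hφ', ← Spec.map_comp,
      ← CommRingCat.ofHom_comp]
  · have h1 : Flat (Spec.map (CommRingCat.ofHom (algebraMap D C))) := by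
      rw [hφ']
      infer_instance
    have h2 : Surjective (Spec.map (CommRingCat.ofHom (algebraMap D C))) := by
      rw [hφ']
      infer_instance
    have h3 : (algebraMap D C).Flat := by
      rw [HasRingHomProperty.Spec_iff (P := @Flat)] at h1
      exact h1
    have h4 : Module.Flat D C := h3
    exact Module.FaithfullyFlat.of_comap_surjective h2.surj

/-- The generators of the preimage chart. -/
theorem adjoin_append {D C : Type u} [CommRing D] [CommRing C] [Algebra K D] [Algebra K C] [Algebra D C]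
    [IsScalarTower K D C] {m n : ℕ} (x : Fin m → D) (hx : Algebra.adjoin K (Set.range x) = ⊤) (g : Fin n → C)
    (hg : Algebra.adjoin D (Set.range g) = ⊤) :
    Algebra.adjoin K (Set.range (Fin.append (fun l => algebraMap D C (x l)) g)) = ⊤ := by
  rw [eq_top_iff]
  rintro c -
  have hD : ∀ d : D, algebraMap D C d ∈
      Algebra.adjoin K (Set.range (Fin.append (fun l => algebraMap D C (x l)) g)) := by
    intro d
    have hd : d ∈ Algebra.adjoin K (Set.range x) := by rw [hx]; trivial
    induction hd using Algebra.adjoin_induction with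
    | mem d hd =>
      obtain ⟨l, rfl⟩ := hd
      exact Algebra.subset_adjoin ⟨Fin.castAdd n l, by simp⟩
    | algebraMap z =>
      rw [← IsScalarTower.algebraMap_apply]
      exact Subalgebra.algebraMap_mem _ _
    | add a b _ _ ha hb => rw [map_add]; exact Subalgebra.add_mem _ ha hb
    | mul a b _ _ ha hb => rw [map_mul]; exact Subalgebra.mul_mem _ ha hb
  have hc : c ∈ Algebra.adjoin D (Set.range g) := by rw [hg]; trivial
  induction hc using Algebra.adjoin_induction with
  | mem d hd =>
    obtain ⟨l, rfl⟩ := hd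
    exact Algebra.subset_adjoin ⟨Fin.natAdd m l, by simp⟩
  | algebraMap z => exact hD z
  | add a b _ _ ha hb => exact Subalgebra.add_mem _ ha hb
  | mul a b _ _ ha hb => exact Subalgebra.mul_mem _ ha hb

variable {R : Type u} [CommRing R] [Algebra R K]

/-- **Boundedness of an extension by a subgroup of `G_a ^ n`.** -/
theorem bdd_of_ext {ϖ : R} (hϖ : Unif K ϖ) {G B S : Over (Spec (CommRingCat.of K))} [GrpObj G] [GrpObj B] [GrpObj S]
    (π : G ⟶ B) [IsMonHom π] (i : S ⟶ G) [IsMonHom i] (hker : AlgGrp.IsKernel i π)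
    [IsAffineHom π.left] [Flat π.left] [Surjective π.left]
    {n : ℕ} {x : Fin n → Γ(S.left, ⊤)} (hx : IsVec K S x)
    (htriv : ∀ (D C : Type u) [CommRing D] [CommRing C] [Algebra D C] [Module.FaithfullyFlat D C] (z : Fin n → C ⊗[D] C),
      (∀ l, Algebra.TensorProduct.map (AlgHom.id D C) (Algebra.TensorProduct.includeRight : C →ₐ[D] C ⊗[D] C) (z l) =
        Algebra.TensorProduct.map (AlgHom.id D C) (Algebra.TensorProduct.includeLeft : C →ₐ[D] C ⊗[D] C) (z l) +
        (Algebra.TensorProduct.includeRight : C ⊗[D] C →ₐ[D] C ⊗[D] (C ⊗[D] C)) (z l)) →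
      Algebra.adjoin C (Set.range z) = ⊤ →
      ∃ g : Fin n → C, (∀ l, z l = 1 ⊗ₜ g l - g l ⊗ₜ 1) ∧ Algebra.adjoin D (Set.range g) = ⊤)
    {p : ℕ} [Fact p.Prime] [CharP K p] {m : ℕ} (F : Fin m → Fin n → (ℕ →₀ K))
    (hF : ∀ (T : Over (Spec (CommRingCat.of K))) (y : Fin n → Γ(T.left, ⊤)),
      (∀ j, addVal p (str K T) F j y = 0) ↔ ∃ a : T ⟶ S, ∀ l, ev (x l) a = y l)
    (hana : ∀ M : ℕ, ∃ M' : ℕ, ∀ y : Fin n → K,
      (∀ j, algebraMap R K (ϖ ^ M) * addVal p (RingHom.id K) F j y ∈ Set.range (algebraMap R K)) →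
      ∀ l, algebraMap R K (ϖ ^ M') * y l ∈ Set.range (algebraMap R K))
    (hB : Bdd R B.hom (fun _ => True)) : Bdd R G.hom (fun _ => True) := by
  classical
  obtain ⟨Y, hY⟩ := hB
  have data := fun k : Fin Y.n => exists_chart π (Y.u k) (Y.over k) (Y.isOpenImmersion k)
  choose C hC1 hC2 hC3 hC4 v hv1 hv2 hff hpb using data
  have data2 : ∀ k : Fin Y.n, ∃ (g : Fin n → C k) (c : Fin m → Y.D k), Algebra.adjoin (Y.D k) (Set.range g) = ⊤ ∧
      ∀ j, algebraMap (Y.D k) (C k) (c j) = addVal p (algebraMap K (C k)) F j g := by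
    intro k
    have h2 : IsPullback (Over.homMk (v k) (hv2 k) : pt K (C k) ⟶ G)
        (ptMap (IsScalarTower.toAlgHom K (Y.D k) (C k))) π (Over.homMk (Y.u k) (Y.over k) : pt K (Y.D k) ⟶ B) := by
      refine IsPullback.of_map (Over.forget _) ?_ (hpb k)
      ext1
      exact (hpb k).w
    exact exists_coord π i hker _ _ h2 hx (htriv (Y.D k) (C k)) F hF
  choose g c hgen hc using data2
  let Z : Charts G.hom :=
    { n := Y.n
      D := C
      u := v
      m := fun k => Y.m k + n
      x := fun k => Fin.append (fun l => algebraMap (Y.D k) (C k) (Y.x k l)) (g k)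
      isOpenImmersion := hv1
      over := hv2
      adjoin := fun k => adjoin_append (Y.x k) (Y.adjoin k) (g k) (hgen k) }
  have hM1 : ∀ k : Fin Y.n, ∃ M : ℕ, ∀ δ : Y.D k →+* K, δ.comp (algebraMap K (Y.D k)) = RingHom.id K →
      (∀ l, δ (Y.x k l) ∈ Set.range (algebraMap R K)) →
      ∀ j, algebraMap R K (ϖ ^ M) * δ (c k j) ∈ Set.range (algebraMap R K) := by
    intro k
    have h := fun j => exists_pow hϖ (Y.adjoin k) (c k j)
    choose N hN using h
    exact ⟨Finset.univ.sup N, fun δ h1 h2 j => hN j δ h1 h2 _ (Finset.le_sup (Finset.mem_univ j))⟩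
  choose M1 hM1 using hM1
  choose M2 hM2 using fun k => hana (M1 k)
  refine bdd_of_inS hϖ.ne_zero Z (Finset.univ.sup M2) (fun c' hc' _ => ?_)
  obtain ⟨k, δ, hδ, hint, hδc⟩ := hY (c' ≫ π.left) (by rw [Category.assoc, Over.w, hc']) trivial
  refine InS.mono (Finset.le_sup (Finset.mem_univ k)) ?_
  let w : Spec (CommRingCat.of K) ⟶ Spec (CommRingCat.of (C k)) := (hpb k).lift c' (Spec.map (CommRingCat.ofHom δ)) hδc.symm
  have hw1 : w ≫ v k = c' := (hpb k).lift_fst _ _ _
  have hw2 : w ≫ Spec.map (CommRingCat.ofHom (algebraMap (Y.D k) (C k))) = Spec.map (CommRingCat.ofHom δ) :=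
    (hpb k).lift_snd _ _ _
  obtain ⟨δ', hδ'⟩ : ∃ δ' : CommRingCat.of (C k) ⟶ CommRingCat.of K, Spec.map δ' = w :=
    ⟨Spec.preimage w, Spec.map_preimage _⟩
  have h1 : δ'.hom.comp (algebraMap (Y.D k) (C k)) = δ := by
    rw [← hδ', ← Spec.map_comp] at hw2
    have h3 := Spec.map_injective hw2
    ext d
    exact congr($(h3).hom d)
  have h2 : δ'.hom.comp (algebraMap K (C k)) = RingHom.id K := by
    rw [← hδ, ← h1]
    ext z
    change δ'.hom (algebraMap K (C k) z) = δ'.hom (algebraMap (Y.D k) (C k) (algebraMap K (Y.D k) z))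
    rw [← IsScalarTower.algebraMap_apply]
  refine ⟨k, δ'.hom, h2, ?_, ?_⟩
  · have hy := hM2 k (fun l => δ'.hom (g k l)) (fun j => by
      have h3 : addVal p (RingHom.id K) F j (fun l => δ'.hom (g k l)) = δ (c k j) := by
        rw [← h2, ← map_addVal, ← hc]
        exact congr($h1 (c k j))
      rw [h3]
      exact hM1 k δ hδ hint j)
    intro l
    change algebraMap R K (ϖ ^ M2 k) * δ'.hom (Fin.append (fun l => algebraMap (Y.D k) (C k) (Y.x k l)) (g k) l) ∈ _
    refine Fin.addCases (fun l => ?_) (fun l => ?_) l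
    · rw [Fin.append_left]
      have h4 : δ'.hom (algebraMap (Y.D k) (C k) (Y.x k l)) = δ (Y.x k l) := congr($h1 (Y.x k l))
      rw [h4]
      exact Subring.mul_mem (algebraMap R K).range ⟨_, rfl⟩ (hint l)
    · rw [Fin.append_right]
      exact hy l
  · change Spec.map δ' ≫ v k = c'
    rw [hδ', hw1]

end K491.BddExt
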