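import Groth.Agent.Neron.K491.NoLine
import Groth.Agent.Neron.K491.BddExt
import Groth.Agent.Neron.K420.Ker
import Groth.Agent.Neron.K127.PAna
import Groth.Agent.Neron.K434.AmitsurAdd
import Groth.Agent.Neron.K131.UnifDvr
import Groth.Agent.Pic13.H965.AffHom
import Mathlib.RingTheory.DiscreteValuationRing.Basic

/-!
# Boundedness of a pseudo-abelian variety from boundedness of a quotient by a subgroup of `G_a ^ n`
-/

set_option autoImplicit false
universe u

open CategoryTheory CategoryTheory.Limits AlgebraicGeometry MonObj MonoidalCategory CartesianMonoidalCategory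
open scoped TensorProduct

namespace K491.BddStep

open K491.PDefs K131.Bdd K131.BddImg Groth.Agent.Sga3B

/-- The fraction field of a discrete valuation ring is infinite. -/
theorem infinite_of_dvr (R K : Type u) [CommRing R] [IsDomain R] [IsDiscreteValuationRing R] [Field K] [Algebra R K]
    [IsFractionRing R K] : Infinite K := by
  obtain ⟨ϖ, hϖ⟩ := IsDiscreteValuationRing.exists_irreducible R
  exact Infinite.of_injective (fun n : ℕ => algebraMap R K (ϖ ^ n)) (fun a b h =>
    pow_injective_of_not_isUnit hϖ.not_isUnit hϖ.ne_zero (IsFractionRing.injective R K h))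

variable (R K : Type u) [CommRing R] [IsDomain R] [IsDiscreteValuationRing R] [HenselianLocalRing R] [Field K]
  [Algebra R K] [IsFractionRing R K]

/-- **Boundedness from a quotient.** -/
theorem bdd_of_quot (hR : CAlg.IsGRing R) (p : ℕ) [Fact p.Prime] [CharP K p]
    (P B S : Over (Spec (CommRingCat.of K))) [GrpObj P] [IsCommMonObj P] [LocallyOfFiniteType P.hom] [QuasiCompact P.hom]
    (hP : IsPA P) [GrpObj B] [LocallyOfFiniteType B.hom] [GrpObj S]
    (π : P ⟶ B) [IsMonHom π] [Flat π.left] [Surjective π.left] (i : S ⟶ P) [IsMonHom i]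
    (hker : AlgGrp.IsKernel i π) {n : ℕ} {x : Fin n → Γ(S.left, ⊤)} (hx : IsVec K S x)
    (hB : Bdd R B.hom (fun _ => True)) : Bdd R P.hom (fun _ => True) := by
  obtain ⟨ϖ, hϖ⟩ := IsDiscreteValuationRing.exists_irreducible R
  have hinf := infinite_of_dvr R K
  have hmono : Mono i := K491.TorsCh.mono_of_kernel π i hker
  have hcomm : IsCommMonObj S := ⟨by
    rw [← cancel_mono i, Category.assoc, IsMonHom.mul_hom, ← Category.assoc,
      ← BraidedCategory.braiding_naturality, Category.assoc, IsCommMonObj.mul_comm]⟩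
  obtain ⟨m, F, hF⟩ := K420.Ker.exists_system K p S x hx
  have hana : ∀ M : ℕ, ∃ M' : ℕ, ∀ y : Fin n → K,
      (∀ j, algebraMap R K (ϖ ^ M) * addVal p (RingHom.id K) F j y ∈ Set.range (algebraMap R K)) →
      ∀ l, algebraMap R K (ϖ ^ M') * y l ∈ Set.range (algebraMap R K) :=
    fun M => K127.PAna.bounded_of_noLine R K hR p hϖ F (K491.NoLine.noLine hP i hx p F hF) M
  have hsepB : IsSeparated B.hom := Groth.Agent.Books.AntiAffine.isSeparated_hom B
  have hqc : QuasiCompact π.left := by
    have h : QuasiCompact (π.left ≫ B.hom) := by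
      rw [Over.w]
      infer_instance
    exact QuasiCompact.of_comp π.left B.hom
  have haff : IsAffineHom π.left := by
    apply Groth.Agent.Pic13.H965.AffHom.isAffineHom_of_ker π
    have hSa := hx.affine
    let e : KerGrp.kerObj π ≅ S := (KerGrp.isPullback_ker π).isoIsPullback _ _ hker
    have he : IsIso e.hom.left := inferInstanceAs (IsIso ((Over.forget _).mapIso e).hom)
    exact IsAffine.of_isIso e.hom.left
  exact K491.BddExt.bdd_of_ext (K131.UnifDvr.unif hϖ.ne_zero hϖ.not_isUnit) π i hker hx
    (fun D C _ _ _ _ z h1 h2 => K434.AmitsurAdd.exists_triv D C z h1 h2) F hF hana hB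

end K491.BddStep
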