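import Groth.Agent.Neron.K491.IsogPA
import Groth.Agent.Sga67.DVRConn
import Groth.Agent.Sga3B.DimFib
import Groth.Agent.Grpsch.MulFin

/-!
# Dimensions of the two abelian varieties attached to a pseudo-abelian variety
-/

set_option autoImplicit false
universe u

open CategoryTheory CategoryTheory.Limits AlgebraicGeometry MonObj
open MonoidalCategory CartesianMonoidalCategory

namespace K491.CharZ

section

variable {k : Type u} [Field k]

/-- A homomorphism from a proper geometrically integral group to an affine group is trivial. -/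
theorem eq_one_of_isAffine {A V : Over (Spec (CommRingCat.of k))} [GrpObj A] [GrpObj V]
    [IsProper A.hom] [GeometricallyIntegral A.hom] [IsAffine V.left] (q : A ⟶ V) [IsMonHom q] :
    q = 1 := by
  have hb := Groth.Agent.Sga67.DVRConn.appTop_bijective_of_field k A.left A.hom
  let ε : Spec (CommRingCat.of k) ⟶ A.left := (η[A] : 𝟙_ (Over (Spec (CommRingCat.of k))) ⟶ A).left
  have hε : ε ≫ A.hom = 𝟙 _ := Over.w (η[A] : 𝟙_ (Over (Spec (CommRingCat.of k))) ⟶ A)
  have h1 : (1 : A ⟶ V) = toUnit A ≫ η[A] ≫ q := by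
    rw [IsMonHom.one_hom q]
    rfl
  rw [h1]
  ext1
  apply ext_of_isAffine
  have h2 : (toUnit A).left = A.hom := by
    have := Over.w (toUnit A)
    rw [Over.tensorUnit_hom] at this
    exact (Category.comp_id _).symm.trans this
  have h3 : (toUnit A ≫ η[A] ≫ q).left = A.hom ≫ ε ≫ q.left := by
    rw [Over.comp_left, Over.comp_left, h2]
  rw [h3, Scheme.Hom.comp_appTop, Scheme.Hom.comp_appTop, Category.assoc]
  have h4 : A.hom.appTop ≫ ε.appTop = 𝟙 _ := by
    rw [← Scheme.Hom.comp_appTop, hε, Scheme.Hom.id_appTop]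
  have h5 : IsIso A.hom.appTop := (ConcreteCategory.isIso_iff_bijective _).mpr hb
  have h6 : ε.appTop ≫ A.hom.appTop = 𝟙 _ := by
    rw [← IsIso.inv_eq_of_hom_inv_id h4, IsIso.inv_hom_id]
  rw [h6, Category.comp_id]

/-- Dimension and surjective homomorphisms. -/
theorem dim_le_of_surjective {C A : Over (Spec (CommRingCat.of k))} [GrpObj C] [GrpObj A]
    [LocallyOfFiniteType C.hom] [QuasiCompact C.hom] [LocallyOfFiniteType A.hom] [IsReduced A.left]
    (u : C ⟶ A) [IsMonHom u] [Surjective u.left] :
    topologicalKrullDim ↥A.left ≤ topologicalKrullDim ↥C.left := by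
  have := K490.Degree.flat_of_surjective u
  exact Groth.Agent.Desc.DimMap.topologicalKrullDim_le_of_generalizingMap u.left u.left.continuous
    (Flat.generalizingMap u.left) u.left.surjective

/-- Complementary homomorphisms of abelian varieties: the dimensions agree. -/
theorem dim_eq_of_isog {E A : Over (Spec (CommRingCat.of k))} [GrpObj E] [GrpObj A]
    [IsProper E.hom] [GeometricallyIntegral E.hom] [IsProper A.hom] [GeometricallyIntegral A.hom]
    (φ : E ⟶ A) (ψ : A ⟶ E) [IsMonHom φ] [IsMonHom ψ] (n : ℕ) (hn : 1 ≤ n)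
    (h : φ ≫ ψ = (𝟙 E) ^ n) (h' : ψ ≫ φ = (𝟙 A) ^ n) :
    topologicalKrullDim ↥E.left = topologicalKrullDim ↥A.left := by
  have hE : IsIntegral E.left := GeometricallyIntegral.isIntegral_of_subsingleton E.hom
  have hA : IsIntegral A.left := GeometricallyIntegral.isIntegral_of_subsingleton A.hom
  have h1 : Surjective φ.left := by
    have := Groth.Agent.Grpsch.MulFin.surjective_pow A n hn
    rw [← h', Over.comp_left] at this
    exact Surjective.of_comp ψ.left φ.left
  have h2 : Surjective ψ.left := by
    have := Groth.Agent.Grpsch.MulFin.surjective_pow E n hn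
    rw [← h, Over.comp_left] at this
    exact Surjective.of_comp φ.left ψ.left
  exact le_antisymm (dim_le_of_surjective ψ) (dim_le_of_surjective φ)

/-- A surjective homomorphism with trivial kernel onto a reduced group is an isomorphism. -/
theorem isIso_of_trivial_kernel {C A H : Over (Spec (CommRingCat.of k))} [GrpObj C] [GrpObj A]
    [GrpObj H] [LocallyOfFiniteType C.hom] [QuasiCompact C.hom] [LocallyOfFiniteType A.hom]
    [IsReduced A.left] (i : H ⟶ C) [IsMonHom i] (u : C ⟶ A) [IsMonHom u]
    (hk : AlgGrp.IsKernel i u) (hs : Surjective u.left) (hH : IsIso η[H]) : IsIso u := by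
  have hfl := K490.Degree.flat_of_surjective u
  have hlfp : LocallyOfFinitePresentation u.left := by
    have h1 : LocallyOfFinitePresentation C.hom := inferInstance
    have h6 : LocallyOfFinitePresentation (u.left ≫ A.hom) := by rw [Over.w]; infer_instance
    exact Groth.Agent.Flat2E.Thick.locallyOfFinitePresentation_of_comp u.left A.hom
  have hi : i = 1 := by
    have h1 : toUnit H ≫ η[H] = 𝟙 H := by
      rw [← cancel_epi η[H], Category.comp_id, ← Category.assoc]
      have : η[H] ≫ toUnit H = 𝟙 _ := toUnit_unique _ _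
      rw [this, Category.id_comp]
    have h2 : (𝟙 H : H ⟶ H) = 1 := by rw [← h1]; rfl
    rw [← Category.id_comp i, h2, MonObj.one_comp]
  obtain ⟨s, hs1, hs2⟩ := Groth.Agent.Sga3.H794.ChevKer.exists_desc_hom i u hk (𝟙 C)
    (by rw [Category.comp_id, hi])
  have hepi := Groth.Agent.Sga3C.QuotProps.epi_of_flat_surjective u
  refine ⟨s, hs2, ?_⟩
  rw [← cancel_epi u, reassoc_of% hs2, Category.comp_id]

open Groth.Agent.Sga3B Groth.Agent.Sga3B.RedIso in
theorem exists_bc_inv {S S' : Scheme.{u}} (f : S' ⟶ S) [IsIso f] (P : Over S) [GrpObj P] :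
    ∃ c : Red.bc (inv f) (Red.bc f P) ≅ P, IsMonHom c.hom ∧ IsMonHom c.inv := by
  let c : Grp.mk (Red.bc (inv f) (Red.bc f P)) ≅ Grp.mk P :=
    (BcIso.bcCompIso (inv f) f P).symm ≪≫ BcIso.bcCongrIso (IsIso.inv_hom_id f) P ≪≫ BcIso.bcIdIso P
  exact ⟨und c, inferInstance, inferInstance⟩

open Groth.Agent.Sga3B Groth.Agent.Sga3B.RedIso Groth.Agent.Sga7.H274.Transport in
/-- The case of a bijective extension of fields. -/
theorem dim_eq_of_bijective
    (P : Over (Spec (CommRingCat.of k))) [GrpObj P] [IsCommMonObj P]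
    [Smooth P.hom] [LocallyOfFiniteType P.hom] [QuasiCompact P.hom] [ConnectedSpace ↥P.left]
    (hP : ∀ (H : Over (Spec (CommRingCat.of k))) [GrpObj H] (j : H ⟶ P) [IsMonHom j],
      IsClosedImmersion j.left → Smooth H.hom → ConnectedSpace ↥H.left → IsAffine H.left → IsIso η[H])
    (E V : Over (Spec (CommRingCat.of k))) [GrpObj E] [GrpObj V]
    (iE : E ⟶ P) [IsMonHom iE] (q : P ⟶ V) [IsMonHom q]
    (hiE : IsClosedImmersion iE.left) (hkerE : AlgGrp.IsKernel iE q)
    [IsAffine V.left]
    (L : Type u) [Field L] [Algebra k L] (hL : Function.Bijective (algebraMap k L))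
    (H A : Over (Spec (CommRingCat.of L))) [GrpObj H] [GrpObj A]
    (i : H ⟶ Red.bc (Spec.map (CommRingCat.ofHom (algebraMap k L))) P) [IsMonHom i] (π : Red.bc (Spec.map (CommRingCat.ofHom (algebraMap k L))) P ⟶ A) [IsMonHom π]
    (hi : IsClosedImmersion i.left) (hker : AlgGrp.IsKernel i π) (hπ : Surjective π.left)
    [Smooth H.hom] [ConnectedSpace ↥H.left] [IsAffine H.left]
    [IsProper A.hom] [GeometricallyIntegral A.hom] :
    topologicalKrullDim ↥E.left = topologicalKrullDim ↥A.left := by
  let f : Spec (CommRingCat.of L) ⟶ Spec (CommRingCat.of k) := sp (algebraMap k L)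
  have hf : IsIso f := isIso_sp (RingEquiv.ofBijective (algebraMap k L) hL)
  obtain ⟨c', hc', hc''⟩ := exists_bc_inv f P
  let H' := Red.bc (inv f) H
  let A' := Red.bc (inv f) A
  let i₀ : Red.bc (inv f) H ⟶ Red.bc (inv f) (Red.bc f P) := (Over.pullback (inv f)).map i
  let π₀ : Red.bc (inv f) (Red.bc f P) ⟶ Red.bc (inv f) A := (Over.pullback (inv f)).map π
  let i' : H' ⟶ P := i₀ ≫ c'.hom
  let π' : P ⟶ A' := c'.inv ≫ π₀
  have hk₀ : AlgGrp.IsKernel i₀ π₀ := Groth.Agent.Sga7.H760.KerBc.isKernel_bc (inv f) hker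
  have hk' : AlgGrp.IsKernel i' π' :=
    IsPullback.of_iso hk₀ (Iso.refl _) c' (Iso.refl _) (Iso.refl _) (by simp [i']) (by simp)
      (by simp [π']) (by simp)
  have hi' : IsClosedImmersion i'.left := by
    have h1 : IsClosedImmersion i₀.left :=
      MorphismProperty.of_isPullback (P := @IsClosedImmersion)
        (Groth.Agent.Sga7.H756.GenBase.isPullback_map (inv f) i).flip hi
    have h2 : IsIso c'.hom.left := inferInstance
    rw [Over.comp_left]
    infer_instance
  have hπ' : Surjective π'.left := by
    have h1 : Surjective π₀.left :=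
      MorphismProperty.of_isPullback (P := @Surjective)
        (Groth.Agent.Sga7.H756.GenBase.isPullback_map (inv f) π).flip hπ
    have h2 : IsIso c'.inv.left := inferInstance
    rw [Over.comp_left]
    infer_instance
  have hH1 : Smooth H'.hom := inferInstanceAs (Smooth (pullback.snd H.hom (inv f)))
  have hHi : IsIso (pullback.fst H.hom (inv f)) := inferInstance
  have hH2 : ConnectedSpace ↥H'.left := by
    have e : H.left ≅ H'.left := (asIso (pullback.fst H.hom (inv f))).symm
    have hs : Surjective e.hom := inferInstance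
    exact hs.surj.connectedSpace e.hom.continuous
  have hH3 : IsAffine H'.left := .of_isIso (pullback.fst H.hom (inv f))
  have hη : IsIso η[H'] := hP H' i' hi' hH1 hH2 hH3
  have hA1 : IsProper A'.hom := inferInstanceAs (IsProper (pullback.snd A.hom (inv f)))
  have hA2 : GeometricallyIntegral A'.hom :=
    inferInstanceAs (GeometricallyIntegral (pullback.snd A.hom (inv f)))
  have hA3 : IsIntegral A'.left := GeometricallyIntegral.isIntegral_of_subsingleton A'.hom
  have hiso : IsIso π' := isIso_of_trivial_kernel i' π' hk' hπ' hη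
  have hiso' : IsIso π'.left := (Over.forget _).map_isIso π'
  have hP1 : IsProper P.hom := by
    rw [← Over.w π']
    infer_instance
  have hP2 : GeometricallyIntegral P.hom := by
    have := MorphismProperty.RespectsIso.precomp @GeometricallyIntegral π'.left A'.hom hA2
    rwa [Over.w π'] at this
  have hq : q = 1 := eq_one_of_isAffine q
  obtain ⟨s, hs⟩ := Groth.Agent.Sga3.H794.ChevKer.exists_lift_ker hkerE (𝟙 P) (by
    rw [Category.id_comp, hq])
  have hmono : Mono iE := by
    have : Mono iE.left := inferInstance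
    exact Over.mono_of_mono_left iE
  have hE : IsIso iE := ⟨s, by rw [← cancel_mono iE, Category.assoc, hs, Category.comp_id,
    Category.id_comp], hs⟩
  have hE' : IsIso iE.left := (Over.forget _).map_isIso iE
  have d1 : topologicalKrullDim ↥E.left = topologicalKrullDim ↥P.left :=
    (Scheme.homeoOfIso (asIso iE.left)).isHomeomorph.topologicalKrullDim_eq _
  have d2 : topologicalKrullDim ↥P.left = topologicalKrullDim ↥A'.left :=
    (Scheme.homeoOfIso (asIso π'.left)).isHomeomorph.topologicalKrullDim_eq _
  have d3 : topologicalKrullDim ↥A'.left = topologicalKrullDim ↥A.left :=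
    (Scheme.homeoOfIso (asIso (pullback.fst A.hom (inv f)))).isHomeomorph.topologicalKrullDim_eq _
  rw [d1, d2, d3]

end

end K491.CharZ
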