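import Groth.Agent.S14581
import Groth.Agent.S1629
import Groth.Agent.S3037
import Groth.Agent.AlgGrp.K402.Quo
import Groth.Agent.AlgGrp.K406.ClosureGrp
import Groth.Agent.Neron.K489.NoTorus
import Groth.Agent.Neron.K489.FieldBc
import Groth.Agent.Neron.K489.PtsMap
import Groth.Agent.AlgGrp.K400.Quot
import Groth.Agent.AbVar.K510.KerLemmas
import Groth.Agent.Sga7.H760.KerBc
import Groth.Agent.Sga3.H780.Pointed
import Groth.Agent.AGF.K493.URad
import Groth.Agent.Sga3B.Parab.GeomFib147

/-!
# Chevalley's theorem for commutative groups after a finite purely inseparable extension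

`exists_chevalley`: `P` smooth connected commutative of finite type over a field `k`; over a finite purely
inseparable extension `L` there is a smooth connected affine closed subgroup `H` of `P_L` whose quotient is an
abelian variety.
-/

set_option autoImplicit false
universe u
open CategoryTheory CategoryTheory.Limits AlgebraicGeometry MonObj MonoidalCategory CartesianMonoidalCategory

namespace K491.ChevPI

open Groth.Agent Groth.Agent.Localalg.GrpSchPts

variable {k : Type u} [Field k]

theorem isSubgroupSet_univ {S : Scheme.{u}} (G : Over S) [GrpObj G] : IsSubgroupSet G (Set.univ : Set G.left) where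
  one_mem _ := trivial
  mul_mem _ _ _ := trivial
  inv_mem _ _ := trivial

theorem isNormalHom_of_comm {S : Scheme.{u}} {N G : Over S} [GrpObj N] [GrpObj G] [IsCommMonObj G] (i : N ⟶ G) :
    AlgGrp.IsNormalHom i := by
  intro T g n
  refine ⟨n, ?_⟩
  rw [mul_comm g, mul_inv_cancel_right]

/-- The reduction of a group scheme of finite type over a field is a smooth subgroup after a finite purely
inseparable extension. -/
theorem exists_red (N : Over (Spec (CommRingCat.of k))) [GrpObj N] [LocallyOfFiniteType N.hom] [QuasiCompact N.hom] :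
    ∃ (L : Type u) (_ : Field L) (_ : Algebra k L), FiniteDimensional k L ∧ IsPurelyInseparable k L ∧
      ∃ (D : Over (Spec (CommRingCat.of L))) (_ : GrpObj D)
        (d : D ⟶ Red.bc (Spec.map (CommRingCat.ofHom (algebraMap k L))) N),
        IsMonHom d ∧ IsClosedImmersion d.left ∧ Surjective d.left ∧ Smooth D.hom := by
  let _ : N.left.Over (Spec (CommRingCat.of k)) := ⟨N.hom⟩
  have h1 : LocallyOfFiniteType (N.left ↘ Spec (CommRingCat.of k)) := ‹LocallyOfFiniteType N.hom›
  have h2 : CompactSpace N.left := QuasiCompact.compactSpace_of_compactSpace N.hom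
  have h3 : IsLocallyNoetherian N.left := LocallyOfFiniteType.isLocallyNoetherian N.hom
  have h4 : IsNoetherian N.left := {}
  obtain ⟨L, _, _, hfd, hpi, hgr⟩ := S1629.result k N.left (TopologicalSpace.NoetherianSpace.finite_irreducibleComponents)
  refine ⟨L, inferInstance, inferInstance, hfd, hpi, ?_⟩
  let g : Spec (CommRingCat.of L) ⟶ Spec (CommRingCat.of k) := Spec.map (CommRingCat.ofHom (algebraMap k L))
  let D : Over (Spec (CommRingCat.of L)) := Over.mk ((pullback N.hom g).nilradical.subschemeι ≫ pullback.snd N.hom g)
  let d : D ⟶ Red.bc g N := Over.homMk (pullback N.hom g).nilradical.subschemeι rfl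
  have hD : GeometricallyReduced D.hom := hgr
  have hcl : IsClosedImmersion d.left :=
    inferInstanceAs (IsClosedImmersion (pullback N.hom g).nilradical.subschemeι)
  have hsurj : Function.Surjective d.left := by
    rw [← Set.range_eq_univ]
    change Set.range (pullback N.hom g).nilradical.subschemeι = _
    rw [Scheme.IdealSheafData.range_subschemeι, Scheme.support_nilradical]
    rfl
  have hr : Set.range d.left = Set.univ := Set.range_eq_univ.2 hsurj
  obtain ⟨iD, hmon⟩ := K406.ClosureGrp.exists_grpObj d (by rw [hr]; exact isSubgroupSet_univ _)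
  have hlft : LocallyOfFiniteType D.hom := by
    have : LocallyOfFiniteType (Red.bc g N).hom := inferInstanceAs (LocallyOfFiniteType (pullback.snd N.hom g))
    have h : LocallyOfFiniteType (d.left ≫ (Red.bc g N).hom) := inferInstance
    rwa [Over.w] at h
  refine ⟨D, iD, d, hmon, hcl, ⟨hsurj⟩, ?_⟩
  have : GrpObj (Over.mk D.hom) := iD
  exact @smooth_of_grpObj L _ D.left D.hom _ iD _

theorem connectedSpace_of_closed {X Y : Scheme.{u}} (f : X ⟶ Y) [IsClosedImmersion f] (hs : Function.Surjective f)
    [ConnectedSpace Y] : ConnectedSpace X := by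
  let e : X ≃ₜ Y := f.isEmbedding.toHomeomorphOfSurjective hs
  exact e.symm.surjective.connectedSpace e.symm.continuous

theorem closed_map {S S' : Scheme.{u}} (g : S' ⟶ S) {X Y : Over S} (f : X ⟶ Y) [IsClosedImmersion f.left] :
    IsClosedImmersion ((Over.pullback g).map f).left := by
  have h : IsPullback (pullback.fst X.hom g) ((Over.pullback g).map f).left f.left (pullback.fst Y.hom g) := by
    have h1 : IsPullback (pullback.fst Y.hom g) (pullback.snd Y.hom g) Y.hom g := IsPullback.of_hasPullback _ _
    have h2 : IsPullback (pullback.fst X.hom g) (pullback.snd X.hom g) (f.left ≫ Y.hom) g := by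
      rw [Over.w]; exact IsPullback.of_hasPullback _ _
    refine (IsPullback.of_right (h₁₁ := ((Over.pullback g).map f).left) (v₁₁ := pullback.fst X.hom g) ?_ ?_ h1.flip).flip
    · have h3 : ((Over.pullback g).map f).left ≫ pullback.snd Y.hom g = pullback.snd X.hom g :=
        Over.w ((Over.pullback g).map f)
      rw [h3]
      exact h2.flip
    · exact (pullback.lift_fst _ _ _)
  exact MorphismProperty.of_isPullback (P := @IsClosedImmersion) h inferInstance

/-- **Chevalley's theorem for commutative groups**, after a finite purely inseparable extension. -/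
theorem exists_chevalley (P : Over (Spec (CommRingCat.of k))) [GrpObj P] [IsCommMonObj P]
    [Smooth P.hom] [QuasiCompact P.hom] [ConnectedSpace ↥P.left] :
    ∃ (L : Type u) (_ : Field L) (_ : Algebra k L) (_ : FiniteDimensional k L) (_ : IsPurelyInseparable k L)
      (H A : Over (Spec (CommRingCat.of L))) (_ : GrpObj H) (_ : GrpObj A)
      (i : H ⟶ Red.bc (Spec.map (CommRingCat.ofHom (algebraMap k L))) P)
      (π : Red.bc (Spec.map (CommRingCat.ofHom (algebraMap k L))) P ⟶ A),
      IsMonHom i ∧ IsMonHom π ∧ IsClosedImmersion i.left ∧ AlgGrp.IsKernel i π ∧ Surjective π.left ∧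
      Smooth H.hom ∧ ConnectedSpace ↥H.left ∧ IsAffine H.left ∧
      IsProper A.hom ∧ Smooth A.hom ∧ GeometricallyIntegral A.hom := by
  obtain ⟨N, gN, n, hn, hncl, -, haff, hconn, ⟨Q, gQ, q, hq, hqs, hqf, hk, hQ⟩, -⟩ := S14581.result k P
  have hNl : LocallyOfFiniteType N.hom := by rw [← Over.w n]; infer_instance
  have hNq : QuasiCompact N.hom := by rw [← Over.w n]; infer_instance
  obtain ⟨L, _, _, hfd, hpi, D, gD, d, hd, hdcl, hds, hDsm⟩ := exists_red N
  let g : Spec (CommRingCat.of L) ⟶ Spec (CommRingCat.of k) := Spec.map (CommRingCat.ofHom (algebraMap k L))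
  have hirr : IrreducibleSpace (Red.bc g N).left := K489.FieldBc.irreducibleSpace_bc' g N
  have hDconn : ConnectedSpace D.left := connectedSpace_of_closed d.left hds.surj
  have hnL : IsClosedImmersion ((Over.pullback g).map n).left := closed_map g n
  let i : D ⟶ Red.bc g P := d ≫ (Over.pullback g).map n
  have hi : IsMonHom i := inferInstance
  have hicl : IsClosedImmersion i.left := by
    change IsClosedImmersion (d.left ≫ ((Over.pullback g).map n).left)
    infer_instance
  have hNaff : IsAffine (Red.bc g N).left := by
    change IsAffine (pullback N.hom g)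
    infer_instance
  have hDaff : IsAffine D.left := isAffine_of_isAffineHom d.left
  have hPs : Smooth (Red.bc g P).hom := inferInstanceAs (Smooth (pullback.snd P.hom g))
  have hPq : QuasiCompact (Red.bc g P).hom := inferInstanceAs (QuasiCompact (pullback.snd P.hom g))
  have hPc : IsCommMonObj (Red.bc g P) := inferInstance
  obtain ⟨A, gA, π, hπ, hπs, hπf, hkπ, hA1, hA2, hA3⟩ := K402.Quo.exists_quotient i (isNormalHom_of_comm i)
  have hAsm : Smooth A.hom := hA3 hPs
  have hPirr : IrreducibleSpace (Red.bc g P).left := K489.FieldBc.irreducibleSpace_bc' g P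
  have hAconn : ConnectedSpace A.left := hπs.surj.connectedSpace π.left.continuous
  let qL : Red.bc g P ⟶ Red.bc g Q := (Over.pullback g).map q
  have hQL : IsProper (Red.bc g Q).hom := inferInstanceAs (IsProper (pullback.snd Q.hom g))
  have hkL := Sga7.H760.KerBc.isKernel_bc g hk
  have hAsep : IsSeparated A.hom := Books.AntiAffine.isSeparated_hom A
  have hπq : QuasiCompact π.left := by
    have h : QuasiCompact (π.left ≫ A.hom) := by rw [Over.w]; infer_instance
    exact QuasiCompact.of_comp π.left A.hom
  obtain ⟨h, hh, hπh⟩ := K400.Quot.exists_desc_hom π qL (fun T x hx => by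
    obtain ⟨c, hc⟩ := K489.PtsMap.exists_of_kernel i π hkπ x hx
    have h1 : (Over.pullback g).map n ≫ qL = 1 := by
      have := hkL.w
      exact this
    rw [← hc]
    change (c ≫ d ≫ (Over.pullback g).map n) ≫ qL = 1
    rw [Category.assoc, Category.assoc, h1, MonObj.comp_one, MonObj.comp_one])
  have hhq : QuasiCompact h.left := by
    have h1 : QuasiCompact (h.left ≫ (Red.bc g Q).hom) := by rw [Over.w]; infer_instance
    exact QuasiCompact.of_comp h.left (Red.bc g Q).hom
  have hfin : IsFinite h.left := by
    rw [S3037.result L A (Red.bc g Q) h]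
    have hη := K510.KerLemmas.isClosedImmersion_one (Red.bc g Q)
    have hfst : IsClosedImmersion (pullback.fst h.left (η[Red.bc g Q] : 𝟙_ (Over (Spec (CommRingCat.of L))) ⟶
      Red.bc g Q).left) := inferInstance
    have hsub : Subsingleton ↥(pullback h.left (η[Red.bc g Q] : 𝟙_ (Over (Spec (CommRingCat.of L))) ⟶
      Red.bc g Q).left) := by
      refine ⟨fun z z' => (Scheme.Hom.isClosedEmbedding (pullback.fst h.left (η[Red.bc g Q] : 𝟙_ (Over (Spec (CommRingCat.of L))) ⟶
      Red.bc g Q).left)).injective ?_⟩
      have key : ∀ z : ↥(pullback h.left (η[Red.bc g Q] : 𝟙_ (Over (Spec (CommRingCat.of L))) ⟶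
          Red.bc g Q).left), ∃ s : (𝟙_ (Over (Spec (CommRingCat.of L)))).left,
          pullback.fst h.left (η[Red.bc g Q] : 𝟙_ (Over (Spec (CommRingCat.of L))) ⟶ Red.bc g Q).left z =
            η[A].left s := by
        intro z
        obtain ⟨x, hx⟩ := hπs.surj (pullback.fst h.left (η[Red.bc g Q] : 𝟙_ (Over (Spec (CommRingCat.of L))) ⟶
          Red.bc g Q).left z)
        have h1 : qL.left x = η[Red.bc g Q].left (pullback.snd h.left (η[Red.bc g Q] :
            𝟙_ (Over (Spec (CommRingCat.of L))) ⟶ Red.bc g Q).left z) := by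
          rw [← hπh, comp_left_apply, hx, ← Scheme.Hom.comp_apply, pullback.condition, Scheme.Hom.comp_apply]
        obtain ⟨y, hy, -⟩ := Scheme.exists_preimage_of_isPullback (hkL.map (Over.forget _)) x _ h1
        obtain ⟨w, hw⟩ := hds.surj y
        refine ⟨(toUnit D).left w, ?_⟩
        rw [← hx]
        have h2 : i ≫ π = toUnit D ≫ η[A] := hkπ.w
        have h3 : i.left w = x := by
          rw [comp_left_apply, hw]
          exact hy
        rw [← h3, ← comp_left_apply, h2, comp_left_apply]
      obtain ⟨s, hs⟩ := key z
      obtain ⟨s', hs'⟩ := key z'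
      have h4 : Subsingleton (𝟙_ (Over (Spec (CommRingCat.of L)))).left :=
        inferInstanceAs (Subsingleton (PrimeSpectrum L))
      exact hs.trans ((congrArg η[A].left (Subsingleton.elim s s')).trans hs'.symm)
    infer_instance
  have hAp : IsProper A.hom := by
    rw [← Over.w h]
    infer_instance
  exact ⟨L, inferInstance, inferInstance, hfd, hpi, D, A, gD, gA, i, π, hi, hπ, hicl, hkπ, hπs, hDsm, hDconn, hDaff,
    hAp, hAsm, Sga3.H780.Pointed.geometricallyIntegral A⟩

end K491.ChevPI
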