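import Groth.Agent.Pi1.H384.NormFinRing
import Groth.Agent.Ega4B.NormalSep
import Groth.Agent.Dix.NormalLoc
import Mathlib.RingTheory.Flat.TorsionFree
import Mathlib.RingTheory.Etale.Field

/-!
# The integral closure of a Dedekind domain in an étale algebra over its fraction field
-/

set_option autoImplicit false
universe u

open scoped nonZeroDivisors

namespace K491.DedInt

variable (R K L : Type u) [CommRing R] [IsDedekindDomain R] [Field K] [Algebra R K]
  [IsFractionRing R K] [CommRing L] [Algebra K L] [Algebra R L] [IsScalarTower R K L]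
  [Algebra.Etale K L]

include K in
theorem finite : Module.Finite R (integralClosure R L) :=
  Groth.Agent.Pi1.H384.NormFinRing.finite_of_etale_field (K := K)

include K in
theorem isLocalization : IsLocalization (Algebra.algebraMapSubmonoid (integralClosure R L) R⁰) L := by
  have hfin : Module.Finite K L := Algebra.FormallyUnramified.finite_of_free K L
  refine ⟨?_, fun z => ?_, fun {x y} h => ⟨1, ?_⟩⟩
  · rintro ⟨_, x, hx, rfl⟩
    have h1 : IsUnit (algebraMap R K x) :=
      IsUnit.mk0 _ ((map_ne_zero_iff _ (IsFractionRing.injective R K)).mpr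
        (nonZeroDivisors.ne_zero hx))
    have h2 := h1.map (algebraMap K L)
    rw [← IsScalarTower.algebraMap_apply] at h2
    exact h2
  · obtain ⟨m, hm⟩ :=
      IsIntegral.exists_multiple_integral_of_isLocalization R⁰ z
        (Algebra.IsIntegral.isIntegral (R := K) z)
    refine ⟨⟨⟨m • z, hm⟩, algebraMap R _ m, m, SetLike.coe_mem m, rfl⟩, ?_⟩
    change z * algebraMap R L m = m • z
    rw [mul_comm, Submonoid.smul_def, Algebra.smul_def]
  · have : x = y := Subtype.ext h
    rw [this]

omit [IsDedekindDomain R] [Algebra R K] [IsFractionRing R K] [IsScalarTower R K L] in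
include K in
theorem normal (p : Ideal (integralClosure R L)) [p.IsPrime] :
    IsDomain (Localization.AtPrime p) ∧ IsIntegrallyClosed (Localization.AtPrime p) := by
  have hfin : Module.Finite K L := Algebra.FormallyUnramified.finite_of_free K L
  have hred : IsReduced L := Algebra.FormallyUnramified.isReduced_of_field K L
  refine Groth.Agent.Ega4B.NormalSep.isNormalRing_of_vnr (algebraMap (integralClosure R L) L)
    Subtype.val_injective ?_ (Groth.Agent.Ega4B.NormalSep.vnr_of_integral_field K) p
  intro x hx
  have h1 : IsIntegral (integralClosure R L) x := hx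
  have h2 : IsIntegral R x := isIntegral_trans (R := R) x h1
  exact ⟨⟨x, h2⟩, rfl⟩

variable {L} in
omit [Algebra R K] [IsFractionRing R K] [IsScalarTower R K L] in
include K in
/-- A nonzero element of a local ring of the integral closure divides a nonzero element of `R`. -/
theorem exists_dvd (p : Ideal (integralClosure R L)) [p.IsPrime] (b : Localization.AtPrime p)
    (hb : b ≠ 0) : ∃ r : R, r ≠ 0 ∧ b ∣ algebraMap R (Localization.AtPrime p) r := by
  have := (normal R K L p).1
  obtain ⟨b', s, rfl⟩ := IsLocalization.exists_mk'_eq p.primeCompl b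
  have h1 : algebraMap (integralClosure R L) (Localization.AtPrime p) b' ≠ 0 := by
    intro h
    apply hb
    rw [IsLocalization.mk'_eq_mul_mk'_one, h, zero_mul]
  have h2 : IsAlgebraic R (algebraMap (integralClosure R L) (Localization.AtPrime p) b') := by
    have h3 : IsIntegral R b' := Algebra.IsIntegral.isIntegral b'
    exact (h3.map (IsScalarTower.toAlgHom R (integralClosure R L) (Localization.AtPrime p))).isAlgebraic
  obtain ⟨r, hr, hd⟩ := h2.exists_nonzero_dvd (mem_nonZeroDivisors_of_ne_zero h1)
  refine ⟨r, hr, dvd_trans ?_ hd⟩
  exact ⟨algebraMap _ _ (s : integralClosure R L), (IsLocalization.mk'_spec _ _ _).symm⟩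

variable {L} in
include K in
theorem valuationRing (p : Ideal (integralClosure R L)) [p.IsPrime] :
    ∃ _ : IsDomain (Localization.AtPrime p), ValuationRing (Localization.AtPrime p) := by
  have h1 := (normal R K L p).1
  have h2 := (normal R K L p).2
  have hfin := finite R K L
  have hN : IsNoetherianRing (integralClosure R L) := IsNoetherianRing.of_finite R _
  have hNl : IsNoetherianRing (Localization.AtPrime p) :=
    IsLocalization.isNoetherianRing p.primeCompl _ hN
  have hd : Ring.DimensionLEOne (Localization.AtPrime p) := by
    refine ⟨fun {P} hP hP' => ?_⟩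
    obtain ⟨b, hb, hb0⟩ := Submodule.exists_mem_ne_zero_of_ne_bot hP
    obtain ⟨r, hr, hbr⟩ := exists_dvd R K p b hb0
    have h3 : algebraMap R (Localization.AtPrime p) r ∈ P := P.mem_of_dvd hbr hb
    let q : Ideal (integralClosure R L) := P.comap (algebraMap _ _)
    have hq : q.IsPrime := inferInstance
    have hqr : (q.comap (algebraMap R (integralClosure R L))) ≠ ⊥ := by
      intro h
      apply hr
      have : r ∈ (q.comap (algebraMap R (integralClosure R L))) := by
        change algebraMap (integralClosure R L) _ (algebraMap R _ r) ∈ P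
        rwa [← IsScalarTower.algebraMap_apply]
      rwa [h] at this
    have hqm : (q.comap (algebraMap R (integralClosure R L))).IsMaximal :=
      Ring.DimensionLEOne.maximalOfPrime hqr inferInstance
    have hqm' : q.IsMaximal := Ideal.isMaximal_of_isIntegral_of_isMaximal_comap q hqm
    have hqp : q ≤ p := by
      intro x hx
      by_contra hxp
      have hu : IsUnit (algebraMap (integralClosure R L) (Localization.AtPrime p) x) :=
        IsLocalization.map_units _ (⟨x, hxp⟩ : p.primeCompl)
      exact hP'.ne_top (P.eq_top_of_isUnit_mem hx hu)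
    have hqe : q = p := hqm'.eq_of_le ‹p.IsPrime›.ne_top hqp
    have h4 : IsLocalRing.maximalIdeal (Localization.AtPrime p) ≤ P := by
      rw [← Localization.AtPrime.map_eq_maximalIdeal, Ideal.map_le_iff_le_comap]
      exact hqe.ge
    have h5 : P = IsLocalRing.maximalIdeal (Localization.AtPrime p) :=
      le_antisymm (IsLocalRing.le_maximalIdeal hP'.ne_top) h4
    rw [h5]
    infer_instance
  have hded : IsDedekindDomain (Localization.AtPrime p) := { hNl, h2, hd with }
  exact ⟨h1, inferInstance⟩

variable {L} in
include K in
theorem flat (M : Type u) [AddCommGroup M] [Module R M] [Module (integralClosure R L) M]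
    [IsScalarTower R (integralClosure R L) M] [Module.IsTorsionFree R M] :
    Module.Flat (integralClosure R L) M := by
  apply Module.flat_of_localized_maximal
  intro P hP
  obtain ⟨h1, h2⟩ := valuationRing R K P
  have h1' : IsDomain (Localization P.primeCompl) := h1
  have h2' : ValuationRing (Localization P.primeCompl) := h2
  rw [← Module.flat_iff_of_isLocalization (Localization P.primeCompl) P.primeCompl,
    Module.Flat.flat_iff_torsion_eq_bot_of_isBezout, ← Submodule.isTorsionFree_iff_torsion_eq_bot]
  refine .of_smul_eq_zero fun b m hbm => ?_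
  by_contra hcon
  push Not at hcon
  obtain ⟨hb, hm⟩ := hcon
  obtain ⟨r, hr, c, hc⟩ := exists_dvd R K P b hb
  have h3 : algebraMap R (Localization P.primeCompl) r • m = 0 := by
    rw [hc, mul_comm, mul_smul, hbm, smul_zero]
  apply hm
  obtain ⟨⟨x, s⟩, rfl⟩ := IsLocalizedModule.mk'_surjective P.primeCompl
    (LocalizedModule.mkLinearMap P.primeCompl M) m
  change _ = (0 : LocalizedModule P.primeCompl M)
  rw [Function.uncurry_apply_pair] at h3 ⊢
  rw [IsScalarTower.algebraMap_apply R (integralClosure R L) (Localization P.primeCompl),
    algebraMap_smul, ← IsLocalizedModule.mk'_smul, algebraMap_smul, IsLocalizedModule.mk'_eq_zero'] at h3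
  obtain ⟨t, ht⟩ := h3
  rw [IsLocalizedModule.mk'_eq_zero']
  refine ⟨t, ?_⟩
  have h4 : r • (t • x) = 0 := by
    rw [← ht, Submonoid.smul_def, Submonoid.smul_def, smul_comm]
  exact (smul_eq_zero_iff_right hr).mp h4

end K491.DedInt
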