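import Mathlib.AlgebraicGeometry.Morphisms.Etale
import Mathlib.RingTheory.Kaehler.TensorProduct
import Mathlib.RingTheory.Etale.Kaehler
import Mathlib.RingTheory.Flat.Stability

/-!
# A smooth scheme with étale generic fibre is étale
-/

set_option autoImplicit false
universe u

open CategoryTheory CategoryTheory.Limits AlgebraicGeometry
open scoped TensorProduct

namespace K491.EtaleGen

theorem etale_of_smooth (R S K : Type u) [CommRing R] [CommRing S] [Algebra R S] [Algebra.Smooth R S]
    [CommRing K] [Algebra R K] (hinj : Function.Injective (algebraMap R K))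
    (P : Type u) [CommRing P] [Algebra K P] [Algebra S P] [Algebra R P] [IsScalarTower R K P]
    [IsScalarTower R S P] [Algebra.IsPushout R K S P]
    [Algebra.FormallyUnramified K P] : Algebra.Etale R S := by
  have hflat : Module.Flat R S := inferInstance
  have hinjP : Function.Injective (algebraMap S P) := by
    have h1 : Algebra.IsPushout R S K P := Algebra.IsPushout.symm inferInstance
    have h2 : Function.Injective (Algebra.TensorProduct.includeLeft : S →ₐ[R] S ⊗[R] K) :=
      Algebra.TensorProduct.includeLeft_injective hinj
    let e : S ⊗[R] K ≃ₐ[S] P := Algebra.IsPushout.equiv R S K P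
    have h3 : ∀ s, algebraMap S P s = e (s ⊗ₜ 1) := by
      intro s
      simp [e, Algebra.IsPushout.equiv_tmul]
    intro a b hab
    rw [h3, h3] at hab
    exact h2 (e.injective hab)
  have hsub : Subsingleton (P ⊗[S] Ω[S⁄R]) := by
    have e := KaehlerDifferential.tensorKaehlerEquiv R K S P
    exact e.toEquiv.subsingleton
  have hΩ : Subsingleton Ω[S⁄R] := by
    have h1 : Function.Injective (LinearMap.rTensor (Ω[S⁄R]) (Algebra.linearMap S P)) :=
      Module.Flat.rTensor_preserves_injective_linearMap _ hinjP
    have h2 := (TensorProduct.lid S (Ω[S⁄R])).symm.injective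
    exact (h1.comp h2).subsingleton
  have hunr : Algebra.FormallyUnramified R S := ⟨hΩ⟩
  have hfe : Algebra.FormallyEtale R S := by
    rw [Algebra.FormallyEtale.iff_formallyUnramified_and_formallySmooth]
    exact ⟨hunr, inferInstance⟩
  exact ⟨hfe, inferInstance⟩

attribute [local instance] Algebra.TensorProduct.rightAlgebra in
/-- A smooth scheme over `Spec R` whose pullback along an injective `R → K` is unramified is étale. -/
theorem etale {R K : Type u} [CommRing R] [CommRing K] [Algebra R K]
    (hinj : Function.Injective (algebraMap R K)) {X : Scheme.{u}} (f : X ⟶ Spec (CommRingCat.of R))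
    [Smooth f] (h : FormallyUnramified (pullback.snd f (Spec.map (CommRingCat.ofHom (algebraMap R K))))) :
    Etale f := by
  refine (IsZariskiLocalAtSource.iff_of_openCover (P := @Etale) X.affineCover).2 fun i => ?_
  obtain ⟨A, hA⟩ : ∃ A : CommRingCat.{u}, X.affineCover.X i = Spec A := ⟨_, rfl⟩
  have key : ∀ (A : CommRingCat.{u}) (j : Spec A ⟶ X) [IsOpenImmersion j], Etale (j ≫ f) := by
    intro A j _
    obtain ⟨ψ, hψ⟩ := Spec.map_surjective (j ≫ f)
    have hsm : Smooth (Spec.map ψ) := by rw [hψ]; infer_instance
    rw [← hψ, HasRingHomProperty.Spec_iff (P := @Etale)]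
    rw [HasRingHomProperty.Spec_iff (P := @Smooth)] at hsm
    let _ : Algebra R A := ψ.hom.toAlgebra
    have : Algebra.Smooth R A := hsm
    change Algebra.Etale R A
    have hpb := isPullback_SpecMap_of_isPushout _ _ _ _ (CommRingCat.isPushout_tensorProduct R K A)
    have h2 := IsPullback.of_hasPullback f (Spec.map (CommRingCat.ofHom (algebraMap R K)))
    let a := Spec.map (CommRingCat.ofHom (Algebra.TensorProduct.includeLeftRingHom : K →+* K ⊗[R] A))
    let b := Spec.map (CommRingCat.ofHom
      ((Algebra.TensorProduct.includeRight : A →ₐ[R] K ⊗[R] A).toRingHom))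
    have hpb' : IsPullback b a (j ≫ f) (Spec.map (CommRingCat.ofHom (algebraMap R K))) := by
      rw [← hψ]
      exact hpb.flip
    let u := h2.lift (b ≫ j) a (by rw [Category.assoc]; exact hpb'.w)
    have hu1 : u ≫ pullback.fst _ _ = b ≫ j := h2.lift_fst _ _ _
    have hu2 : u ≫ pullback.snd _ _ = a := h2.lift_snd _ _ _
    have h3 : IsPullback b u j (pullback.fst f (Spec.map (CommRingCat.ofHom (algebraMap R K)))) := by
      refine IsPullback.of_bot ?_ hu1.symm h2
      rw [hu2]
      exact hpb'
    have h4 : IsOpenImmersion u := MorphismProperty.of_isPullback h3 inferInstance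
    have h5 : FormallyUnramified a := by
      rw [← hu2]
      exact MorphismProperty.comp_mem _ _ _ (inferInstance : FormallyUnramified u) h
    rw [HasRingHomProperty.Spec_iff (P := @FormallyUnramified)] at h5
    have h6 : Algebra.FormallyUnramified K (K ⊗[R] A) := by
      rw [← RingHom.formallyUnramified_algebraMap]
      exact h5
    exact etale_of_smooth R A K hinj (K ⊗[R] A)
  rw [show X.affineCover.f i ≫ f = eqToHom hA ≫ (eqToHom hA.symm ≫ X.affineCover.f i) ≫ f by simp]
  have := key A (eqToHom hA.symm ≫ X.affineCover.f i)
  infer_instance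

end K491.EtaleGen
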