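import Groth.Agent.Neron.K491.DedInt
import Groth.Agent.Neron.K491.EtaleGen
import Groth.Agent.Neron.K491.Ext
import Groth.Agent.Dix.FlatMonoStalk
import Groth.Agent.S0115
import Groth.Agent.Sga7.H756.NormModel
import Groth.Agent.Sga3.H779.ExtNorm
import Groth.Agent.Desc.LQF
import Groth.Agent.UnramA.LfpOfComp

/-!
# Néron models of finite étale schemes
-/

set_option autoImplicit false
universe u

open CategoryTheory CategoryTheory.Limits AlgebraicGeometry
open scoped nonZeroDivisors

namespace K491.FinEt

variable (R : Type u) [CommRing R] [IsDedekindDomain R] (L : Type u) [CommRing L]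
  [Algebra (FractionRing R) L] [Algebra R L] [IsScalarTower R (FractionRing R) L]
  [Algebra.Etale (FractionRing R) L]

/-- The spectrum of the integral closure. -/
noncomputable abbrev Z : Over (Spec (CommRingCat.of R)) :=
  Over.mk (Spec.map (CommRingCat.ofHom (algebraMap R (integralClosure R L))))

instance isFinite_Z : IsFinite (Z R L).hom := by
  have := DedInt.finite R (FractionRing R) L
  change IsFinite (Spec.map _)
  rw [IsFinite.SpecMap_iff]
  exact (RingHom.finite_algebraMap).mpr this

instance lfp_Z : LocallyOfFinitePresentation (Z R L).hom := inferInstance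

/-- The generic fibre of `Spec` of the integral closure. -/
theorem isPullback_Z : IsPullback (Spec.map (CommRingCat.ofHom (algebraMap (integralClosure R L) L)))
    (Spec.map (CommRingCat.ofHom (algebraMap (FractionRing R) L))) (Z R L).hom (Neron.genPt R) := by
  have hloc := DedInt.isLocalization R (FractionRing R) L
  have : Algebra.IsPushout R (FractionRing R) (integralClosure R L) L :=
    (Algebra.isPushout_of_isLocalization R⁰ (FractionRing R) (integralClosure R L) L).symm
  have h2 : Algebra.IsPushout R (integralClosure R L) (FractionRing R) L := this.symm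
  exact isPullback_SpecMap_of_isPushout _ _ _ _
    (CommRingCat.isPushout_of_isPushout R (integralClosure R L) (FractionRing R) L)

/-- The generic fibre lies in the smooth locus. -/
theorem mem_smoothLocus (z : Spec (CommRingCat.of L)) :
    Spec.map (CommRingCat.ofHom (algebraMap (integralClosure R L) L)) z ∈ (Z R L).hom.smoothLocus := by
  let K := FractionRing R
  let a := Spec.map (CommRingCat.ofHom (algebraMap (integralClosure R L) L))
  let b := Spec.map (CommRingCat.ofHom (algebraMap (FractionRing R) L))
  have hpb := isPullback_Z R L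
  have hflat : Flat (Neron.genPt R) := by
    rw [HasRingHomProperty.Spec_iff (P := @Flat)]
    change (algebraMap R (FractionRing R)).Flat
    rw [RingHom.flat_algebraMap_iff]
    exact IsLocalization.flat _ (nonZeroDivisors R)
  have hpre : IsPreimmersion (Neron.genPt R) := IsPreimmersion.of_isLocalization (nonZeroDivisors R)
  have hflata : Flat a := MorphismProperty.of_isPullback hpb.flip hflat
  have hprea : IsPreimmersion a := MorphismProperty.of_isPullback hpb.flip hpre
  have h1 : IsIso (a.stalkMap z) := Groth.Agent.Dix.FlatMonoStalk.isIso_stalkMap_of_flat_of_mono a z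
  have h2 : IsIso ((Neron.genPt R).stalkMap (b z)) :=
    Groth.Agent.Dix.FlatMonoStalk.isIso_stalkMap_of_flat_of_mono _ _
  have hb : Etale b := by
    rw [HasRingHomProperty.Spec_iff (P := @Etale)]
    exact RingHom.etale_algebraMap.mpr inferInstance
  have h3 : (b.stalkMap z).hom.FormallySmooth := by
    have : z ∈ b.smoothLocus := by rw [b.smoothLocus_eq_top]; trivial
    exact this
  have h4 : ((b ≫ Neron.genPt R).stalkMap z).hom.FormallySmooth := by
    have := (RingHom.FormallySmooth.respectsIso.cancel_left_isIso ((Neron.genPt R).stalkMap (b z))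
      (b.stalkMap z)).mpr h3
    rw [← CommRingCat.hom_comp, ← Scheme.Hom.stalkMap_comp] at this
    exact this
  have h5 : ((a ≫ (Z R L).hom).stalkMap z).hom.FormallySmooth := by
    have hw : a ≫ (Z R L).hom = b ≫ Neron.genPt R := hpb.w
    rw [hw]
    exact h4
  rw [Scheme.Hom.mem_smoothLocus]
  refine (RingHom.FormallySmooth.respectsIso.cancel_right_isIso _ (a.stalkMap z)).mp ?_
  rw [← CommRingCat.hom_comp, ← Scheme.Hom.stalkMap_comp]
  exact h5

/-- A morphism from a flat `R`-scheme to the spectrum of the integral closure is flat. -/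
theorem flat_of_flat {Y : Over (Spec (CommRingCat.of R))} [Flat Y.hom] (c : Y ⟶ Z R L) :
    Flat c.left := by
  refine (IsZariskiLocalAtSource.iff_of_openCover (P := @Flat) Y.left.affineCover).2 fun i => ?_
  obtain ⟨A, hA⟩ : ∃ A : CommRingCat.{u}, Y.left.affineCover.X i = Spec A := ⟨_, rfl⟩
  have key : ∀ (A : CommRingCat.{u}) (j : Spec A ⟶ Y.left) [IsOpenImmersion j],
      Flat (j ≫ c.left) := by
    intro A j _
    obtain ⟨ψ, hψ⟩ := Spec.map_surjective (j ≫ c.left)
    let ρ : CommRingCat.of R ⟶ A := CommRingCat.ofHom (algebraMap R (integralClosure R L)) ≫ ψ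
    have hρ : Spec.map ρ = j ≫ Y.hom := by
      rw [Spec.map_comp, hψ, Category.assoc]
      congr 1
      exact Over.w c
    have hflat : Flat (Spec.map ρ) := by rw [hρ]; infer_instance
    rw [← hψ, HasRingHomProperty.Spec_iff (P := @Flat)]
    rw [HasRingHomProperty.Spec_iff (P := @Flat)] at hflat
    let _ : Algebra R A := ρ.hom.toAlgebra
    let _ : Algebra (integralClosure R L) A := ψ.hom.toAlgebra
    have : IsScalarTower R (integralClosure R L) A := IsScalarTower.of_algebraMap_eq' rfl
    have h1 : Module.Flat R A := hflat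
    change Module.Flat (integralClosure R L) A
    exact DedInt.flat R (FractionRing R) A
  rw [show Y.left.affineCover.f i ≫ c.left =
    eqToHom hA ≫ (eqToHom hA.symm ≫ Y.left.affineCover.f i) ≫ c.left by simp]
  have := key A (eqToHom hA.symm ≫ Y.left.affineCover.f i)
  infer_instance

/-- A morphism from a smooth `R`-scheme lands in the smooth locus. -/
theorem mem_smoothLocus_of_smooth {Y : Over (Spec (CommRingCat.of R))} [Smooth Y.hom]
    (c : Y ⟶ Z R L) (y : Y.left) : c.left y ∈ (Z R L).hom.smoothLocus := by
  have hflat : Flat c.left := flat_of_flat R L c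
  have hlfp : LocallyOfFinitePresentation c.left := by
    refine Groth.Agent.UnramA.LfpOfComp.lfp_of_comp c.left (Z R L).hom ?_ inferInstance
    rw [Over.w c]
    infer_instance
  let V : (Z R L).left.Opens := ⟨Set.range c.left, c.left.isOpenMap.isOpen_range⟩
  have h3 : Surjective (c.left ∣_ V) := by
    refine ⟨fun v => ?_⟩
    obtain ⟨x, hx⟩ := v.2
    refine ⟨⟨x, ?_⟩, ?_⟩
    · exact ⟨x, rfl⟩
    · apply V.ι.isOpenEmbedding.injective
      rw [← Scheme.Hom.comp_apply, morphismRestrict_ι, Scheme.Hom.comp_apply]
      exact hx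
  have h4 : Smooth ((c.left ∣_ V) ≫ V.ι ≫ (Z R L).hom) := by
    rw [← Category.assoc, morphismRestrict_ι, Category.assoc, Over.w c]
    infer_instance
  have h5 : Smooth (V.ι ≫ (Z R L).hom) :=
    Groth.Agent.S0115.result (c.left ∣_ V) (V.ι ≫ (Z R L).hom)
  let v : V := ⟨c.left y, ⟨y, rfl⟩⟩
  have h6 : v ∈ V.ι ⁻¹ᵁ (Z R L).hom.smoothLocus := by
    rw [Scheme.Hom.preimage_smoothLocus_eq, Scheme.Hom.smoothLocus_eq_top]
    trivial
  exact h6

/-- The étale locus of the integral closure. -/
noncomputable abbrev N : Over (Spec (CommRingCat.of R)) := Neron.smoothPart R (Z R L)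

/-- The inclusion of the étale locus. -/
noncomputable def m : N R L ⟶ Z R L := Over.homMk (Z R L).hom.smoothLocus.ι rfl

/-- The generic fibre of `Z`. -/
noncomputable def eZ : (Neron.genericFibre R).obj (Z R L) ≅
    Over.mk (Spec.map (CommRingCat.ofHom (algebraMap (FractionRing R) L))) :=
  Over.isoMk (isPullback_Z R L).isoPullback.symm (by
    simp)

theorem isIso_map_m : IsIso ((Neron.genericFibre R).map (m R L)) := by
  have h0 : IsPullback ((Neron.genericFibre R).map (m R L)).left (pullback.fst (N R L).hom (Neron.genPt R))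
      (pullback.fst (Z R L).hom (Neron.genPt R)) (m R L).left := by
    have h3 : ((Neron.genericFibre R).map (m R L)).left ≫ pullback.fst (Z R L).hom (Neron.genPt R) =
      pullback.fst (N R L).hom (Neron.genPt R) ≫ (m R L).left := pullback.lift_fst _ _ _
    have h4 : ((Neron.genericFibre R).map (m R L)).left ≫ pullback.snd (Z R L).hom (Neron.genPt R) =
      pullback.snd (N R L).hom (Neron.genPt R) := pullback.lift_snd _ _ _
    refine IsPullback.of_right ?_ h3 (IsPullback.of_hasPullback (Z R L).hom (Neron.genPt R)).flip
    rw [h4, Over.w (m R L)]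
    exact (IsPullback.of_hasPullback (N R L).hom (Neron.genPt R)).flip
  have h1 : IsOpenImmersion ((Neron.genericFibre R).map (m R L)).left :=
    MorphismProperty.of_isPullback h0.flip (inferInstanceAs (IsOpenImmersion (Scheme.Opens.ι _)))
  have h2 : Surjective ((Neron.genericFibre R).map (m R L)).left := by
    refine ⟨fun z => ?_⟩
    have h5 := Scheme.image_preimage_eq_of_isPullback h0.flip Set.univ
    rw [Set.preimage_univ, Set.image_univ, Set.image_univ] at h5
    have h6 : z ∈ Set.range ((Neron.genericFibre R).map (m R L)).left := by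
      have h7 : (pullback.fst (Z R L).hom (Neron.genPt R)) z ∈ Set.range (m R L).left := by
        have h8 : pullback.fst (Z R L).hom (Neron.genPt R) = (isPullback_Z R L).isoPullback.inv ≫
            Spec.map (CommRingCat.ofHom (algebraMap (integralClosure R L) L)) :=
          (isPullback_Z R L).isoPullback_inv_fst.symm
        rw [h8, Scheme.Hom.comp_apply]
        have h9 : Set.range (m R L).left = ((Z R L).hom.smoothLocus : Set (Z R L).left) :=
          Scheme.Opens.range_ι _
        rw [h9]
        exact mem_smoothLocus R L _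
      have h10 : z ∈ (pullback.fst (Z R L).hom (Neron.genPt R)) ⁻¹' Set.range (m R L).left := h7
      exact h5.symm ▸ h10
    exact h6
  have h3 : IsIso ((Neron.genericFibre R).map (m R L)).left :=
    (isIso_iff_isOpenImmersion_and_surjective _).mpr ⟨h1, h2⟩
  have : IsIso ((Over.forget _).map ((Neron.genericFibre R).map (m R L))) := h3
  exact isIso_of_reflects_iso _ (Over.forget _)

/-- The generic fibre of the étale locus. -/
noncomputable def eN : (Neron.genericFibre R).obj (N R L) ≅
    Over.mk (Spec.map (CommRingCat.ofHom (algebraMap (FractionRing R) L))) :=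
  haveI := isIso_map_m R L
  asIso ((Neron.genericFibre R).map (m R L)) ≪≫ eZ R L

theorem eN_hom : (eN R L).hom = (Neron.genericFibre R).map (m R L) ≫ (eZ R L).hom := rfl

instance smooth_N : Smooth (N R L).hom := by
  change Smooth ((Z R L).hom.smoothLocus.ι ≫ (Z R L).hom)
  have h : ((Z R L).hom.smoothLocus.ι ≫ (Z R L).hom).smoothLocus = ⊤ := by
    rw [← Scheme.Hom.preimage_smoothLocus_eq]
    exact Scheme.Opens.ι_preimage_self _
  exact Scheme.Hom.smoothLocus_eq_top_iff.mp h

instance etale_N : Etale (N R L).hom := by
  refine EtaleGen.etale (K := FractionRing R) (IsFractionRing.injective R (FractionRing R)) _ ?_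
  have h1 : (eN R L).hom.left ≫ Spec.map (CommRingCat.ofHom (algebraMap (FractionRing R) L)) =
      pullback.snd (N R L).hom (Neron.genPt R) := Over.w (eN R L).hom
  have h2 : FormallyUnramified (Spec.map (CommRingCat.ofHom (algebraMap (FractionRing R) L))) := by
    have : Etale (Spec.map (CommRingCat.ofHom (algebraMap (FractionRing R) L))) := by
      rw [HasRingHomProperty.Spec_iff (P := @Etale)]
      exact RingHom.etale_algebraMap.mpr inferInstance
    infer_instance
  have h3 : IsIso (eN R L).hom.left := inferInstanceAs (IsIso ((Over.forget _).map (eN R L).hom))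
  change FormallyUnramified (pullback.snd (N R L).hom (Neron.genPt R))
  rw [← h1]
  exact MorphismProperty.comp_mem _ _ _ (inferInstance : FormallyUnramified (eN R L).hom.left) h2

theorem isNeronModelOf : Neron.IsNeronModelOf R (N R L) _ (eN R L) := by
  refine ⟨inferInstance, ?_, ?_, ?_, ?_⟩
  · change IsSeparated ((Z R L).hom.smoothLocus.ι ≫ (Z R L).hom)
    infer_instance
  · change LocallyOfFiniteType ((Z R L).hom.smoothLocus.ι ≫ (Z R L).hom)
    infer_instance
  · change QuasiCompact ((Z R L).hom.smoothLocus.ι ≫ (Z R L).hom)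
    have hN : IsLocallyNoetherian (Z R L).left :=
      LocallyOfFiniteType.isLocallyNoetherian (Z R L).hom
    have : QuasiCompact ((Z R L).hom.smoothLocus.ι) := inferInstance
    infer_instance
  · intro Y hY
    have hNsep : IsSeparated (N R L).hom := by
      change IsSeparated ((Z R L).hom.smoothLocus.ι ≫ (Z R L).hom)
      infer_instance
    constructor
    · intro g₁ g₂ h
      have h' : (Neron.genericFibre R).map g₁ = (Neron.genericFibre R).map g₂ :=
        (cancel_mono (eN R L).hom).mp h
      apply Over.OverMorphism.ext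
      have e1 : ∀ u : Y ⟶ N R L, ((Neron.genericFibre R).map u).left ≫
          pullback.fst (N R L).hom (Neron.genPt R) = pullback.fst Y.hom (Neron.genPt R) ≫ u.left :=
        fun u => pullback.lift_fst _ _ _
      have h0 : IsSchemeTheoreticallyDominant (Neron.genPt R) := Ext.dom_genPt R
      refine Ext.eq_of_comp_eq Y.hom (N R L).hom (pullback.fst Y.hom (Neron.genPt R)) g₁.left g₂.left
        (Over.w g₁) (Over.w g₂) ?_
      rw [← e1, ← e1, h']
    · intro k
      have hj : IsIso (Neron.genPt R).fromNormalization :=
        Groth.Agent.Sga3.H779.ExtNorm.isIso_fromNormalization_spec R (FractionRing R)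
      let B : Over (Spec (CommRingCat.of R)) := Over.mk (𝟙 _)
      let ν : Z R L ⟶ B := Over.homMk (Z R L).hom (Category.comp_id _)
      let a : Y ⟶ B := Over.homMk Y.hom (Category.comp_id _)
      have hν : IsIntegralHom ν.left := inferInstanceAs (IsIntegralHom (Z R L).hom)
      obtain ⟨c, hc1, hc2⟩ := Groth.Agent.Sga7.H756.NormModel.exists_ext_over (Neron.genPt R) hj a ν
        (k ≫ (eZ R L).inv) (by
          ext1
          have hm : Mono (pullback.snd B.hom (Neron.genPt R)) := by
            have : IsIso (pullback.snd B.hom (Neron.genPt R)) := inferInstanceAs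
              (IsIso (pullback.snd (𝟙 _) (Neron.genPt R)))
            infer_instance
          rw [← cancel_mono (pullback.snd B.hom (Neron.genPt R))]
          exact (Over.w _).trans (Over.w _).symm)
      have hc3 : ∀ y, c.left y ∈ (Z R L).hom.smoothLocus := mem_smoothLocus_of_smooth R L c
      have hr : Set.range c.left ⊆ Set.range (Z R L).hom.smoothLocus.ι := by
        have h1 : Set.range (Z R L).hom.smoothLocus.ι = ((Z R L).hom.smoothLocus : Set (Z R L).left) :=
          Scheme.Opens.range_ι _
        rw [h1]
        rintro _ ⟨y, rfl⟩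
        exact hc3 y
      let cl : Y.left ⟶ ((Z R L).hom.smoothLocus : Scheme.{u}) :=
        IsOpenImmersion.lift (Z R L).hom.smoothLocus.ι c.left hr
      have hcl : cl ≫ (Z R L).hom.smoothLocus.ι = c.left := IsOpenImmersion.lift_fac _ _ _
      let g : Y ⟶ N R L := Over.homMk cl (by
        change cl ≫ (Z R L).hom.smoothLocus.ι ≫ (Z R L).hom = _
        rw [← Category.assoc, hcl, Over.w c])
      have hg : g ≫ m R L = c := by
        ext1
        exact hcl
      refine ⟨g, ?_⟩
      change (Neron.genericFibre R).map g ≫ (eN R L).hom = k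
      rw [eN_hom, ← Category.assoc, ← Functor.map_comp, hg]
      have hc2' : (Neron.genericFibre R).map c = k ≫ (eZ R L).inv := hc2
      rw [hc2', Category.assoc, Iso.inv_hom_id, Category.comp_id]

/-- Transport of a Néron model along an isomorphism of the generic fibre. -/
theorem IsNeronModelOf.trans {R : Type u} [CommRing R] [IsDomain R]
    {N : Over (Spec (CommRingCat.of R))} {A A' : Over (Spec (CommRingCat.of (FractionRing R)))}
    {e : (Neron.genericFibre R).obj N ≅ A} (h : Neron.IsNeronModelOf R N A e) (e' : A ≅ A') :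
    Neron.IsNeronModelOf R N A' (e ≪≫ e') := by
  refine ⟨h.1, h.2.1, h.2.2.1, h.2.2.2.1, fun Y hY => ?_⟩
  have h1 := h.2.2.2.2 Y hY
  have h2 : (fun g : Y ⟶ N => (Neron.genericFibre R).map g ≫ (e ≪≫ e').hom) =
      (fun k => k ≫ e'.hom) ∘ (fun g : Y ⟶ N => (Neron.genericFibre R).map g ≫ e.hom) := by
    funext g
    simp
  rw [h2]
  refine Function.Bijective.comp ?_ h1
  exact ⟨fun a b hab => (cancel_mono e'.hom).mp hab, fun b => ⟨b ≫ e'.inv, by simp⟩⟩

end K491.FinEt

namespace K491.FinEt

theorem exists_neron (R : Type u) [CommRing R] [IsDedekindDomain R]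
    (G : Over (Spec (CommRingCat.of (FractionRing R)))) [IsFinite G.hom] [Etale G.hom] :
    ∃ (N : Over (Spec (CommRingCat.of R))) (e : (Neron.genericFibre R).obj N ≅ G),
      Neron.IsNeronModelOf R N G e ∧ Etale N.hom ∧ LocallyQuasiFinite N.hom := by
  have haff : IsAffine G.left := isAffine_of_isAffineHom G.hom
  obtain ⟨φ, hφ⟩ := Spec.map_surjective (G.left.isoSpec.inv ≫ G.hom)
  have hφ' : G.left.isoSpec.hom ≫ Spec.map φ = G.hom := by
    rw [hφ, Iso.hom_inv_id_assoc]
  let L : Type u := Γ(G.left, ⊤)
  let _ : Algebra (FractionRing R) L := φ.hom.toAlgebra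
  let _ : Algebra R L := ((algebraMap (FractionRing R) L).comp (algebraMap R _)).toAlgebra
  have : IsScalarTower R (FractionRing R) L := IsScalarTower.of_algebraMap_eq' rfl
  have hé : Etale (Spec.map φ) := by rw [hφ]; infer_instance
  rw [HasRingHomProperty.Spec_iff (P := @Etale)] at hé
  have : Algebra.Etale (FractionRing R) L := hé
  let e' : Over.mk (Spec.map (CommRingCat.ofHom (algebraMap (FractionRing R) L))) ≅ G :=
    Over.isoMk G.left.isoSpec.symm hφ.symm
  exact ⟨N R L, eN R L ≪≫ e', IsNeronModelOf.trans (isNeronModelOf R L) e', inferInstance,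
    Groth.Agent.Desc.LQF.of_etale _⟩

end K491.FinEt
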