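import Groth.Agent.Sga7.H760.L2
import Groth.Agent.Sga7.H760.KerBc
import Groth.Agent.Sga3.H823.Abstract
import Groth.Agent.Sga3B.GaPts
import Groth.Prelude.Def_AlgGrp
import Mathlib.AlgebraicGeometry.Morphisms.Descent
import Mathlib.RingTheory.TensorProduct.Basic

/-!
# Lifting points along a homomorphism with kernel the additive group
-/

set_option autoImplicit false

universe u

open CategoryTheory CategoryTheory.Limits MonoidalCategory CartesianMonoidalCategory MonObj GrpObj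
  AlgebraicGeometry
open scoped TensorProduct

namespace K491.GaLift

open Groth.Agent Groth.Agent.Sga3B.GaPts

section alg

variable {B C : Type u} [CommRing B] [CommRing C] [Algebra B C]

/-- The Amitsur complex is exact in degree one. -/
theorem exists_coboundary [Module.FaithfullyFlat B C] (z : C ⊗[B] C)
    (hz : Algebra.TensorProduct.map (AlgHom.id B C)
        (Algebra.TensorProduct.includeRight : C →ₐ[B] C ⊗[B] C) z =
      Algebra.TensorProduct.map (AlgHom.id B C)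
        (Algebra.TensorProduct.includeLeft : C →ₐ[B] C ⊗[B] C) z +
      (Algebra.TensorProduct.includeRight : C ⊗[B] C →ₐ[B] C ⊗[B] (C ⊗[B] C)) z) :
    ∃ c : C, (1 : C) ⊗ₜ[B] c - c ⊗ₜ[B] (1 : C) = z := by
  let α : C →ₗ[B] C ⊗[B] C := (Algebra.TensorProduct.includeRight : C →ₐ[B] C ⊗[B] C).toLinearMap -
    (Algebra.TensorProduct.includeLeft : C →ₐ[B] C ⊗[B] C).toLinearMap
  have h1 : ∀ z : C ⊗[B] C, (α.lTensor C) z = Algebra.TensorProduct.map (AlgHom.id B C)
      (Algebra.TensorProduct.includeRight : C →ₐ[B] C ⊗[B] C) z -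
      Algebra.TensorProduct.map (AlgHom.id B C)
      (Algebra.TensorProduct.includeLeft : C →ₐ[B] C ⊗[B] C) z := by
    intro z
    induction z using TensorProduct.induction_on with
    | zero => simp
    | tmul a b => simp [α]
    | add x y hx hy => rw [map_add, map_add, map_add, hx, hy]; abel
  obtain ⟨c, hc⟩ := Sga3.H823.Abstract.mem_range_of_cocycle (C₀ := B) (B₀ := C) α
    (AddMonoidHom.id _) Function.surjective_id (AddMonoidHom.id _) Function.injective_id
    (α.lTensor C).toAddMonoidHom (fun x => rfl) z (by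
      change (α.lTensor C) z = 1 ⊗ₜ z
      rw [h1, hz, add_sub_cancel_left]
      rfl)
  exact ⟨c, hc⟩

end alg

section pts

variable {S : Scheme.{u}}

/-- The point of `Ga` over `Spec D` with coordinate `a`. -/
noncomputable def ga {D : Type u} [CommRing D] (t : Spec (CommRingCat.of D) ⟶ S) (a : D) :
    Over.mk t ⟶ Red.Ga S :=
  gaPt (Over.mk t) ((Scheme.ΓSpecIso (CommRingCat.of D)).inv a)

variable {D D' : Type u} [CommRing D] [CommRing D']

lemma ga_surj (t : Spec (CommRingCat.of D) ⟶ S) (x : Over.mk t ⟶ Red.Ga S) : ∃ a, ga t a = x := by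
  refine ⟨(Scheme.ΓSpecIso (CommRingCat.of D)).hom (Red.gaFn x), ?_⟩
  rw [ga]
  have h : (Scheme.ΓSpecIso (CommRingCat.of D)).inv
      ((Scheme.ΓSpecIso (CommRingCat.of D)).hom (Red.gaFn x)) = Red.gaFn x :=
    (Scheme.ΓSpecIso (CommRingCat.of D)).hom_inv_id_apply _
  rw [h, gaPt_gaFn]

lemma ga_add (t : Spec (CommRingCat.of D) ⟶ S) (a b : D) : ga t (a + b) = ga t a * ga t b := by
  rw [ga, map_add, gaPt_add]
  rfl

lemma ga_inj (t : Spec (CommRingCat.of D) ⟶ S) {a b : D} (h : ga t a = ga t b) : a = b := by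
  have h1 := congrArg Red.gaFn h
  rw [ga, ga, gaFn_gaPt, gaFn_gaPt] at h1
  have h2 := congrArg (Scheme.ΓSpecIso (CommRingCat.of D)).hom h1
  simpa using h2

/-- The morphism of `S`-schemes defined by a ring homomorphism. -/
noncomputable def sp (φ : D →+* D') {t : Spec (CommRingCat.of D) ⟶ S}
    {t' : Spec (CommRingCat.of D') ⟶ S} (h : Spec.map (CommRingCat.ofHom φ) ≫ t = t') :
    Over.mk t' ⟶ Over.mk t :=
  Over.homMk (Spec.map (CommRingCat.ofHom φ)) h

lemma sp_ga (φ : D →+* D') {t : Spec (CommRingCat.of D) ⟶ S}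
    {t' : Spec (CommRingCat.of D') ⟶ S} (h : Spec.map (CommRingCat.ofHom φ) ≫ t = t') (a : D) :
    sp φ h ≫ ga t a = ga t' (φ a) := by
  rw [ga, ga, comp_gaPt]
  congr 1
  change (Spec.map (CommRingCat.ofHom φ)).appTop ((Scheme.ΓSpecIso (CommRingCat.of D)).inv a) = _
  have := congr($(Scheme.ΓSpecIso_inv_naturality (CommRingCat.ofHom φ)) a)
  exact this.symm

lemma map_comp_eq {D₁ D₂ : Type u} [CommRing D₁] [CommRing D₂] (j : D' →+* D₂) (i : D →+* D')
    (j' : D₁ →+* D₂) (i' : D →+* D₁) (h : j.comp i = j'.comp i')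
    {t : Spec (CommRingCat.of D) ⟶ S} {t' : Spec (CommRingCat.of D') ⟶ S}
    {t₁ : Spec (CommRingCat.of D₁) ⟶ S} (e : Spec.map (CommRingCat.ofHom i) ≫ t = t')
    (e' : Spec.map (CommRingCat.ofHom i') ≫ t = t₁) :
    Spec.map (CommRingCat.ofHom j) ≫ t' = Spec.map (CommRingCat.ofHom j') ≫ t₁ := by
  rw [← e, ← e', ← Category.assoc, ← Category.assoc, ← Spec.map_comp, ← Spec.map_comp,
    ← CommRingCat.ofHom_comp, ← CommRingCat.ofHom_comp, h]

lemma sp_comp {D'' : Type u} [CommRing D''] (φ : D →+* D') (ψ : D' →+* D'')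
    {t : Spec (CommRingCat.of D) ⟶ S}
    {t' : Spec (CommRingCat.of D') ⟶ S} {t'' : Spec (CommRingCat.of D'') ⟶ S}
    (h : Spec.map (CommRingCat.ofHom φ) ≫ t = t') (h' : Spec.map (CommRingCat.ofHom ψ) ≫ t' = t'')
    (χ : D →+* D'') (hχ : ψ.comp φ = χ) :
    sp ψ h' ≫ sp φ h = sp χ (by
      rw [← h', ← h, ← Category.assoc, ← Spec.map_comp, ← CommRingCat.ofHom_comp, hχ]) := by
  subst hχ
  ext1
  change Spec.map _ ≫ Spec.map _ = Spec.map _
  rw [← Spec.map_comp, ← CommRingCat.ofHom_comp]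

/-- Descent of a point, with values in an arbitrary `S`-scheme. -/
theorem exists_desc {B C : Type u} [CommRing B] [CommRing C] [Algebra B C]
    [Module.FaithfullyFlat B C] (t : Spec (CommRingCat.of B) ⟶ S)
    (tC : Spec (CommRingCat.of C) ⟶ S) (hC : Spec.map (CommRingCat.ofHom (algebraMap B C)) ≫ t = tC)
    (t2 : Spec (CommRingCat.of (C ⊗[B] C)) ⟶ S)
    (h1 : Spec.map (CommRingCat.ofHom
      (Algebra.TensorProduct.includeLeft : C →ₐ[B] C ⊗[B] C).toRingHom) ≫ tC = t2)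
    (h2 : Spec.map (CommRingCat.ofHom
      (Algebra.TensorProduct.includeRight : C →ₐ[B] C ⊗[B] C).toRingHom) ≫ tC = t2)
    {Z : Over S} (y : Over.mk tC ⟶ Z) (hy : sp _ h1 ≫ y = sp _ h2 ≫ y) :
    ∃ s : Over.mk t ⟶ Z, sp (algebraMap B C) hC ≫ s = y := by
  have i1 : Flat (sp (algebraMap B C) hC).left := by
    change Flat (Spec.map (CommRingCat.ofHom (algebraMap B C)))
    rw [Flat.SpecMap_iff]
    exact RingHom.flat_algebraMap_iff.mpr inferInstance
  have i2 : Surjective (sp (algebraMap B C) hC).left := by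
    refine ⟨?_⟩
    exact PrimeSpectrum.comap_surjective_of_faithfullyFlat
  have i3 : QuasiCompact (sp (algebraMap B C) hC).left :=
    inferInstanceAs (QuasiCompact (Spec.map _))
  refine Sga7.H760.GaQuot.exists_desc (sp (algebraMap B C) hC) y fun T a b hab => ?_
  have hpb := isPullback_SpecMap_of_isPushout _ _ _ _ (CommRingCat.isPushout_tensorProduct B C C)
  have hab' : a.left ≫ Spec.map (CommRingCat.ofHom (algebraMap B C)) =
      b.left ≫ Spec.map (CommRingCat.ofHom (algebraMap B C)) := congrArg CommaMorphism.left hab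
  let l : T.left ⟶ Spec (CommRingCat.of (C ⊗[B] C)) := hpb.lift a.left b.left hab'
  have hl1 : l ≫ Spec.map (CommRingCat.ofHom
      (Algebra.TensorProduct.includeLeft : C →ₐ[B] C ⊗[B] C).toRingHom) = a.left :=
    hpb.lift_fst _ _ _
  have hl2 : l ≫ Spec.map (CommRingCat.ofHom
      (Algebra.TensorProduct.includeRight : C →ₐ[B] C ⊗[B] C).toRingHom) = b.left :=
    hpb.lift_snd _ _ _
  let L : T ⟶ Over.mk t2 := Over.homMk l (by
    change l ≫ t2 = T.hom
    rw [← h1, ← Category.assoc, hl1]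
    exact Over.w a)
  have hL1 : L ≫ sp _ h1 = a := by
    ext1
    exact hl1
  have hL2 : L ≫ sp _ h2 = b := by
    ext1
    exact hl2
  rw [← hL1, ← hL2, Category.assoc, Category.assoc, hy]

theorem exists_lift {G H : Over S} [GrpObj G] [GrpObj H] (q : G ⟶ H) [IsMonHom q] [Flat q.left]
    [Surjective q.left] [QuasiCompact q.left] (i : Red.Ga S ⟶ G) [IsMonHom i]
    (hker : AlgGrp.IsKernel i q) {B : Type u} [CommRing B] (t : Spec (CommRingCat.of B) ⟶ S)
    (v : Over.mk t ⟶ H) : ∃ s : Over.mk t ⟶ G, s ≫ q = v := by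
  let v' : Spec (CommRingCat.of B) ⟶ H.left := v.left
  let P := pullback v' q.left
  have hP : CompactSpace P :=
    QuasiCompact.compactSpace_of_compactSpace (pullback.fst v' q.left)
  obtain ⟨Y, p, hps, hpf, hY⟩ := Scheme.exists_hom_isAffine_of_isZariskiLocalAtSource (P := @Flat) P
  let C : Type u := Γ(Y, ⊤)
  let f : Spec (CommRingCat.of C) ⟶ Spec (CommRingCat.of B) :=
    Y.isoSpec.inv ≫ p ≫ pullback.fst v' q.left
  obtain ⟨φ, hφ⟩ := Spec.map_surjective f
  let alg : Algebra B C := φ.hom.toAlgebra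
  have hff : Module.FaithfullyFlat B C := by
    have h1 : Flat (Spec.map φ) := by rw [hφ]; infer_instance
    have h2 : Surjective (Spec.map φ) := by rw [hφ]; infer_instance
    have h3 : φ.hom.Flat := Flat.SpecMap_iff.mp h1
    have : Module.Flat B C := h3
    exact Module.FaithfullyFlat.of_comap_surjective h2.surj
  let aC : B →+* C := algebraMap B C
  let tC : Spec (CommRingCat.of C) ⟶ S := Spec.map (CommRingCat.ofHom aC) ≫ t
  have haC : Spec.map (CommRingCat.ofHom aC) = f := hφ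
  let x : Over.mk tC ⟶ G := Over.homMk (Y.isoSpec.inv ≫ p ≫ pullback.snd v' q.left) (by
    have h1 : v' ≫ H.hom = t := Over.w v
    rw [Category.assoc, Category.assoc, ← Over.w q, ← Category.assoc (pullback.snd v' q.left),
      ← pullback.condition, Category.assoc, h1]
    change _ = Spec.map (CommRingCat.ofHom aC) ≫ t
    rw [haC]
    simp only [f, Category.assoc])
  have hx : x ≫ q = sp aC rfl ≫ v := by
    ext1
    change (Y.isoSpec.inv ≫ p ≫ pullback.snd v' q.left) ≫ q.left =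
      Spec.map (CommRingCat.ofHom aC) ≫ v'
    rw [haC]
    simp only [f, Category.assoc, pullback.condition]
  -- the self products
  let iL : C →+* C ⊗[B] C := (Algebra.TensorProduct.includeLeft : C →ₐ[B] C ⊗[B] C).toRingHom
  let iR : C →+* C ⊗[B] C := (Algebra.TensorProduct.includeRight : C →ₐ[B] C ⊗[B] C).toRingHom
  let t2 : Spec (CommRingCat.of (C ⊗[B] C)) ⟶ S := Spec.map (CommRingCat.ofHom iL) ≫ tC
  have hLR : iR.comp aC = iL.comp aC := by
    ext b
    change (1 : C) ⊗ₜ[B] (algebraMap B C b) = (algebraMap B C b) ⊗ₜ[B] (1 : C)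
    rw [Algebra.algebraMap_eq_smul_one, TensorProduct.smul_tmul]
  have hR : Spec.map (CommRingCat.ofHom iR) ≫ tC = t2 := by
    change _ ≫ Spec.map (CommRingCat.ofHom aC) ≫ t = _ ≫ Spec.map (CommRingCat.ofHom aC) ≫ t
    rw [← Category.assoc, ← Category.assoc, ← Spec.map_comp, ← Spec.map_comp,
      ← CommRingCat.ofHom_comp, ← CommRingCat.ofHom_comp, hLR]
  let p1 : Over.mk t2 ⟶ Over.mk tC := sp iL rfl
  let p2 : Over.mk t2 ⟶ Over.mk tC := sp iR hR
  have hp : p1 ≫ sp aC rfl = p2 ≫ sp aC rfl := by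
    have e1 := sp_comp (t := t) aC iL (t' := tC) rfl (t'' := t2) rfl (iL.comp aC) rfl
    have e2 := sp_comp (t := t) aC iR (t' := tC) rfl (t'' := t2) hR (iL.comp aC) hLR
    exact e1.trans e2.symm
  have hpx : p1 ≫ x ≫ q = p2 ≫ x ≫ q := by
    rw [hx, ← Category.assoc, ← Category.assoc, hp]
  obtain ⟨w1, w2⟩ := (Sga7.H760.KerBc.isKernel_iff i q).1 hker
  have hmono : ∀ {T : Over S} (a b : T ⟶ Red.Ga S), a ≫ i = b ≫ i → a = b := by
    intro T a b hab
    obtain ⟨y, -, hy⟩ := w2 T (a ≫ i) (by rw [Category.assoc, w1, MonObj.comp_one])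
    rw [hy a rfl, hy b hab.symm]
  obtain ⟨d, hd, -⟩ := w2 _ ((p1 ≫ x)⁻¹ * (p2 ≫ x)) (by
    rw [MonObj.mul_comp, GrpObj.inv_comp, Category.assoc, Category.assoc, hpx, inv_mul_cancel])
  obtain ⟨z, rfl⟩ := ga_surj t2 d
  -- the triple product
  let j12 : C ⊗[B] C →+* C ⊗[B] (C ⊗[B] C) := (Algebra.TensorProduct.map (AlgHom.id B C)
        (Algebra.TensorProduct.includeLeft : C →ₐ[B] C ⊗[B] C)).toRingHom
  let j13 : C ⊗[B] C →+* C ⊗[B] (C ⊗[B] C) := (Algebra.TensorProduct.map (AlgHom.id B C)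
        (Algebra.TensorProduct.includeRight : C →ₐ[B] C ⊗[B] C)).toRingHom
  let j23 : C ⊗[B] C →+* C ⊗[B] (C ⊗[B] C) :=
    (Algebra.TensorProduct.includeRight : C ⊗[B] C →ₐ[B] C ⊗[B] (C ⊗[B] C)).toRingHom
  have k1 : j12.comp iL = j13.comp iL := by
    ext c
    simp [j12, j13, iL]
  have k2 : j12.comp iR = j23.comp iL := by
    ext c
    simp [j12, j23, iL, iR]
  have k3 : j13.comp iR = j23.comp iR := by
    ext c
    simp [j13, j23, iR]
  let t3 : Spec (CommRingCat.of (C ⊗[B] (C ⊗[B] C))) ⟶ S := Spec.map (CommRingCat.ofHom j12) ≫ t2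
  have hcomp : ∀ {j j' : C ⊗[B] C →+* C ⊗[B] (C ⊗[B] C)} {i₁ i₂ : C →+* C ⊗[B] C}
      (hh : j.comp i₁ = j'.comp i₂) (e₁ : Spec.map (CommRingCat.ofHom i₁) ≫ tC = t2)
      (e₂ : Spec.map (CommRingCat.ofHom i₂) ≫ tC = t2),
      Spec.map (CommRingCat.ofHom j) ≫ t2 = Spec.map (CommRingCat.ofHom j') ≫ t2 := by
    intro j j' i₁ i₂ hh e₁ e₂
    exact map_comp_eq j i₁ j' i₂ hh e₁ e₂
  have h13 : Spec.map (CommRingCat.ofHom j13) ≫ t2 = t3 := (hcomp k1 rfl rfl).symm
  have h23 : Spec.map (CommRingCat.ofHom j23) ≫ t2 = t3 := (hcomp k2 hR rfl).symm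
  have m1 : sp j12 rfl ≫ p1 = sp j13 h13 ≫ p1 :=
    (sp_comp iL j12 (t := tC) (t' := t2) rfl (t'' := t3) rfl (j12.comp iL) rfl).trans
      (sp_comp iL j13 (t := tC) (t' := t2) rfl (t'' := t3) h13 (j12.comp iL) k1.symm).symm
  have m2 : sp j12 rfl ≫ p2 = sp j23 h23 ≫ p1 :=
    (sp_comp iR j12 (t := tC) (t' := t2) hR (t'' := t3) rfl (j12.comp iR) rfl).trans
      (sp_comp iL j23 (t := tC) (t' := t2) rfl (t'' := t3) h23 (j12.comp iR) k2.symm).symm
  have m3 : sp j13 h13 ≫ p2 = sp j23 h23 ≫ p2 :=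
    (sp_comp iR j13 (t := tC) (t' := t2) hR (t'' := t3) h13 (j13.comp iR) rfl).trans
      (sp_comp iR j23 (t := tC) (t' := t2) hR (t'' := t3) h23 (j13.comp iR) k3.symm).symm
  have hcoc : j13 z = j12 z + j23 z := by
    apply ga_inj t3
    apply hmono
    rw [ga_add, MonObj.mul_comp, ← sp_ga j13 h13, ← sp_ga j12 rfl, ← sp_ga j23 h23,
      Category.assoc, Category.assoc, Category.assoc, hd]
    have n1 : sp j12 rfl ≫ p1 ≫ x = sp j13 h13 ≫ p1 ≫ x := by
      have := congrArg (fun w => w ≫ x) m1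
      simpa only [Category.assoc] using this
    have n2 : sp j12 rfl ≫ p2 ≫ x = sp j23 h23 ≫ p1 ≫ x := by
      have := congrArg (fun w => w ≫ x) m2
      simpa only [Category.assoc] using this
    have n3 : sp j13 h13 ≫ p2 ≫ x = sp j23 h23 ≫ p2 ≫ x := by
      have := congrArg (fun w => w ≫ x) m3
      simpa only [Category.assoc] using this
    rw [MonObj.comp_mul, MonObj.comp_mul, MonObj.comp_mul, GrpObj.comp_inv, GrpObj.comp_inv,
      GrpObj.comp_inv, n1, n2, n3]
    group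
  obtain ⟨c, hc⟩ := exists_coboundary z hcoc
  let y : Over.mk tC ⟶ G := x * (ga tC c ≫ i)⁻¹
  have hy : p1 ≫ y = p2 ≫ y := by
    have hc' : iR c = iL c + z := by
      rw [← hc]
      change (1 : C) ⊗ₜ[B] c = c ⊗ₜ[B] (1 : C) + _
      abel
    have e1 : p1 ≫ ga tC c ≫ i = ga t2 (iL c) ≫ i := by
      rw [← Category.assoc, sp_ga]
    have e2 : p2 ≫ ga tC c ≫ i = (ga t2 (iL c) ≫ i) * ((p1 ≫ x)⁻¹ * (p2 ≫ x)) := by
      rw [← Category.assoc, sp_ga, hc', ga_add, MonObj.mul_comp, hd]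
    change p1 ≫ (x * (ga tC c ≫ i)⁻¹) = p2 ≫ (x * (ga tC c ≫ i)⁻¹)
    rw [MonObj.comp_mul, MonObj.comp_mul, GrpObj.comp_inv, GrpObj.comp_inv, e1, e2]
    group
  obtain ⟨s, hs⟩ := exists_desc t tC rfl t2 rfl hR y hy
  refine ⟨s, ?_⟩
  have hepi : Epi (sp aC rfl : Over.mk tC ⟶ Over.mk t) := by
    have i1 : Flat (Spec.map (CommRingCat.ofHom aC)) := by
      rw [Flat.SpecMap_iff]
      exact RingHom.flat_algebraMap_iff.mpr inferInstance
    have i2 : Surjective (Spec.map (CommRingCat.ofHom aC)) :=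
      ⟨PrimeSpectrum.comap_surjective_of_faithfullyFlat⟩
    have : Epi (Spec.map (CommRingCat.ofHom aC)) := inferInstance
    exact (Over.forget _).epi_of_epi_map this
  rw [← cancel_epi (sp aC rfl : Over.mk tC ⟶ Over.mk t), ← Category.assoc, hs, ← hx]
  change (x * (ga tC c ≫ i)⁻¹) ≫ q = x ≫ q
  rw [MonObj.mul_comp, GrpObj.inv_comp, Category.assoc, w1, MonObj.comp_one, inv_one, _root_.mul_one]

end pts

end K491.GaLift
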