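import Groth.Agent.Sga7.H617.PowTfae
import Groth.Agent.Sga7.H756.RevIsog

/-!
# Homomorphisms of smooth models which are isogenies on the generic fibre
-/

set_option autoImplicit false
set_option linter.unusedSectionVars false

universe u

open CategoryTheory CategoryTheory.Limits MonoidalCategory CartesianMonoidalCategory MonObj GrpObj
  AlgebraicGeometry

namespace K491.IsogFlat

open Groth.Agent Groth.Agent.Sga7 Groth.Agent.Sga7.H756.GenBase Groth.Agent.Sga7.H756.DvrPt
  Groth.Agent.Sga3B.KerGrp

section field

variable {K : Type u} [Field K] {C A : Over (Spec (CommRingCat.of K))}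
  [GrpObj C] [IsProper C.hom] [GeometricallyIntegral C.hom]
  [GrpObj A] [IsProper A.hom] [GeometricallyIntegral A.hom]

/-- An isogeny between abelian varieties is finite. -/
theorem isFinite_left (u : C ⟶ A) [IsMonHom u] (hu : SGA7.IsIsogenyOver u) : IsFinite u.left := by
  have h1 : LocallyQuasiFinite u.left := H760.FibreFlat.lqf_of_finite_ker u hu.2
  have h2 : IsProper u.left := by
    have h : IsProper (u.left ≫ A.hom) := by rw [Over.w]; infer_instance
    exact IsProper.of_comp u.left A.hom
  rw [IsFinite.iff_isProper_and_locallyQuasiFinite]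
  exact ⟨h2, h1⟩

/-- Factorization of `[n]` through an isogeny whose kernel is killed by `n`. -/
theorem exists_factor (u : C ⟶ A) [IsMonHom u] [Surjective u.left] (n : ℕ)
    (hn : ∀ {Z : Over (Spec (CommRingCat.of K))} (k : Z ⟶ C), k ≫ u = 1 → k ^ n = 1) :
    ∃ v : A ⟶ C, u ≫ v = (𝟙 C) ^ n := by
  have hqc := H756.RevIsog.quasiCompact_left K u
  have hfl := H756.RevIsog.flat_left K u
  have hcomm : IsCommMonObj C := isCommMonObj_of_isProper_of_geometricallyIntegral C
  have key : ∀ {Z : Over (Spec (CommRingCat.of K))} (a b : Z ⟶ C), a ≫ u = b ≫ u →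
      a ≫ (𝟙 C) ^ n = b ≫ (𝟙 C) ^ n := by
    intro Z a b hab
    have h1 : (a * b⁻¹) ≫ u = 1 := by
      rw [MonObj.mul_comp, GrpObj.inv_comp, hab, mul_inv_cancel]
    have h2 : (a * b⁻¹) ^ n = 1 := hn _ h1
    rw [MonObj.comp_pow, MonObj.comp_pow, Category.comp_id, Category.comp_id]
    have hc : Commute a b⁻¹ := by
      have : a * b⁻¹ = b⁻¹ * a := Hom.commGroup.mul_comm _ _
      exact this
    rw [hc.mul_pow, inv_pow] at h2
    exact mul_inv_eq_one.1 h2
  exact H760.GaQuot.exists_desc u ((𝟙 C) ^ n) (fun T a b hab => key a b hab)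

/-- The kernel of an isogeny is killed by its order. -/
theorem pow_eq_one_of_finrank (u : C ⟶ A) [IsMonHom u] (N : Over (Spec (CommRingCat.of K)))
    (i : N ⟶ C) (hi : AlgGrp.IsKernel i u) (hN : IsFinite N.hom) (x : Spec (CommRingCat.of K))
    {Z : Over (Spec (CommRingCat.of K))} (k : Z ⟶ C) (hk : k ≫ u = 1) :
    k ^ (N.hom.finrank x) = 1 := by
  have hsub : Subsingleton ↥(Spec (CommRingCat.of K)) :=
    inferInstanceAs (Subsingleton (PrimeSpectrum K))
  obtain ⟨F, _, j, hj, hF⟩ := Groth.Agent.Grpsch.KerMul.exists_kernel u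
  obtain ⟨e, he⟩ := H760.KerBc.exists_iso hF hi
  have hel : IsIso e.hom.left := inferInstance
  have hw : F.hom = e.hom.left ≫ N.hom := (Over.w e.hom).symm
  have hfin : IsFinite F.hom := by
    rw [hw]; infer_instance
  have hfl : Flat F.hom := inferInstance
  have hlfp : LocallyOfFinitePresentation F.hom := by
    have : IsNoetherianRing (CommRingCat.of K) := inferInstanceAs (IsNoetherianRing K)
    infer_instance
  have hpow : (𝟙 F : F ⟶ F) ^ (F.hom.finrank x) = 1 := by
    refine Groth.Agent.Sga3.H794.PowReduced.pow_eq_one_affine K F _ ⟨⟨‹_›, hfl, hlfp⟩, ?_⟩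
    intro z
    rw [Subsingleton.elim z x]
  have hrk : F.hom.finrank x = N.hom.finrank x := by
    simp only [hw]
    exact congrFun (Scheme.Hom.finrank_comp_left_of_isIso e.hom.left N.hom) x
  rw [← hrk]
  let l : Z ⟶ F := hF.lift k (toUnit Z) (by rw [hk]; rfl)
  have hl : l ≫ j = k := hF.lift_fst _ _ _
  have h3 : l ^ (F.hom.finrank x) = 1 := by
    have h4 : l ≫ (𝟙 F) ^ (F.hom.finrank x) = l ^ (F.hom.finrank x) := by
      rw [MonObj.comp_pow, Category.comp_id]
    rw [← h4, hpow, MonObj.comp_one]
  rw [← hl, ← MonObj.pow_comp, h3, MonObj.one_comp]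

end field

section dvr

variable (R K : Type u) [CommRing R] [IsDomain R] [IsDiscreteValuationRing R] [Field K]
  [Algebra R K] [IsFractionRing R K]

variable (G H : Over (Spec (CommRingCat.of R))) [GrpObj G] [Smooth G.hom] [IsSeparated G.hom]
  [QuasiCompact G.hom] [IsProper (Red.bc (jK R K) G).hom]
  [GeometricallyIntegral (Red.bc (jK R K) G).hom]
  [GrpObj H] [Smooth H.hom] [IsSeparated H.hom] [IsProper (Red.bc (jK R K) H).hom]
  [GeometricallyIntegral (Red.bc (jK R K) H).hom]

/-- The homomorphism on the fibre at the generic point is an isogeny. -/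
theorem isIsogenyOver_fibreHom (u : G ⟶ H) [IsMonHom u]
    (hiso : SGA7.IsIsogenyOver (G := Red.bc (jK R K) G) (H := Red.bc (jK R K) H)
      ((Over.pullback (jK R K)).map u)) :
    SGA7.IsIsogenyOver (SGA7.fibreHom (jK R K (IsLocalRing.closedPoint K)) u) := by
  let t : Spec (CommRingCat.of R) := jK R K (IsLocalRing.closedPoint K)
  have hmon : IsMonHom (M := Red.bc (jK R K) G) (N := Red.bc (jK R K) H)
    ((Over.pullback (jK R K)).map u) := inferInstance
  have hfin : IsFinite ((Over.pullback (jK R K)).map u).left :=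
    isFinite_left (C := Red.bc (jK R K) G) (A := Red.bc (jK R K) H) _ hiso
  have hsurj : Surjective ((Over.pullback (jK R K)).map u).left := hiso.1
  obtain ⟨g, hg⟩ : ∃ g : Spec ((Spec (CommRingCat.of R)).residueField t) ⟶
      Spec (CommRingCat.of K), g ≫ jK R K = (Spec (CommRingCat.of R)).fromSpecResidueField t := by
    refine ⟨IsOpenImmersion.lift (jK R K) _ ?_, IsOpenImmersion.lift_fac _ _ _⟩
    rw [Scheme.range_fromSpecResidueField, Set.singleton_subset_iff]
    exact ⟨_, rfl⟩
  let a : ((Over.pullback ((Spec (CommRingCat.of R)).fromSpecResidueField t)).obj H).left ⟶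
      ((Over.pullback (jK R K)).obj H).left :=
    pullback.lift (pullback.fst _ _) (pullback.snd _ _ ≫ g)
      (by rw [Category.assoc, hg, pullback.condition])
  let b : ((Over.pullback ((Spec (CommRingCat.of R)).fromSpecResidueField t)).obj G).left ⟶
      ((Over.pullback (jK R K)).obj G).left :=
    pullback.lift (pullback.fst _ _) (pullback.snd _ _ ≫ g)
      (by rw [Category.assoc, hg, pullback.condition])
  have ha : a ≫ bcι (jK R K) H = bcι _ H := pullback.lift_fst _ _ _
  have hb : b ≫ bcι (jK R K) G = bcι _ G := pullback.lift_fst _ _ _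
  have hpb : IsPullback (SGA7.fibreHom t u).left b a ((Over.pullback (jK R K)).map u).left := by
    refine IsPullback.of_bot ?_ ?_ (isPullback_map (jK R K) u)
    · rw [ha, hb]
      exact isPullback_map ((Spec (CommRingCat.of R)).fromSpecResidueField t) u
    · apply pullback.hom_ext
      · change ((SGA7.fibreHom t u).left ≫ a) ≫ bcι (jK R K) H =
          (b ≫ ((Over.pullback (jK R K)).map u).left) ≫ bcι (jK R K) H
        have e1 : ((SGA7.fibreHom t u).left ≫ a) ≫ bcι (jK R K) H = bcι _ G ≫ u.left := by
          rw [Category.assoc, ha]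
          exact bcι_naturality _ u
        have e2 : (b ≫ ((Over.pullback (jK R K)).map u).left) ≫ bcι (jK R K) H =
            bcι _ G ≫ u.left := by
          rw [Category.assoc, bcι_naturality, ← Category.assoc, hb]
        exact e1.trans e2.symm
      · have h1 : a ≫ ((Over.pullback (jK R K)).obj H).hom =
          ((Over.pullback ((Spec (CommRingCat.of R)).fromSpecResidueField t)).obj H).hom ≫ g :=
          pullback.lift_snd _ _ _
        have h2 : b ≫ ((Over.pullback (jK R K)).obj G).hom =
          ((Over.pullback ((Spec (CommRingCat.of R)).fromSpecResidueField t)).obj G).hom ≫ g :=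
          pullback.lift_snd _ _ _
        change ((SGA7.fibreHom t u).left ≫ a) ≫ ((Over.pullback (jK R K)).obj H).hom =
          (b ≫ ((Over.pullback (jK R K)).map u).left) ≫ ((Over.pullback (jK R K)).obj H).hom
        rw [Category.assoc, Category.assoc, h1, Over.w, h2, ← Category.assoc]
        congr 1
        exact Over.w _
  have hf1 : IsFinite (SGA7.fibreHom t u).left :=
    MorphismProperty.of_isPullback (P := @IsFinite) hpb.flip hfin
  have hf2 : Surjective (SGA7.fibreHom t u).left :=
    MorphismProperty.of_isPullback (P := @Surjective) hpb.flip hsurj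
  exact ⟨hf2, fun N i hN => H617.PowTfae.isFinite_kernel _ N i hN⟩

/-- A homomorphism which is an isogeny on the generic fibre and locally quasi-finite on the
special fibre is flat and locally quasi-finite. -/
theorem flat_lqf_of_fibre (u : G ⟶ H) [IsMonHom u]
    (hiso : SGA7.IsIsogenyOver (G := Red.bc (jK R K) G) (H := Red.bc (jK R K) H)
      ((Over.pullback (jK R K)).map u))
    [LocallyQuasiFinite (SGA7.fibreHom (S := Spec (CommRingCat.of R))
      (IsLocalRing.closedPoint R) u).left] :
    Flat u.left ∧ LocallyQuasiFinite u.left := by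
  let s : Spec (CommRingCat.of R) := IsLocalRing.closedPoint R
  let t : Spec (CommRingCat.of R) := jK R K (IsLocalRing.closedPoint K)
  have hts : t ⤳ s := IsLocalRing.specializes_closedPoint (R := R) t
  have hiso' := isIsogenyOver_fibreHom R K G H u hiso
  have : LocallyOfFinitePresentation G.hom := inferInstance
  obtain ⟨U, hsU, hU1, hU2⟩ := H760.Nhd.exists_open_flat_lqf u s t hts hiso'
  have hU : U = ⊤ := by
    rw [eq_top_iff]
    intro x _
    exact (IsLocalRing.specializes_closedPoint (R := R) x).mem_open U.2 hsU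
  subst hU
  have hιiso : IsIso (⊤ : (Spec (CommRingCat.of R)).Opens).ι :=
    inferInstanceAs (IsIso (Scheme.topIso (Spec (CommRingCat.of R))).hom)
  have hpb2 := isPullback_map (⊤ : (Spec (CommRingCat.of R)).Opens).ι u
  have hi1 : IsIso (bcι (⊤ : (Spec (CommRingCat.of R)).Opens).ι G) :=
    inferInstanceAs (IsIso (pullback.fst G.hom (⊤ : (Spec (CommRingCat.of R)).Opens).ι))
  have hi2 : IsIso (bcι (⊤ : (Spec (CommRingCat.of R)).Opens).ι H) :=
    inferInstanceAs (IsIso (pullback.fst H.hom (⊤ : (Spec (CommRingCat.of R)).Opens).ι))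
  have hN : u.left = inv (bcι (⊤ : (Spec (CommRingCat.of R)).Opens).ι G) ≫
      ((Over.pullback (⊤ : (Spec (CommRingCat.of R)).Opens).ι).map u).left ≫
      bcι (⊤ : (Spec (CommRingCat.of R)).Opens).ι H := by
    rw [IsIso.eq_inv_comp]
    exact hpb2.w.symm
  rw [hN]
  exact ⟨inferInstance, inferInstance⟩

/-- A homomorphism which is an isogeny on the generic fibre and locally quasi-finite is flat. -/
theorem flat_of_lqf (u : G ⟶ H) [IsMonHom u] [LocallyQuasiFinite u.left]
    (hiso : SGA7.IsIsogenyOver (G := Red.bc (jK R K) G) (H := Red.bc (jK R K) H)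
      ((Over.pullback (jK R K)).map u)) : Flat u.left := by
  have h : LocallyQuasiFinite (SGA7.fibreHom (S := Spec (CommRingCat.of R))
      (IsLocalRing.closedPoint R) u).left :=
    MorphismProperty.of_isPullback (P := @LocallyQuasiFinite)
      (isPullback_map _ u).flip inferInstance
  exact (flat_lqf_of_fibre R K G H u hiso).1

end dvr

end K491.IsogFlat
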