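import Groth.Agent.Sga3.H794.ChevKer
import Groth.Agent.Neron.K490.DualIsog
import Groth.Agent.Neron.K491.FrobIsog

/-!
# Pseudo-abelian varieties: the two abelian varieties are isogenous

* `exists_retr`: `E → P` the kernel of `q : P → V`, `V` killed by `a` : there is `f : P → E` with
  `f ≫ jE = a_P`, `jE ≫ f = a_E`.
* `exists_isog`: over a field, complementary homomorphisms between `E` and `A`.
-/

set_option autoImplicit false
universe u

open CategoryTheory CategoryTheory.Limits AlgebraicGeometry MonObj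
open MonoidalCategory CartesianMonoidalCategory

namespace K491.IsogPA

section

variable {S : Scheme.{u}}

lemma pow_id_comp {G H : Over S} [GrpObj G] [GrpObj H] (f : G ⟶ H) [IsMonHom f] (n : ℕ) :
    ((𝟙 G : G ⟶ G) ^ n) ≫ f = f ^ n := by
  rw [MonObj.pow_comp, Category.id_comp]

lemma comp_pow_id {G H : Over S} [GrpObj H] (f : G ⟶ H) (n : ℕ) :
    f ≫ ((𝟙 H : H ⟶ H) ^ n) = f ^ n := by
  rw [MonObj.comp_pow, Category.comp_id]

/-- The power map of a commutative group is a homomorphism. -/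
lemma isMonHom_pow_id (P : Over S) [GrpObj P] [IsCommMonObj P] (n : ℕ) :
    IsMonHom ((𝟙 P : P ⟶ P) ^ n) := inferInstance

theorem exists_retr {P E V : Over S} [GrpObj P] [IsCommMonObj P] [GrpObj E] [GrpObj V] (jE : E ⟶ P)
    [IsMonHom jE] (q : P ⟶ V) [IsMonHom q] (hk : AlgGrp.IsKernel jE q) [Mono jE] (a : ℕ)
    (ha : (𝟙 V : V ⟶ V) ^ a = 1) :
    ∃ f : P ⟶ E, IsMonHom f ∧ f ≫ jE = (𝟙 P) ^ a ∧ jE ≫ f = (𝟙 E) ^ a := by
  have h1 : ((𝟙 P : P ⟶ P) ^ a) ≫ q = 1 := by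
    rw [pow_id_comp, ← comp_pow_id, ha, MonObj.comp_one]
  obtain ⟨f, hf⟩ := Groth.Agent.Sga3.H794.ChevKer.exists_lift_ker hk ((𝟙 P : P ⟶ P) ^ a) h1
  have hfm : IsMonHom (f ≫ jE) := by
    rw [hf]
    exact isMonHom_pow_id P a
  have hfm' : IsMonHom f := by
    constructor
    · rw [← cancel_mono jE, Category.assoc, IsMonHom.one_hom (f ≫ jE), IsMonHom.one_hom jE]
    · rw [← cancel_mono jE, Category.assoc, IsMonHom.mul_hom (f ≫ jE), Category.assoc,
        IsMonHom.mul_hom jE, ← Category.assoc, tensorHom_comp_tensorHom]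
  refine ⟨f, hfm', hf, ?_⟩
  rw [← cancel_mono jE, Category.assoc, hf, comp_pow_id, pow_id_comp]

lemma pow_id_comp_pow_id (G : Over S) [GrpObj G] (a b : ℕ) :
    ((𝟙 G : G ⟶ G) ^ a) ≫ ((𝟙 G : G ⟶ G) ^ b) = (𝟙 G) ^ (a * b) := by
  rw [comp_pow_id, ← pow_mul]

end

section

variable {L : Type u} [Field L]

theorem exists_isog {P E A U : Over (Spec (CommRingCat.of L))} [GrpObj P] [IsCommMonObj P] [GrpObj E]
    [GrpObj A] [GrpObj U] [LocallyOfFiniteType P.hom] [QuasiCompact P.hom] [LocallyOfFiniteType A.hom]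
    [IsReduced A.left]
    (jE : E ⟶ P) [IsMonHom jE] (f : P ⟶ E) [IsMonHom f] (a : ℕ) (hf : f ≫ jE = (𝟙 P) ^ a)
    (hf' : jE ≫ f = (𝟙 E) ^ a)
    (i : U ⟶ P) [IsMonHom i] (π : P ⟶ A) [IsMonHom π] (hker : AlgGrp.IsKernel i π)
    (hπ : Surjective π.left) (b : ℕ) (hb : (𝟙 U : U ⟶ U) ^ b = 1) :
    ∃ (φ : E ⟶ A) (ψ : A ⟶ E), IsMonHom φ ∧ IsMonHom ψ ∧ φ ≫ ψ = (𝟙 E) ^ (b * a) ∧
      ψ ≫ φ = (𝟙 A) ^ (b * a) := by
  have hfl : Flat π.left := K490.Degree.flat_of_surjective π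
  have hlfp : LocallyOfFinitePresentation π.left := by
    have h1 : LocallyOfFinitePresentation P.hom := inferInstance
    have h6 : LocallyOfFinitePresentation (π.left ≫ A.hom) := by rw [Over.w]; infer_instance
    exact Groth.Agent.Flat2E.Thick.locallyOfFinitePresentation_of_comp π.left A.hom
  obtain ⟨h, hh, hπh⟩ := Groth.Agent.Sga3.H794.ChevKer.exists_desc_hom i π hker
    ((𝟙 P : P ⟶ P) ^ b) (by rw [comp_pow_id, ← pow_id_comp, hb, MonObj.one_comp])
  refine ⟨jE ≫ π, h ≫ f, inferInstance, inferInstance, ?_, ?_⟩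
  · rw [Category.assoc, reassoc_of% hπh, ← Category.assoc, comp_pow_id, ← pow_id_comp,
      Category.assoc, hf', pow_id_comp_pow_id]
  · have hepi := Groth.Agent.Sga3C.QuotProps.epi_of_flat_surjective π
    rw [← cancel_epi π, Category.assoc, reassoc_of% hf, ← Category.assoc π h, hπh, ← Category.assoc,
      pow_id_comp_pow_id, pow_id_comp, comp_pow_id]

end

end K491.IsogPA
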