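import Mathlib.AlgebraicGeometry.Morphisms.FormallyUnramified
import Mathlib.AlgebraicGeometry.Stalk

/-!
# Sections over a local ring agreeing at the closed point
-/

set_option autoImplicit false
universe u

open CategoryTheory CategoryTheory.Limits AlgebraicGeometry

namespace K491.LocSec

theorem range_subset {R : Type u} [CommRing R] [IsLocalRing R] {X Y : Scheme.{u}} (j : Y ⟶ X)
    [IsOpenImmersion j] (a : Spec (CommRingCat.of R) ⟶ X)
    (h : a (IsLocalRing.closedPoint R) ∈ Set.range j) : Set.range a ⊆ Set.range j := by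
  rintro _ ⟨z, rfl⟩
  have h1 : a z ⤳ a (IsLocalRing.closedPoint R) :=
    (IsLocalRing.specializes_closedPoint (R := R) z).map a.continuous
  exact h1.mem_open j.opensRange.2 h

/-- Two sections of a scheme over a local ring whose values at the closed point are the same point
agree on the residue field. -/
theorem res_comp_eq {R : Type u} [CommRing R] [IsLocalRing R] {X : Scheme.{u}}
    (f : X ⟶ Spec (CommRingCat.of R)) (a b : Spec (CommRingCat.of R) ⟶ X) (ha : a ≫ f = 𝟙 _)
    (hb : b ≫ f = 𝟙 _) (h : a (IsLocalRing.closedPoint R) = b (IsLocalRing.closedPoint R)) :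
    Spec.map (CommRingCat.ofHom (IsLocalRing.residue R)) ≫ a =
      Spec.map (CommRingCat.ofHom (IsLocalRing.residue R)) ≫ b := by
  obtain ⟨A, j, _, hj, _⟩ := Scheme.exists_affine_mem_range_and_range_subset
    (x := a (IsLocalRing.closedPoint R)) (U := ⊤) (by simp)
  have hra := range_subset j a hj
  have hrb := range_subset j b (h ▸ hj)
  obtain ⟨α, hα⟩ := Spec.map_surjective (IsOpenImmersion.lift j a hra)
  obtain ⟨β, hβ⟩ := Spec.map_surjective (IsOpenImmersion.lift j b hrb)
  obtain ⟨g, hg⟩ := Spec.map_surjective (j ≫ f)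
  have hα' : Spec.map α ≫ j = a := by rw [hα, IsOpenImmersion.lift_fac]
  have hβ' : Spec.map β ≫ j = b := by rw [hβ, IsOpenImmersion.lift_fac]
  have hgα : ∀ r : R, α.hom (g.hom r) = r := by
    have : g ≫ α = 𝟙 _ := by
      apply Spec.map_injective
      rw [Spec.map_comp, hg, reassoc_of% hα', ha, Spec.map_id]
    exact fun r => ConcreteCategory.congr_hom this r
  have hgβ : ∀ r : R, β.hom (g.hom r) = r := by
    have : g ≫ β = 𝟙 _ := by
      apply Spec.map_injective
      rw [Spec.map_comp, hg, reassoc_of% hβ', hb, Spec.map_id]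
    exact fun r => ConcreteCategory.congr_hom this r
  have hpt : Spec.map α (IsLocalRing.closedPoint R) = Spec.map β (IsLocalRing.closedPoint R) := by
    apply j.isOpenEmbedding.injective
    rw [← Scheme.Hom.comp_apply, ← Scheme.Hom.comp_apply, hα', hβ', h]
  have hmem : ∀ y : A, α.hom y ∈ IsLocalRing.maximalIdeal R ↔ β.hom y ∈ IsLocalRing.maximalIdeal R := by
    intro y
    have h1 := congrArg (fun z : Spec A => y ∈ z.asIdeal) hpt
    exact iff_of_eq h1
  rw [← hα', ← hβ', ← Category.assoc, ← Category.assoc, ← Spec.map_comp, ← Spec.map_comp]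
  congr 2
  ext y
  change IsLocalRing.residue R (α.hom y) = IsLocalRing.residue R (β.hom y)
  have h1 : α.hom (y - g.hom (α.hom y)) ∈ IsLocalRing.maximalIdeal R := by
    rw [map_sub, hgα, sub_self]
    exact Ideal.zero_mem _
  have h2 := (hmem _).1 h1
  rw [map_sub, hgβ, ← IsLocalRing.residue_eq_zero_iff, map_sub, sub_eq_zero] at h2
  exact h2.symm

end K491.LocSec
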