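import Groth.Agent.Neron.K491.GalWeil
import Groth.Agent.RedSub.K197.Isog
import Groth.Agent.Sga3B.Trans894
import Groth.Agent.Sga3B.TorusBc
import Groth.Agent.Sga3B.TorusAlgClosed
import Groth.Agent.Sga3B.Pts
import Groth.Prelude.Def_SGA7IX
import Mathlib.RingTheory.IntegralClosure.IntegralRestrict

/-!
# Purely multiplicative reduction: products, conjugates and Weil restrictions
-/

set_option autoImplicit false
universe u

open CategoryTheory Limits MonoidalCategory CartesianMonoidalCategory MonObj AlgebraicGeometry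

namespace K491.MultRed

section Functor

variable {C D : Type*} [Category* C] [Category* D] [CartesianMonoidalCategory C] [CartesianMonoidalCategory D]
  (F : C ⥤ D) [F.Monoidal]

lemma map_hom_ext {Z : D} {X Y : C} (a b : Z ⟶ F.obj (X ⊗ Y)) (h1 : a ≫ F.map (fst X Y) = b ≫ F.map (fst X Y))
    (h2 : a ≫ F.map (snd X Y) = b ≫ F.map (snd X Y)) : a = b := by
  rw [← cancel_mono (Functor.Monoidal.μIso F X Y).inv]
  apply CartesianMonoidalCategory.hom_ext
  · simpa using h1
  · simpa using h2

lemma map_unit_ext {Z : D} (a b : Z ⟶ F.obj (𝟙_ C)) : a = b := by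
  rw [← cancel_mono (Functor.Monoidal.εIso F).inv]
  exact toUnit_unique _ _

end Functor

section Ner

variable {R' L : Type u} [CommRing R'] [Field L] [Algebra R' L]

theorem isNeron_prod {N₁ N₂ : Over (Spec (CommRingCat.of R'))} (h1 : SGA7.IsNeron R' L N₁)
    (h2 : SGA7.IsNeron R' L N₂) : SGA7.IsNeron R' L (N₁ ⊗ N₂) := by
  obtain ⟨a1, a2, a3, a4⟩ := h1
  obtain ⟨b1, b2, b3, b4⟩ := h2
  refine ⟨?_, ?_, ?_, fun Y hY => ⟨?_, ?_⟩⟩
  · change Smooth (pullback.fst N₁.hom N₂.hom ≫ N₁.hom)
    infer_instance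
  · change IsSeparated (pullback.fst N₁.hom N₂.hom ≫ N₁.hom)
    infer_instance
  · change QuasiCompact (pullback.fst N₁.hom N₂.hom ≫ N₁.hom)
    infer_instance
  · intro g g' h
    apply CartesianMonoidalCategory.hom_ext
    · apply (a4 Y hY).1
      dsimp only at h ⊢
      rw [Functor.map_comp, Functor.map_comp, h]
    · apply (b4 Y hY).1
      dsimp only at h ⊢
      rw [Functor.map_comp, Functor.map_comp, h]
  · intro φ
    obtain ⟨g1, hg1⟩ := (a4 Y hY).2 (φ ≫ (SGA7.genFib R' L).map (fst N₁ N₂))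
    obtain ⟨g2, hg2⟩ := (b4 Y hY).2 (φ ≫ (SGA7.genFib R' L).map (snd N₁ N₂))
    refine ⟨lift g1 g2, map_hom_ext (SGA7.genFib R' L) _ _ ?_ ?_⟩
    · dsimp only at hg1 ⊢
      rw [← hg1, ← Functor.map_comp, lift_fst]
    · dsimp only at hg2 ⊢
      rw [← hg2, ← Functor.map_comp, lift_snd]

theorem isNeron_unit : SGA7.IsNeron R' L (𝟙_ (Over (Spec (CommRingCat.of R')))) := by
  refine ⟨?_, ?_, ?_, fun Y hY => ⟨?_, ?_⟩⟩
  · change Smooth (𝟙 _)
    infer_instance
  · change IsSeparated (𝟙 _)
    infer_instance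
  · change QuasiCompact (𝟙 _)
    infer_instance
  · intro g g' h
    exact toUnit_unique _ _
  · intro φ
    exact ⟨toUnit Y, map_unit_ext (SGA7.genFib R' L) _ _⟩

instance isEquivalence_pullback {X Y : Scheme.{u}} (f : X ⟶ Y) [IsIso f] : (Over.pullback f).IsEquivalence :=
  (Over.mapPullbackAdj f).isEquivalence_right_of_isEquivalence_left

theorem isNeron_bc {N : Over (Spec (CommRingCat.of R'))} (hN : SGA7.IsNeron R' L N)
    (f : Spec (CommRingCat.of R') ⟶ Spec (CommRingCat.of R')) (g : Spec (CommRingCat.of L) ⟶ Spec (CommRingCat.of L))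
    [IsIso f] [IsIso g] (i : Over.pullback f ⋙ SGA7.genFib R' L ≅ SGA7.genFib R' L ⋙ Over.pullback g) :
    SGA7.IsNeron R' L (Red.bc f N) := by
  obtain ⟨a1, a2, a3, a4⟩ := hN
  refine ⟨?_, ?_, ?_, fun Y hY => ?_⟩
  · change Smooth (pullback.snd N.hom f)
    infer_instance
  · change IsSeparated (pullback.snd N.hom f)
    infer_instance
  · change QuasiCompact (pullback.snd N.hom f)
    infer_instance
  · let Y₀ : Over (Spec (CommRingCat.of R')) := Red.bc (inv f) Y
    have hY₀ : Smooth Y₀.hom := by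
      change Smooth (pullback.snd Y.hom (inv f))
      infer_instance
    let j : Red.bc f Y₀ ≅ Y := ((Over.pullbackComp f (inv f)).symm.app Y) ≪≫
      (eqToIso (congrArg (fun k => (Over.pullback k).obj Y) (IsIso.hom_inv_id f))) ≪≫ Over.pullbackId.app Y
    have h1 : Function.Bijective (fun x : Y₀ ⟶ N => j.inv ≫ (Over.pullback f).map x) :=
      (Iso.homFromEquiv j).bijective.comp ((Functor.FullyFaithful.ofFullyFaithful (Over.pullback f)).map_bijective _ _)
    have h2 : Function.Bijective (fun z : (SGA7.genFib R' L).obj Y₀ ⟶ (SGA7.genFib R' L).obj N =>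
        ((SGA7.genFib R' L).map j.inv ≫ i.hom.app Y₀) ≫ (Over.pullback g).map z ≫ i.inv.app N) :=
      (Iso.homCongr ((SGA7.genFib R' L).mapIso j.symm ≪≫ i.app Y₀).symm (i.app N).symm).bijective.comp
        ((Functor.FullyFaithful.ofFullyFaithful (Over.pullback g)).map_bijective _ _)
    have h3 := h2.comp (a4 Y₀ hY₀)
    rw [← Function.Bijective.of_comp_iff _ h1]
    refine Eq.mp (congrArg Function.Bijective ?_) h3
    funext x
    have h4 := i.hom.naturality x
    change (SGA7.genFib R' L).map ((Over.pullback f).map x) ≫ i.hom.app N =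
      i.hom.app Y₀ ≫ (Over.pullback g).map ((SGA7.genFib R' L).map x) at h4
    change ((SGA7.genFib R' L).map j.inv ≫ i.hom.app Y₀) ≫
      (Over.pullback g).map ((SGA7.genFib R' L).map x) ≫ i.inv.app N =
      (SGA7.genFib R' L).map (j.inv ≫ (Over.pullback f).map x)
    rw [Functor.map_comp, Category.assoc, ← reassoc_of% h4, Iso.hom_inv_id_app]
    simp

end Ner

section Torus

open Groth.Agent.Sga3B

/-- the trivial group is a torus -/
theorem isTorus_unit (S : Scheme.{u}) : Red.IsTorus (𝟙_ (Over S)) := by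
  have h1 := Trans894.isTorus_DS S (Fin 0 → ℤ)
  have h2 : ∀ (X : Over S) (x y : X ⟶ Red.DS S (Fin 0 → ℤ)), x = y := by
    intro X x y
    apply (DSPts.dsEquiv X (Fin 0 → ℤ)).symm.injective
    refine MonoidHom.ext fun m => ?_
    have hm : m = 1 := Subsingleton.elim (α := Fin 0 → ℤ) _ _
    rw [hm, map_one, map_one]
  let e : Red.DS S (Fin 0 → ℤ) ≅ 𝟙_ (Over S) :=
    { hom := toUnit _
      inv := 1
      hom_inv_id := h2 _ _ _
      inv_hom_id := toUnit_unique _ _ }
  have he : IsMonHom e.hom := inferInstanceAs (IsMonHom (toUnit _))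
  exact TorusBc.isTorus_of_iso (Grp.mkIso' e) h1

theorem isMonHom_dsProd (S : Scheme.{u}) (A B : Type) [AddCommGroup A] [AddCommGroup B] :
    IsMonHom (K197.Isog.dsProd S A B).hom :=
  inferInstanceAs (IsMonHom (lift (Red.DSmap S (AddMonoidHom.inl A B)) (Red.DSmap S (AddMonoidHom.inr A B))))

theorem isMonHom_tensor {S : Scheme.{u}} {A B C D : Over S} [GrpObj A] [GrpObj B] [GrpObj C] [GrpObj D] (f : A ⟶ B)
    (g : C ⟶ D) [IsMonHom f] [IsMonHom g] : IsMonHom (f ⊗ₘ g) := by
  have : (f ⊗ₘ g) = lift (fst _ _ ≫ f) (snd _ _ ≫ g) := by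
    apply CartesianMonoidalCategory.hom_ext <;> simp
  rw [this]
  infer_instance

theorem exists_iso_of_grp {S : Scheme.{u}} {A B : Over S} [GrpObj A] [GrpObj B] (e : Grp.mk A ≅ Grp.mk B) :
    ∃ f : A ≅ B, IsMonHom f.hom :=
  ⟨(Grp.forget _).mapIso e, inferInstanceAs (IsMonHom e.hom.hom.hom)⟩

/-- products of split tori -/
theorem isTorus_prod {K : Type u} [Field K] [IsAlgClosed K] {T₁ T₂ : Over (Spec (CommRingCat.of K))}
    [GrpObj T₁] [GrpObj T₂] (h1 : Red.IsTorus T₁) (h2 : Red.IsTorus T₂) : Red.IsTorus (T₁ ⊗ T₂) := by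
  obtain ⟨r₁, ⟨e₁⟩⟩ := TorusAlgClosed.exists_isSplitTorusWith h1
  obtain ⟨r₂, ⟨e₂⟩⟩ := TorusAlgClosed.exists_isSplitTorusWith h2
  have h3 := Trans894.isTorus_DS (Spec (CommRingCat.of K)) ((Fin r₁ → ℤ) × (Fin r₂ → ℤ))
  obtain ⟨f₁, hf₁⟩ := exists_iso_of_grp e₁.symm
  obtain ⟨f₂, hf₂⟩ := exists_iso_of_grp e₂.symm
  have he := isMonHom_dsProd (Spec (CommRingCat.of K)) (Fin r₁ → ℤ) (Fin r₂ → ℤ)
  have hf := isMonHom_tensor f₁.hom f₂.hom
  have hc : IsMonHom (K197.Isog.dsProd (Spec (CommRingCat.of K)) (Fin r₁ → ℤ) (Fin r₂ → ℤ) ≪≫ (f₁ ⊗ᵢ f₂)).hom := by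
    rw [Iso.trans_hom, tensorIso_hom]
    infer_instance
  exact TorusBc.isTorus_of_iso (Grp.mkIso' (K197.Isog.dsProd _ _ _ ≪≫ (f₁ ⊗ᵢ f₂))) h3

end Torus

/-- base change along equal morphisms -/
noncomputable def pbCongr {X Y : Scheme.{u}} {f g : X ⟶ Y} (h : f = g) : Over.pullback f ≅ Over.pullback g :=
  h ▸ Iso.refl _

/-- base change along the two sides of a commutative square -/
noncomputable def sqNat {X Y Z W : Scheme.{u}} {a : X ⟶ Y} {b : Z ⟶ W} (f : Y ⟶ W) (g : X ⟶ Z)
    (h : g ≫ b = a ≫ f) : Over.pullback f ⋙ Over.pullback a ≅ Over.pullback b ⋙ Over.pullback g :=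
  (Over.pullbackComp a f).symm ≪≫ pbCongr h.symm ≪≫ Over.pullbackComp g b

section Mult

variable (R' L : Type u) [CommRing R'] [IsLocalRing R'] [Field L] [Algebra R' L]

/-- the closed point -/
noncomputable abbrev cl : Spec (CommRingCat.of (IsLocalRing.ResidueField R')) ⟶ Spec (CommRingCat.of R') :=
  Spec.map (CommRingCat.ofHom (IsLocalRing.residue R'))

/-- `X` has a Néron model with a group structure whose special fibre contains a torus as an open subgroup -/
def Mult (X : Over (Spec (CommRingCat.of L))) [GrpObj X] : Prop :=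
  ∃ (N : Over (Spec (CommRingCat.of R'))) (_ : GrpObj N)
    (T : Over (Spec (CommRingCat.of (IsLocalRing.ResidueField R')))) (_ : GrpObj T)
    (e : (SGA7.genFib R' L).obj N ≅ X) (i : T ⟶ Red.bc (cl R') N),
    SGA7.IsNeron R' L N ∧ IsMonHom e.hom ∧ IsMonHom i ∧ IsOpenImmersion i.left ∧ Red.IsTorus T

variable {R' L}

theorem Mult.of_iso {X Y : Over (Spec (CommRingCat.of L))} [GrpObj X] [GrpObj Y] (h : Mult R' L X) (f : X ≅ Y)
    [IsMonHom f.hom] : Mult R' L Y := by
  obtain ⟨N, hN, T, hT, e, i, h1, h2, h3, h4, h5⟩ := h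
  refine ⟨N, hN, T, hT, e ≪≫ f, i, h1, ?_, h3, h4, h5⟩
  change IsMonHom (e.hom ≫ f.hom)
  infer_instance

theorem Mult.unit : Mult R' L (𝟙_ (Over (Spec (CommRingCat.of L)))) := by
  refine ⟨𝟙_ _, inferInstance, 𝟙_ _, inferInstance, (Functor.Monoidal.εIso (SGA7.genFib R' L)).symm,
    (Functor.Monoidal.εIso (Over.pullback (cl R'))).hom, isNeron_unit, ?_, ?_, ?_, isTorus_unit _⟩
  · have h := toUnit_unique (Functor.Monoidal.εIso (SGA7.genFib R' L)).symm.hom (toUnit _)
    rw [h]
    infer_instance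
  · have : IsMonHom (Functor.Monoidal.εIso (Over.pullback (cl R'))).symm.hom := by
      have h := toUnit_unique (Functor.Monoidal.εIso (Over.pullback (cl R'))).symm.hom (toUnit _)
      rw [h]
      infer_instance
    exact inferInstanceAs (IsMonHom (Functor.Monoidal.εIso (Over.pullback (cl R'))).symm.inv)
  · infer_instance

theorem Mult.prod [IsAlgClosed (IsLocalRing.ResidueField R')] {X Y : Over (Spec (CommRingCat.of L))} [GrpObj X]
    [GrpObj Y] (hX : Mult R' L X) (hY : Mult R' L Y) : Mult R' L (X ⊗ Y) := by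
  obtain ⟨N, hN, T, hT, e, i, h1, h2, h3, h4, h5⟩ := hX
  obtain ⟨N', hN', T', hT', e', i', h1', h2', h3', h4', h5'⟩ := hY
  refine ⟨N ⊗ N', inferInstance, T ⊗ T', inferInstance,
    (Functor.Monoidal.μIso (SGA7.genFib R' L) N N').symm ≪≫ (e ⊗ᵢ e'),
    (i ⊗ₘ i') ≫ (Functor.Monoidal.μIso (Over.pullback (cl R')) N N').hom, isNeron_prod h1 h1', ?_, ?_, ?_,
    isTorus_prod h5 h5'⟩
  · have : ((Functor.Monoidal.μIso (SGA7.genFib R' L) N N').symm ≪≫ (e ⊗ᵢ e')).hom =
        lift ((SGA7.genFib R' L).map (fst _ _) ≫ e.hom) ((SGA7.genFib R' L).map (snd _ _) ≫ e'.hom) := by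
      apply CartesianMonoidalCategory.hom_ext <;> simp
    rw [this]
    infer_instance
  · have h6 : (i ⊗ₘ i') = lift (fst _ _ ≫ i) (snd _ _ ≫ i') := by
      apply CartesianMonoidalCategory.hom_ext <;> simp
    have h7 : (Functor.Monoidal.μIso (Over.pullback (cl R')) N N').symm.hom =
        lift ((Over.pullback (cl R')).map (fst _ _)) ((Over.pullback (cl R')).map (snd _ _)) := by
      apply CartesianMonoidalCategory.hom_ext <;> simp
    have h8 : IsMonHom (Functor.Monoidal.μIso (Over.pullback (cl R')) N N').symm.hom := by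
      rw [h7]
      infer_instance
    have h9 : IsMonHom (Functor.Monoidal.μIso (Over.pullback (cl R')) N N').hom :=
      inferInstanceAs (IsMonHom (Functor.Monoidal.μIso (Over.pullback (cl R')) N N').symm.inv)
    rw [h6]
    infer_instance
  · have h6 : IsOpenImmersion (i ⊗ₘ i').left := by
      rw [Over.tensorHom_left]
      infer_instance
    rw [Over.comp_left]
    infer_instance

/-- isomorphic conjugates -/
theorem Mult.bc {E : Over (Spec (CommRingCat.of L))} [GrpObj E] (h : Mult R' L E)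
    (f : Spec (CommRingCat.of R') ⟶ Spec (CommRingCat.of R')) (g : Spec (CommRingCat.of L) ⟶ Spec (CommRingCat.of L))
    (f' : Spec (CommRingCat.of (IsLocalRing.ResidueField R')) ⟶ Spec (CommRingCat.of (IsLocalRing.ResidueField R')))
    [IsIso f] [IsIso g]
    (h1 : g ≫ Spec.map (CommRingCat.ofHom (algebraMap R' L)) = Spec.map (CommRingCat.ofHom (algebraMap R' L)) ≫ f)
    (h2 : f' ≫ cl R' = cl R' ≫ f) : Mult R' L (Red.bc g E) := by
  obtain ⟨N, hN, T, hT, e, i, k1, k2, k3, k4, k5⟩ := h
  obtain ⟨e1, he1⟩ := exists_iso_of_grp ((Groth.Agent.Sga3B.BcIso.bcCompIso _ f N).symm ≪≫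
    Groth.Agent.Sga3B.BcIso.bcCongrIso h1.symm N ≪≫ Groth.Agent.Sga3B.BcIso.bcCompIso g _ N)
  obtain ⟨e2, he2⟩ := exists_iso_of_grp ((Groth.Agent.Sga3B.BcIso.bcCompIso _ f N).symm ≪≫
    Groth.Agent.Sga3B.BcIso.bcCongrIso h2.symm N ≪≫ Groth.Agent.Sga3B.BcIso.bcCompIso f' (cl R') N)
  refine ⟨Red.bc f N, inferInstance, Red.bc f' T, inferInstance, e1 ≪≫ (Over.pullback g).mapIso e,
    (Over.pullback f').map i ≫ e2.inv, ?_, ?_, ?_, ?_, Groth.Agent.Sga3B.TorusBc.isTorus_bc f' k5⟩
  · exact isNeron_bc k1 f g (sqNat f g h1)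
  · change IsMonHom (e1.hom ≫ (Over.pullback g).map e.hom)
    infer_instance
  · infer_instance
  · have h6 : IsOpenImmersion ((Over.pullback f').map i).left :=
      MorphismProperty.overPullbackMap (P := @IsOpenImmersion) f' i k4
    rw [Over.comp_left]
    infer_instance

/-- products of finite families -/
theorem Mult.pi [IsAlgClosed (IsLocalRing.ResidueField R')] (J : Type u) [Finite J] :
    ∀ (X : J → Over (Spec (CommRingCat.of L))) [∀ i, GrpObj (X i)], (∀ i, Mult R' L (X i)) →
      ∃ (P : Over (Spec (CommRingCat.of L))) (_ : GrpObj P) (p : ∀ i, P ⟶ X i),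
        (∀ i, IsMonHom (p i)) ∧ (∀ T : Over (Spec (CommRingCat.of L)),
          Function.Bijective (fun (g : T ⟶ P) i => g ≫ p i)) ∧ Mult R' L P := by
  induction J using Finite.induction_empty_option with
  | of_equiv e ih =>
    intro X _ hX
    obtain ⟨P, hP, p, h1, h2, h3⟩ := ih (fun i => X (e i)) (fun i => hX (e i))
    let p' := Equiv.piCongrLeft (fun j => P ⟶ X j) e p
    have hp' : ∀ i, p' (e i) = p i := fun i => Equiv.piCongrLeft_apply_apply (fun j => P ⟶ X j) e p i
    refine ⟨P, hP, p', ?_, ?_, h3⟩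
    · intro j
      obtain ⟨i, rfl⟩ := e.surjective j
      rw [hp']
      exact h1 i
    · intro T
      have h4 := (Equiv.piCongrLeft (fun j => T ⟶ X j) e).bijective.comp (h2 T)
      refine Eq.mp (congrArg Function.Bijective ?_) h4
      funext g j
      obtain ⟨i, rfl⟩ := e.surjective j
      refine (Equiv.piCongrLeft_apply_apply (fun j => T ⟶ X j) e _ i).trans ?_
      rw [hp']
  | h_empty =>
    intro X _ hX
    refine ⟨𝟙_ _, inferInstance, fun i => i.elim, fun i => i.elim, fun T => ⟨fun g g' _ => toUnit_unique _ _, fun f =>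
      ⟨toUnit _, funext fun i => i.elim⟩⟩, Mult.unit⟩
  | h_option ih =>
    intro X _ hX
    obtain ⟨P, hP, p, h1, h2, h3⟩ := ih (fun i => X (some i)) (fun i => hX (some i))
    refine ⟨X none ⊗ P, inferInstance, fun i => match i with
      | none => fst _ _
      | some i => snd _ _ ≫ p i, ?_, ?_, (hX none).prod h3⟩
    · rintro (_ | i)
      · exact inferInstanceAs (IsMonHom (fst (X none) P))
      · have := h1 i
        exact inferInstanceAs (IsMonHom (snd (X none) P ≫ p i))
    · intro T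
      constructor
      · intro g g' h
        apply CartesianMonoidalCategory.hom_ext
        · exact congrFun h none
        · apply (h2 T).1
          funext i
          have := congrFun h (some i)
          dsimp only at this ⊢
          simpa only [Category.assoc] using this
      · intro f
        obtain ⟨g, hg⟩ := (h2 T).2 (fun i => f (some i))
        refine ⟨lift (f none) g, ?_⟩
        funext i
        rcases i with _ | i
        · exact lift_fst _ _
        · have := congrFun hg i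
          dsimp only at this ⊢
          rw [lift_snd_assoc, this]

/-- the conclusion for every Néron model -/
theorem Mult.exists_torus {X : Over (Spec (CommRingCat.of L))} [GrpObj X] (h : Mult R' L X)
    (M : Over (Spec (CommRingCat.of R'))) [GrpObj M] (hM : SGA7.IsNeron R' L M)
    (eM : (SGA7.genFib R' L).obj M ≅ X) [IsMonHom eM.hom] :
    ∃ (T : Over (Spec (CommRingCat.of (IsLocalRing.ResidueField R')))) (_ : GrpObj T) (i : T ⟶ Red.bc (cl R') M),
      IsMonHom i ∧ IsOpenImmersion i.left ∧ Red.IsTorus T := by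
  obtain ⟨N, hN, T, hT, e, i, k1, k2, k3, k4, k5⟩ := h
  have sN : Smooth N.hom := k1.1
  have sM : Smooth M.hom := hM.1
  obtain ⟨φ, hφ⟩ := (hM.2.2.2 N sN).2 (e.hom ≫ eM.inv)
  obtain ⟨ψ, hψ⟩ := (k1.2.2.2 M sM).2 (eM.hom ≫ e.inv)
  dsimp only at hφ hψ
  have h1 : φ ≫ ψ = 𝟙 N := by
    apply (k1.2.2.2 N sN).1
    dsimp only
    rw [Functor.map_comp, hφ, hψ]
    simp
  have h2 : ψ ≫ φ = 𝟙 M := by
    apply (hM.2.2.2 M sM).1
    dsimp only
    rw [Functor.map_comp, hφ, hψ]
    simp
  have h3 : IsMonHom φ := by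
    refine Groth.Agent.Sga3B.Pts.isMonHom_of_universal φ ?_
    have sNN : Smooth (N ⊗ N).hom := by
      change Smooth (pullback.fst N.hom N.hom ≫ N.hom)
      infer_instance
    apply (hM.2.2.2 (N ⊗ N) sNN).1
    dsimp only
    have h4 : IsMonHom (e.hom ≫ eM.inv) := inferInstance
    rw [Functor.map_comp, hφ, Functor.map_mul, Functor.map_mul, MonObj.mul_comp, Functor.map_comp, Functor.map_comp,
      hφ]
  have h5 : IsIso φ := ⟨ψ, h1, h2⟩
  refine ⟨T, hT, i ≫ (Over.pullback (cl R')).map φ, inferInstance, ?_, k5⟩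
  rw [Over.comp_left]
  infer_instance

end Mult

section Main

theorem isAlgClosed_residueField (R R' : Type u) [CommRing R] [IsLocalRing R] [CommRing R'] [IsLocalRing R']
    [Algebra R R'] [Module.Finite R R'] [FaithfulSMul R R'] [IsAlgClosed (IsLocalRing.ResidueField R)] :
    IsAlgClosed (IsLocalRing.ResidueField R') := by
  have : IsLocalHom (algebraMap R R') :=
    (algebraMap_isIntegral_iff.mpr inferInstance).isLocalHom (FaithfulSMul.algebraMap_injective R R')
  have h1 : Module.Finite (IsLocalRing.ResidueField R) (IsLocalRing.ResidueField R') := by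
    have : Module.Finite R (IsLocalRing.ResidueField R') :=
      Module.Finite.of_surjective (IsScalarTower.toAlgHom R R' (IsLocalRing.ResidueField R')).toLinearMap
        IsLocalRing.residue_surjective
    exact Module.Finite.of_restrictScalars_finite R _ _
  have h2 : Function.Bijective (algebraMap (IsLocalRing.ResidueField R) (IsLocalRing.ResidueField R')) :=
    IsAlgClosed.algebraMap_bijective_of_isIntegral
  exact IsAlgClosed.of_ringEquiv _ _ (RingEquiv.ofBijective _ h2)

variable (R R' K L : Type u) [CommRing R] [CommRing R'] [IsIntegrallyClosed R'] [IsLocalRing R']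
  [Algebra R R'] [Module.Finite R R'] [Field K] [Field L] [Algebra R K] [IsFractionRing R K] [Algebra R' L]
  [IsFractionRing R' L] [Algebra K L] [Algebra R L] [IsScalarTower R K L] [IsScalarTower R R' L]

include R

/-- Purely multiplicative reduction is invariant under the automorphisms of `L / K`. -/
theorem Mult.conj [FiniteDimensional K L] {E : Over (Spec (CommRingCat.of L))} [GrpObj E] (h : Mult R' L E) (σ : L ≃ₐ[K] L) :
    Mult R' L (Red.bc (GalWeil.conj σ) E) := by
  have hcl : IsIntegralClosure R' R L := inferInstance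
  let φ : R' ≃ₐ[R] R' := galRestrict R K L R' σ
  have hφ : ∀ x, algebraMap R' L (φ x) = σ (algebraMap R' L x) := algebraMap_galRestrict_apply R σ
  have i1 : IsIso (CommRingCat.ofHom (φ : R' →+* R')) := (RingEquiv.toCommRingCatIso φ.toRingEquiv).isIso_hom
  have i2 : IsIso (CommRingCat.ofHom (σ : L →+* L)) := (RingEquiv.toCommRingCatIso σ.toRingEquiv).isIso_hom
  have i3 : IsLocalHom (φ : R' →+* R') := ⟨fun a ha => (MulEquiv.isUnit_map φ).mp ha⟩
  refine h.bc (Spec.map (CommRingCat.ofHom (φ : R' →+* R'))) (GalWeil.conj σ)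
    (Spec.map (CommRingCat.ofHom (IsLocalRing.ResidueField.map (φ : R' →+* R')))) ?_ ?_
  · rw [GalWeil.conj, ← Spec.map_comp, ← Spec.map_comp, ← CommRingCat.ofHom_comp, ← CommRingCat.ofHom_comp]
    congr 2
    refine RingHom.ext fun x => ?_
    exact (hφ x).symm
  · rw [cl, ← Spec.map_comp, ← Spec.map_comp, ← CommRingCat.ofHom_comp, ← CommRingCat.ofHom_comp]
    rfl

/-- **Weil restrictions of purely multiplicative reduction.** -/
theorem Mult.weil [IsAlgClosed (IsLocalRing.ResidueField R')] [FiniteDimensional K L] [IsGalois K L]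
    {E : Over (Spec (CommRingCat.of L))} [GrpObj E] (h : Mult R' L E) {A : Over (Spec (CommRingCat.of K))} [GrpObj A]
    (q : Red.bc (Spec.map (CommRingCat.ofHom (algebraMap K L))) A ⟶ E) [IsMonHom q]
    (hA : WeilRes.IsWeilRes (Spec.map (CommRingCat.ofHom (algebraMap K L))) E A q) :
    Mult R' L (Red.bc (Spec.map (CommRingCat.ofHom (algebraMap K L))) A) := by
  obtain ⟨P, hP, p, h1, h2, h3⟩ := Mult.pi (R' := R') (L := L) (L ≃ₐ[K] L)
    (fun σ => Red.bc (GalWeil.conj σ) E) (fun σ => h.conj R R' K L σ)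
  have h4 := GalWeil.bijective_comp K L hA
  obtain ⟨f, hf⟩ := (h4 P).2 p
  obtain ⟨g, hg⟩ := (h2 (Red.bc (Spec.map (CommRingCat.ofHom (algebraMap K L))) A)).2 (fun σ => GalWeil.comp q σ)
  have hf' : ∀ σ, f ≫ GalWeil.comp q σ = p σ := fun σ => congrFun hf σ
  have hg' : ∀ σ, g ≫ p σ = GalWeil.comp q σ := fun σ => congrFun hg σ
  let e : P ≅ Red.bc (Spec.map (CommRingCat.ofHom (algebraMap K L))) A :=
    { hom := f
      inv := g
      hom_inv_id := by
        apply (h2 P).1
        funext σ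
        dsimp only
        rw [Category.assoc, hg', hf', Category.id_comp]
      inv_hom_id := by
        apply (h4 _).1
        funext σ
        dsimp only
        rw [Category.assoc, hf', hg', Category.id_comp] }
  have he : IsMonHom e.hom := by
    refine Groth.Agent.Sga3B.Pts.isMonHom_of_points f fun X x y => ?_
    apply (h4 X).1
    funext σ
    dsimp only
    have := h1 σ
    rw [Category.assoc, hf', MonObj.mul_comp, MonObj.mul_comp, Category.assoc, Category.assoc, hf']
  exact h3.of_iso e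

end Main

end K491.MultRed
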