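import Groth.Agent.S3023
import Groth.Agent.S0352
import Groth.Agent.Grpsch.MulFinFlat
import Groth.Agent.Sga7.H760.FieldHom
import Groth.Agent.Flat2B.SmoothGeom
import Mathlib.AlgebraicGeometry.Morphisms.FlatMono

/-!
# Flat homomorphisms and identity components
-/

set_option autoImplicit false

universe u

open CategoryTheory CategoryTheory.Limits MonoidalCategory CartesianMonoidalCategory MonObj GrpObj
  AlgebraicGeometry

namespace K491.NeutFlat

open Groth.Agent Groth.Agent.Sga3C.FlatPt

variable {k : Type u} [Field k]

/-- The identity component of an algebraic group (an open and closed subgroup). -/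
theorem exists_neutral (G : Over (Spec (CommRingCat.of k))) [GrpObj G] [LocallyOfFiniteType G.hom] :
    ∃ (U : Over (Spec (CommRingCat.of k))) (_ : GrpObj U) (u : U ⟶ G), IsMonHom u ∧
      IsClosedImmersion u.left ∧ IsOpenImmersion u.left ∧
      ConnectedSpace U.left ∧ ∀ x, Set.range u.left = connectedComponent (η[G].left.base x) := by
  obtain ⟨U, _, u, hu, hcl, hfl, hr⟩ := S3023.result k G
  have hN : IsLocallyNoetherian G.left := LocallyOfFiniteType.isLocallyNoetherian G.hom
  have hlfp : LocallyOfFinitePresentation u.left := inferInstance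
  have hop : IsOpenImmersion u.left := IsOpenImmersion.of_flat_of_mono u.left
  refine ⟨U, inferInstance, u, hu, hcl, hop, ?_, hr⟩
  have h1 : _root_.IsConnected (Set.range u.left) := by
    have := hr (IsLocalRing.closedPoint k)
    change Set.range u.left = _ at this
    rw [this]
    exact isConnected_connectedComponent
  have h2 : _root_.IsConnected (Set.univ : Set U.left) := by
    have h3 := (u.left.isEmbedding.isInducing.isPreconnected_image (s := (Set.univ : Set U.left))).1
      (by rw [Set.image_univ]; exact h1.2)
    refine ⟨?_, h3⟩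
    obtain ⟨x, y, rfl⟩ := h1.1
    exact ⟨y, trivial⟩
  exact connectedSpace_iff_univ.2 h2

/-- A homomorphism `f` maps the identity component onto the identity component if it is flat. -/
theorem image_eq_of_flat {G H : Over (Spec (CommRingCat.of k))} [GrpObj G] [GrpObj H]
    [LocallyOfFiniteType G.hom] [LocallyOfFiniteType H.hom] (f : G ⟶ H) [IsMonHom f] [Flat f.left]
    (x : Spec (CommRingCat.of k)) :
    f.left.base '' connectedComponent (η[G].left.base x) =
      connectedComponent (η[H].left.base x) := by
  obtain ⟨U, _, u, hu, -, hop, hconn, hr⟩ := exists_neutral G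
  have hN : IsLocallyNoetherian H.left := LocallyOfFiniteType.isLocallyNoetherian H.hom
  have hlft : LocallyOfFiniteType f.left := by
    have : LocallyOfFiniteType (f.left ≫ H.hom) := by rw [Over.w]; infer_instance
    exact locallyOfFiniteType_of_comp _ H.hom
  have hlfp : LocallyOfFinitePresentation f.left := inferInstance
  have hr' : Set.range u.left = connectedComponent (η[G].left.base x) := hr x
  have himg : f.left.base '' connectedComponent (η[G].left.base x) =
      Set.range (u ≫ f : U ⟶ H).left := by
    rw [← hr', Over.comp_left, Scheme.Hom.comp_base, TopCat.coe_comp, Set.range_comp]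
  have hη : f.left.base (η[G].left.base x) = η[H].left.base x := by
    have h1 : η[G] ≫ f = η[H] := IsMonHom.one_hom f
    rw [← h1]
    rfl
  have hmem : η[H].left.base x ∈ Set.range (u ≫ f : U ⟶ H).left := by
    rw [← himg, ← hη]
    exact ⟨_, mem_connectedComponent, rfl⟩
  have hflat : Flat (u ≫ f : U ⟶ H).left := by
    rw [Over.comp_left]; infer_instance
  have hlfp' : LocallyOfFinitePresentation (u ≫ f : U ⟶ H).left := by
    rw [Over.comp_left]; infer_instance
  have ho : IsOpen (Set.range (u ≫ f : U ⟶ H).left) := (u ≫ f : U ⟶ H).left.isOpenMap.isOpen_range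
  have hcl : IsClosed (Set.range (u ≫ f : U ⟶ H).left) := S0352.result k U H (u ≫ f) ho
  rw [himg]
  apply Set.Subset.antisymm
  · refine IsPreconnected.subset_connectedComponent ?_ hmem
    exact isPreconnected_range (u ≫ f : U ⟶ H).left.continuous
  · exact IsClopen.connectedComponent_subset ⟨hcl, ho⟩ hmem

/-- If a homomorphism of smooth groups maps the identity component onto the identity component
then it is flat. -/
theorem flat_of_image_eq {G H : Over (Spec (CommRingCat.of k))} [GrpObj G] [GrpObj H]
    [LocallyOfFiniteType G.hom] [QuasiCompact G.hom] [Smooth H.hom] (f : G ⟶ H) [IsMonHom f]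
    (x : Spec (CommRingCat.of k))
    (h : f.left.base '' connectedComponent (η[G].left.base x) =
      connectedComponent (η[H].left.base x)) : Flat f.left := by
  obtain ⟨U, _, u, hu, hucl, hop, hconn, hr⟩ := exists_neutral G
  obtain ⟨V, _, v, hv, hvcl, hop', hconn', hr'⟩ := exists_neutral H
  have h1 : Set.range (u ≫ f : U ⟶ H).left = Set.range v.left := by
    have h2 : Set.range v.left = connectedComponent (η[H].left.base x) := hr' x
    have h3 : Set.range u.left = connectedComponent (η[G].left.base x) := hr x
    rw [h2, ← h, ← h3, Over.comp_left, Scheme.Hom.comp_base, TopCat.coe_comp, Set.range_comp]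
  let q : U ⟶ V := Over.homMk (IsOpenImmersion.lift v.left (u ≫ f).left h1.le) (by
    rw [← Over.w v, ← Category.assoc, IsOpenImmersion.lift_fac]
    exact Over.w _)
  have hq : q ≫ v = u ≫ f := by
    ext1
    exact IsOpenImmersion.lift_fac _ _ _
  have hmono : Mono v := by
    have : Mono v.left := inferInstance
    exact (Over.forget _).mono_of_mono_map this
  have hqm : IsMonHom q := by
    constructor
    · rw [← cancel_mono v, Category.assoc, hq, IsMonHom.one_hom, IsMonHom.one_hom]
    · rw [← cancel_mono v, Category.assoc, hq, IsMonHom.mul_hom, Category.assoc, IsMonHom.mul_hom,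
        ← Category.assoc, tensorHom_comp_tensorHom, hq]
  have hsurj : Surjective q.left := by
    refine ⟨fun y => ?_⟩
    have h2 : v.left y ∈ Set.range (u ≫ f : U ⟶ H).left := by
      rw [h1]; exact ⟨y, rfl⟩
    obtain ⟨z, hz⟩ := h2
    refine ⟨z, v.left.injective ?_⟩
    rw [← Scheme.Hom.comp_apply, ← Over.comp_left, hq]
    exact hz
  have hsm : Smooth V.hom := by
    rw [← Over.w v]; infer_instance
  have hred : IsReduced V.left := Flat2B.SmoothGeom.isReduced_of_smooth V.hom
  have hN : IsLocallyNoetherian V.left := LocallyOfFiniteType.isLocallyNoetherian V.hom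
  have hqcU : QuasiCompact U.hom := by
    rw [← Over.w u]; infer_instance
  have hlftU : LocallyOfFiniteType U.hom := by
    rw [← Over.w u]; infer_instance
  have hqc : QuasiCompact q.left := Sga7.H760.FieldHom.quasiCompact_left q
  have hqf : Flat q.left := Grpsch.MulFinFlat.flat_of_surjective k q
  have hfl : Flat (u.left ≫ f.left) := by
    rw [← Over.comp_left, ← hq, Over.comp_left]; infer_instance
  obtain ⟨y⟩ : Nonempty U.left := inferInstance
  exact Sga7.H760.FieldHom.flat_of_isFlatAt f (u.left y)
    (IsFlatAt.of_comp (isFlatAt_of_flat _ y) (isFlatAt_of_flat _ y))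

theorem flat_iff_image_eq {G H : Over (Spec (CommRingCat.of k))} [GrpObj G] [GrpObj H]
    [LocallyOfFiniteType G.hom] [QuasiCompact G.hom] [Smooth H.hom] (f : G ⟶ H) [IsMonHom f]
    (x : Spec (CommRingCat.of k)) : Flat f.left ↔
    f.left.base '' connectedComponent (η[G].left.base x) =
      connectedComponent (η[H].left.base x) :=
  ⟨fun _ => image_eq_of_flat f x, flat_of_image_eq f x⟩

end K491.NeutFlat
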