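import Groth.Prelude.Def_AlgGrp
import Mathlib.AlgebraicGeometry.Stalk
import Mathlib.AlgebraicGeometry.Group.Abelian
import Mathlib.Algebra.Group.ForwardDiff
import Mathlib.Data.Nat.Choose.Dvd
import Mathlib.RingTheory.Localization.AtPrime.Basic
import Mathlib.RingTheory.LocalRing.ResidueField.Basic

/-!
# Finite differences of functions along a point reducing to the identity

Let `N` be a group scheme over `Spec R`, `Spec B ⟶ N` an affine chart containing the unit section over a
local ring `R`. A point `z` of `N` with values in a local `R`-algebra `C` is centered if its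
reduction to the residue field of `C` is the identity; it corresponds to a ring homomorphism
`phi z : B → C`, and we let `aId z` be the ideal of `C` generated by the image under `phi z` of the
kernel `J` of `B → R`, the homomorphism attached to the unit section.  We show that the `j`-th
finite difference at `0` of `n ↦ f(y zⁿ)` lies in `(aId z) ^ j`.
-/

set_option autoImplicit false

universe u

open CategoryTheory CategoryTheory.Limits MonoidalCategory CartesianMonoidalCategory MonObj GrpObj
  AlgebraicGeometry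
open scoped TensorProduct

namespace K491.NewtonPt

variable {R : Type u} [CommRing R]

/-- `Spec C` as a scheme over `Spec R`. -/
noncomputable abbrev tb (R C : Type u) [CommRing R] [CommRing C] [Algebra R C] :
    Over (Spec (CommRingCat.of R)) :=
  Over.mk (Spec.map (CommRingCat.ofHom (algebraMap R C)))

/-- The morphism attached to a homomorphism of `R`-algebras. -/
noncomputable def sp {C C' : Type u} [CommRing C] [CommRing C'] [Algebra R C] [Algebra R C']
    (g : C →ₐ[R] C') : tb R C' ⟶ tb R C :=
  Over.homMk (Spec.map (CommRingCat.ofHom g.toRingHom)) (by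
    change Spec.map _ ≫ Spec.map _ = Spec.map _
    rw [← Spec.map_comp, ← CommRingCat.ofHom_comp]
    congr 2
    exact g.comp_algebraMap)

/-- The residue map. -/
noncomputable def res (R C : Type u) [CommRing R] [CommRing C] [Algebra R C] [IsLocalRing C] :
    C →ₐ[R] IsLocalRing.ResidueField C :=
  IsScalarTower.toAlgHom R C (IsLocalRing.ResidueField C)

lemma res_eq_zero_iff (C : Type u) [CommRing C] [Algebra R C] [IsLocalRing C] (c : C) :
    res R C c = 0 ↔ c ∈ IsLocalRing.maximalIdeal C := IsLocalRing.residue_eq_zero_iff c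

/-- An affine chart around the unit section of a group scheme over a local ring. -/
structure Chart (N : Over (Spec (CommRingCat.of R))) [GrpObj N] where
  B : Type u
  [ring : CommRing B]
  [alg : Algebra R B]
  j : Spec (CommRingCat.of B) ⟶ N.left
  [isOpen : IsOpenImmersion j]
  w : j ≫ N.hom = Spec.map (CommRingCat.ofHom (algebraMap R B))
  π : B →ₐ[R] R
  η_eq : (η[N] : 𝟙_ (Over (Spec (CommRingCat.of R))) ⟶ N).left =
    Spec.map (CommRingCat.ofHom π.toRingHom) ≫ j

attribute [local instance] Chart.ring Chart.alg Chart.isOpen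

variable {N : Over (Spec (CommRingCat.of R))} [GrpObj N] (K : Chart N)

/-- A point reducing to the identity. -/
def Cent {C : Type u} [CommRing C] [Algebra R C] [IsLocalRing C] (y : tb R C ⟶ N) : Prop :=
  sp (res R C) ≫ y = 1

section

variable {C : Type u} [CommRing C] [Algebra R C]

lemma one_left : (1 : tb R C ⟶ N).left =
    Spec.map (CommRingCat.ofHom ((Algebra.ofId R C).comp K.π).toRingHom) ≫ K.j := by
  have h1 : (1 : tb R C ⟶ N).left =
      Spec.map (CommRingCat.ofHom (algebraMap R C)) ≫
        (η[N] : 𝟙_ (Over (Spec (CommRingCat.of R))) ⟶ N).left := by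
    have h2 : (1 : tb R C ⟶ N) = toUnit _ ≫ η[N] := rfl
    rw [h2, Over.comp_left]
    congr 1
  rw [h1, K.η_eq, ← Category.assoc, ← Spec.map_comp, ← CommRingCat.ofHom_comp]
  rfl

lemma eq_of_left {y : tb R C ⟶ N} {φ ψ : K.B →+* C}
    (h1 : y.left = Spec.map (CommRingCat.ofHom φ) ≫ K.j)
    (h2 : y.left = Spec.map (CommRingCat.ofHom ψ) ≫ K.j) : φ = ψ := by
  have h3 := h1.symm.trans h2
  rw [cancel_mono] at h3
  exact congrArg CommRingCat.Hom.hom (Spec.map_injective h3)

lemma exists_algHom {y : tb R C ⟶ N} {φ : K.B →+* C}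
    (h1 : y.left = Spec.map (CommRingCat.ofHom φ) ≫ K.j) :
    ∃ ψ : K.B →ₐ[R] C, y.left = Spec.map (CommRingCat.ofHom ψ.toRingHom) ≫ K.j := by
  have h2 : φ.comp (algebraMap R K.B) = algebraMap R C := by
    have h3 : y.left ≫ N.hom = Spec.map (CommRingCat.ofHom (algebraMap R C)) := Over.w y
    rw [h1, Category.assoc, K.w, ← Spec.map_comp, ← CommRingCat.ofHom_comp] at h3
    exact congrArg CommRingCat.Hom.hom (Spec.map_injective h3)
  exact ⟨{ φ with commutes' := fun r => RingHom.congr_fun h2 r }, h1⟩

end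

section

variable {C : Type u} [CommRing C] [Algebra R C] [IsLocalRing C]

lemma Cent.one : Cent (1 : tb R C ⟶ N) := MonObj.comp_one _

lemma Cent.mul {y z : tb R C ⟶ N} (hy : Cent y) (hz : Cent z) : Cent (y * z) := by
  rw [Cent, MonObj.comp_mul, hy, hz, _root_.mul_one]

lemma Cent.pow {y : tb R C ⟶ N} (hy : Cent y) (n : ℕ) : Cent (y ^ n) := by
  induction n with
  | zero => rw [pow_zero]; exact Cent.one
  | succ n ih => rw [pow_succ]; exact ih.mul hy

variable {C' : Type u} [CommRing C'] [Algebra R C'] [IsLocalRing C']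

omit [IsLocalRing C] [IsLocalRing C'] in
lemma sp_comp {C'' : Type u} [CommRing C''] [Algebra R C''] (g : C →ₐ[R] C') (g' : C' →ₐ[R] C'') :
    sp g' ≫ sp g = sp (g'.comp g) := by
  ext1
  change Spec.map _ ≫ Spec.map _ = Spec.map _
  rw [← Spec.map_comp, ← CommRingCat.ofHom_comp]
  rfl

omit [IsLocalRing C] in
lemma sp_id : sp (AlgHom.id R C) = 𝟙 _ := by
  ext1
  exact Spec.map_id _

lemma Cent.comp {y : tb R C ⟶ N} (hy : Cent y) (g : C →ₐ[R] C') [IsLocalHom g.toRingHom] :
    Cent (sp g ≫ y) := by
  let g' : IsLocalRing.ResidueField C →ₐ[R] IsLocalRing.ResidueField C' :=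
    { IsLocalRing.ResidueField.map g.toRingHom with
      commutes' := fun r => by
        change IsLocalRing.ResidueField.map g.toRingHom
          (IsLocalRing.residue C (algebraMap R C r)) = IsLocalRing.residue C' (algebraMap R C' r)
        rw [IsLocalRing.ResidueField.map_residue]
        congr 1
        exact g.commutes r }
  have h1 : (res R C').comp g = g'.comp (res R C) := by
    ext c
    exact (IsLocalRing.ResidueField.map_residue g.toRingHom c).symm
  rw [Cent, ← Category.assoc, sp_comp, h1, ← sp_comp, Category.assoc, hy, MonObj.comp_one]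

include K in
lemma Cent.exists_phi {y : tb R C ⟶ N} (hy : Cent y) :
    ∃ ψ : K.B →ₐ[R] C, y.left = Spec.map (CommRingCat.ofHom ψ.toRingHom) ≫ K.j := by
  have h1 : y.left (IsLocalRing.closedPoint C) ∈ Set.range K.j := by
    have h2 : (sp (res R C) ≫ y).left (IsLocalRing.closedPoint (IsLocalRing.ResidueField C)) =
        y.left (IsLocalRing.closedPoint C) := by
      change y.left (Spec.map _ _) = _
      congr 1
      exact IsLocalRing.comap_closedPoint (IsLocalRing.residue C)
    rw [← h2, hy, one_left K]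
    exact ⟨_, rfl⟩
  have h2 : Set.range y.left ⊆ Set.range K.j := by
    rintro _ ⟨z, rfl⟩
    have h1' : y.left z ⤳ y.left (IsLocalRing.closedPoint C) :=
      (IsLocalRing.specializes_closedPoint (R := C) z).map y.left.continuous
    exact h1'.mem_open K.j.opensRange.2 h1
  obtain ⟨φ, hφ⟩ := Spec.map_surjective (IsOpenImmersion.lift K.j y.left h2)
  exact exists_algHom K (φ := φ.hom) (by
    have : Spec.map φ ≫ K.j = y.left := by rw [hφ, IsOpenImmersion.lift_fac]
    exact this.symm)

/-- The homomorphism attached to a centered point. -/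
noncomputable def phi {y : tb R C ⟶ N} (hy : Cent y) : K.B →ₐ[R] C := (hy.exists_phi K).choose

lemma phi_spec {y : tb R C ⟶ N} (hy : Cent y) :
    y.left = Spec.map (CommRingCat.ofHom (phi K hy).toRingHom) ≫ K.j :=
  (hy.exists_phi K).choose_spec

lemma phi_eq {y : tb R C ⟶ N} (hy : Cent y) {ψ : K.B →ₐ[R] C}
    (h : y.left = Spec.map (CommRingCat.ofHom ψ.toRingHom) ≫ K.j) : phi K hy = ψ := by
  have := eq_of_left K (phi_spec K hy) h
  ext b
  exact RingHom.congr_fun this b

lemma phi_one (h : Cent (1 : tb R C ⟶ N)) : phi K h = (Algebra.ofId R C).comp K.π :=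
  phi_eq K h (one_left K)

lemma phi_comp {y : tb R C ⟶ N} (hy : Cent y) (g : C →ₐ[R] C') [IsLocalHom g.toRingHom] :
    phi K (hy.comp g) = g.comp (phi K hy) := by
  apply phi_eq
  rw [Over.comp_left, phi_spec K hy, ← Category.assoc]
  congr 1
  change Spec.map _ ≫ Spec.map _ = Spec.map _
  rw [← Spec.map_comp, ← CommRingCat.ofHom_comp]
  rfl

lemma phi_mem {y : tb R C ⟶ N} (hy : Cent y) (b : K.B) (hb : K.π b = 0) :
    phi K hy b ∈ IsLocalRing.maximalIdeal C := by
  rw [← res_eq_zero_iff (R := R)]
  have h1 : (1 : tb R (IsLocalRing.ResidueField C) ⟶ N).left =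
      Spec.map (CommRingCat.ofHom ((res R C).comp (phi K hy)).toRingHom) ≫ K.j := by
    rw [← hy, Over.comp_left, phi_spec K hy, ← Category.assoc]
    congr 1
    change Spec.map _ ≫ Spec.map _ = Spec.map _
    rw [← Spec.map_comp, ← CommRingCat.ofHom_comp]
    rfl
  have h2 := RingHom.congr_fun (eq_of_left K h1 (one_left K)) b
  change res R C (phi K hy b) = algebraMap R _ (K.π b) at h2
  rw [h2, hb, map_zero]

/-- The value of a function at a centered point. -/
noncomputable def ev (y : tb R C ⟶ N) (f : K.B) : C :=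
  open Classical in if h : Cent y then phi K h f else 0

lemma ev_eq {y : tb R C ⟶ N} (hy : Cent y) (f : K.B) : ev K y f = phi K hy f := dif_pos hy

/-- The ideal attached to a centered point. -/
noncomputable def aId {y : tb R C ⟶ N} (hy : Cent y) : Ideal C :=
  Ideal.map (phi K hy) (RingHom.ker K.π)

open fwdDiff in
/-- The finite differences. -/
noncomputable def D (z : tb R C ⟶ N) (f : K.B) (n : ℕ) (y : tb R C ⟶ N) : C :=
  Δ_[1]^[n] (fun i : ℕ => ev K (y * z ^ i) f) 0

lemma D_zero (z : tb R C ⟶ N) (f : K.B) (y : tb R C ⟶ N) : D K z f 0 y = ev K y f := by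
  simp [D]

lemma D_succ (z : tb R C ⟶ N) (f : K.B) (n : ℕ) (y : tb R C ⟶ N) :
    D K z f (n + 1) y = D K z f n (y * z) - D K z f n y := by
  rw [D, Function.iterate_succ', Function.comp_apply, fwdDiff]
  congr 1
  have h := fwdDiff_iter_comp_add 1 (fun i : ℕ => ev K (y * z ^ i) f) 1 n 0
  have h2 : (fun i : ℕ => ev K (y * z * z ^ i) f) = fun i : ℕ => ev K (y * z ^ (i + 1)) f := by
    funext i
    rw [pow_succ', _root_.mul_assoc]
  rw [D, h2]
  exact h.symm

lemma ev_comp {y : tb R C ⟶ N} (hy : Cent y) (g : C →ₐ[R] C') [IsLocalHom g.toRingHom] (f : K.B) :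
    ev K (sp g ≫ y) f = g (ev K y f) := by
  rw [ev_eq K hy, ev_eq K (hy.comp g), phi_comp]
  rfl

lemma D_comp {z y : tb R C ⟶ N} (hz : Cent z) (hy : Cent y) (g : C →ₐ[R] C')
    [IsLocalHom g.toRingHom] (f : K.B) (n : ℕ) :
    D K (sp g ≫ z) f n (sp g ≫ y) = g (D K z f n y) := by
  induction n generalizing y with
  | zero => rw [D_zero, D_zero, ev_comp K hy]
  | succ n ih => rw [D_succ, D_succ, map_sub, ← ih hy, ← ih (hy.mul hz), MonObj.comp_mul]

end

section univ

variable (C : Type u) [CommRing C] [Algebra R C] [IsLocalRing C]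

/-- The point of `Spec (C ⊗ B)` given by the closed point of `C` and the unit section. -/
noncomputable def theta : C ⊗[R] K.B →ₐ[R] IsLocalRing.ResidueField C :=
  Algebra.TensorProduct.lift (res R C) ((Algebra.ofId R _).comp K.π) (fun _ _ => Commute.all _ _)

instance : (RingHom.ker (theta K C)).IsPrime := RingHom.ker_isPrime _

/-- The local ring of `Spec (C ⊗ B)` at this point. -/
abbrev Loc : Type u := Localization.AtPrime (RingHom.ker (theta K C))

/-- The inclusion of `C`. -/
noncomputable def i0 : C →ₐ[R] Loc K C :=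
  (IsScalarTower.toAlgHom R (C ⊗[R] K.B) (Loc K C)).comp Algebra.TensorProduct.includeLeft

/-- The universal point. -/
noncomputable def u : K.B →ₐ[R] Loc K C :=
  (IsScalarTower.toAlgHom R (C ⊗[R] K.B) (Loc K C)).comp Algebra.TensorProduct.includeRight

lemma theta_iff (x : C ⊗[R] K.B) : algebraMap _ (Loc K C) x ∈ IsLocalRing.maximalIdeal _ ↔
    theta K C x = 0 := by
  rw [IsLocalization.AtPrime.to_map_mem_maximal_iff (Loc K C) (RingHom.ker (theta K C))]
  rfl

instance : IsLocalHom (i0 K C).toRingHom := by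
  refine ⟨fun a ha => ?_⟩
  by_contra h
  have h1 : a ∈ IsLocalRing.maximalIdeal C := h
  have h2 : theta K C (a ⊗ₜ 1) = 0 := by
    rw [theta, Algebra.TensorProduct.lift_tmul, (res_eq_zero_iff (R := R) C a).2 h1, zero_mul]
  have h3 := (theta_iff K C _).2 h2
  exact h3 ha

/-- The universal point. -/
noncomputable def Z : tb R (Loc K C) ⟶ N :=
  Over.homMk (Spec.map (CommRingCat.ofHom (u K C).toRingHom) ≫ K.j) (by
    change (Spec.map _ ≫ K.j) ≫ N.hom = Spec.map _
    rw [Category.assoc, K.w, ← Spec.map_comp, ← CommRingCat.ofHom_comp]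
    congr 2
    exact (u K C).comp_algebraMap)

lemma cent_Z : Cent (Z K C) := by
  rw [Cent]
  ext1
  rw [one_left K, Over.comp_left]
  change Spec.map _ ≫ Spec.map _ ≫ K.j = _
  rw [← Category.assoc, ← Spec.map_comp, ← CommRingCat.ofHom_comp]
  congr 3
  ext b
  change res R (Loc K C) (u K C b) = algebraMap R _ (K.π b)
  have h1 : res R (Loc K C) (u K C b - u K C (algebraMap R K.B (K.π b))) = 0 := by
    rw [res_eq_zero_iff, ← map_sub]
    change algebraMap _ (Loc K C) ((1 : C) ⊗ₜ[R] (b - algebraMap R K.B (K.π b))) ∈ _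
    rw [theta_iff, theta, Algebra.TensorProduct.lift_tmul]
    have : K.π (b - algebraMap R K.B (K.π b)) = 0 := by
      rw [map_sub, AlgHom.commutes]
      simp
    change _ * algebraMap R _ (K.π (b - algebraMap R K.B (K.π b))) = 0
    rw [this, map_zero, mul_zero]
  rw [map_sub, sub_eq_zero] at h1
  rw [h1, AlgHom.commutes, AlgHom.commutes]

variable {C}

lemma isUnit_lift {v : tb R C ⟶ N} (hv : Cent v) (y : (RingHom.ker (theta K C)).primeCompl) :
    IsUnit (Algebra.TensorProduct.lift (AlgHom.id R C) (phi K hv) (fun _ _ => Commute.all _ _)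
      (y : C ⊗[R] K.B)) := by
  have h1 : (res R C).comp (Algebra.TensorProduct.lift (AlgHom.id R C) (phi K hv)
      (fun _ _ => Commute.all _ _)) = theta K C := by
    apply Algebra.TensorProduct.ext
    · ext c
      simp [theta]
    · ext b
      have h2 : res R C (phi K hv b - phi K hv (algebraMap R K.B (K.π b))) = 0 := by
        rw [res_eq_zero_iff, ← map_sub]
        apply phi_mem
        rw [map_sub, AlgHom.commutes]
        simp
      rw [map_sub, sub_eq_zero] at h2
      simp only [theta, AlgHom.comp_apply, Algebra.TensorProduct.includeRight_apply,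
        Algebra.TensorProduct.lift_tmul, map_one, _root_.one_mul, AlgHom.restrictScalars_apply]
      rw [h2, AlgHom.commutes, AlgHom.commutes]
      rfl
  by_contra h
  apply y.2
  have h2 := (res_eq_zero_iff (R := R) C _).2 h
  have h3 := DFunLike.congr_fun h1 (y : C ⊗[R] K.B)
  exact h3.symm.trans h2

/-- The specialization of the universal point to `v`. -/
noncomputable def rho {v : tb R C ⟶ N} (hv : Cent v) : Loc K C →ₐ[R] C :=
  IsLocalization.liftAlgHom (M := (RingHom.ker (theta K C)).primeCompl)
    (f := Algebra.TensorProduct.lift (AlgHom.id R C) (phi K hv) (fun _ _ => Commute.all _ _))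
    (isUnit_lift K hv)

lemma rho_i0 {v : tb R C ⟶ N} (hv : Cent v) : (rho K hv).comp (i0 K C) = AlgHom.id R C := by
  ext c
  change IsLocalization.lift _ (algebraMap _ _ (c ⊗ₜ[R] (1 : K.B))) = c
  rw [IsLocalization.lift_eq]
  simp

lemma rho_u {v : tb R C ⟶ N} (hv : Cent v) : (rho K hv).comp (u K C) = phi K hv := by
  ext b
  change IsLocalization.lift _ (algebraMap _ _ ((1 : C) ⊗ₜ[R] b)) = phi K hv b
  rw [IsLocalization.lift_eq]
  simp

instance {v : tb R C ⟶ N} (hv : Cent v) : IsLocalHom (rho K hv).toRingHom := by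
  apply IsLocalHom.of_surjective
  intro c
  exact ⟨i0 K C c, DFunLike.congr_fun (rho_i0 K hv) c⟩

lemma rho_Z {v : tb R C ⟶ N} (hv : Cent v) : sp (rho K hv) ≫ Z K C = v := by
  ext1
  rw [phi_spec K hv, ← rho_u K hv]
  change Spec.map _ ≫ Spec.map _ ≫ K.j = _
  rw [← Category.assoc, ← Spec.map_comp, ← CommRingCat.ofHom_comp]
  rfl

lemma sp_rho_i0 {v : tb R C ⟶ N} (hv : Cent v) (y : tb R C ⟶ N) :
    sp (rho K hv) ≫ sp (i0 K C) ≫ y = y := by
  rw [← Category.assoc, sp_comp, rho_i0, sp_id, Category.id_comp]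

/-- Two specializations differ by the ideal of the point. -/
lemma rho_sub_mem {z : tb R C ⟶ N} (hz : Cent z) (g : Loc K C) :
    rho K hz g - rho K (Cent.one : Cent (1 : tb R C ⟶ N)) g ∈ aId K hz := by
  rw [← Ideal.Quotient.eq_zero_iff_mem, map_sub, sub_eq_zero]
  have h : ((Ideal.Quotient.mk (aId K hz)).comp (rho K hz).toRingHom) =
      (Ideal.Quotient.mk (aId K hz)).comp (rho K (Cent.one : Cent (1 : tb R C ⟶ N))).toRingHom := by
    apply IsLocalization.ringHom_ext (RingHom.ker (theta K C)).primeCompl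
    have h0 : (Ideal.Quotient.mkₐ R (aId K hz)).comp ((rho K hz).comp
        (IsScalarTower.toAlgHom R (C ⊗[R] K.B) (Loc K C))) =
        (Ideal.Quotient.mkₐ R (aId K hz)).comp ((rho K (Cent.one : Cent (1 : tb R C ⟶ N))).comp
        (IsScalarTower.toAlgHom R (C ⊗[R] K.B) (Loc K C))) := by
      apply Algebra.TensorProduct.ext'
      intro c b
      have e1 : ∀ {v : tb R C ⟶ N} (hv : Cent v), ((Ideal.Quotient.mkₐ R (aId K hz)).comp
          ((rho K hv).comp (IsScalarTower.toAlgHom R (C ⊗[R] K.B) (Loc K C)))) (c ⊗ₜ b) =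
          Ideal.Quotient.mk (aId K hz) (c * phi K hv b) := by
        intro v hv
        change Ideal.Quotient.mk (aId K hz) (IsLocalization.lift _ (algebraMap _ _ (c ⊗ₜ[R] b))) = _
        rw [IsLocalization.lift_eq]
        simp
      rw [e1, e1, Ideal.Quotient.eq, ← mul_sub, phi_one]
      refine Ideal.mul_mem_left _ _ ?_
      have h2 : phi K hz b - (Algebra.ofId R C).comp K.π b =
          phi K hz (b - algebraMap R K.B (K.π b)) := by
        rw [map_sub, AlgHom.commutes]
        rfl
      rw [h2]
      refine Ideal.mem_map_of_mem _ ?_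
      rw [RingHom.mem_ker, map_sub, AlgHom.commutes]
      simp
    exact RingHom.ext fun x => DFunLike.congr_fun h0 x
  exact RingHom.congr_fun h g

lemma aId_comp {z : tb R C ⟶ N} (hz : Cent z) {C' : Type u} [CommRing C'] [Algebra R C']
    [IsLocalRing C'] (g : C →ₐ[R] C') [IsLocalHom g.toRingHom] :
    aId K (hz.comp g) = (aId K hz).map g := by
  rw [aId, aId, phi_comp, Ideal.map_mapₐ]

theorem D_mem (f : K.B) (n : ℕ) : ∀ {C : Type u} [CommRing C] [Algebra R C] [IsLocalRing C]
    {z y : tb R C ⟶ N} (hz : Cent z) (_ : Cent y), D K z f n y ∈ (aId K hz) ^ n := by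
  induction n with
  | zero => intro C _ _ _ z y hz hy; simp
  | succ n ih =>
    intro C _ _ _ z y hz hy
    have hone : Cent (1 : tb R C ⟶ N) := Cent.one
    have hw := ih (hz.comp (i0 K C)) ((hy.comp (i0 K C)).mul (cent_Z K C))
    rw [aId_comp K hz (i0 K C), ← Ideal.map_pow] at hw
    have key : ∀ {v : tb R C ⟶ N} (hv : Cent v), D K z f n (y * v) =
        rho K hv (D K (sp (i0 K C) ≫ z) f n ((sp (i0 K C) ≫ y) * Z K C)) := by
      intro v hv
      rw [← D_comp K (hz.comp (i0 K C)) ((hy.comp (i0 K C)).mul (cent_Z K C)) (rho K hv),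
        MonObj.comp_mul, sp_rho_i0, sp_rho_i0, rho_Z]
    have h1 : D K z f (n + 1) y = D K z f n (y * z) - D K z f n (y * 1) := by
      rw [D_succ, _root_.mul_one]
    rw [h1, key hz, key hone]
    generalize D K (sp (i0 K C) ≫ z) f n ((sp (i0 K C) ≫ y) * Z K C) = w at hw
    have h2 : rho K hone w ∈ (aId K hz) ^ n ∧ rho K hz w - rho K hone w ∈ (aId K hz) ^ (n + 1) := by
      rw [Ideal.map] at hw
      induction hw using Submodule.span_induction with
      | mem x hx =>
        obtain ⟨a, ha, rfl⟩ := hx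
        have e1 : rho K hz (i0 K C a) = a := DFunLike.congr_fun (rho_i0 K hz) a
        have e2 : rho K hone (i0 K C a) = a := DFunLike.congr_fun (rho_i0 K hone) a
        rw [e1, e2, sub_self]
        exact ⟨ha, Ideal.zero_mem _⟩
      | zero => simp
      | add x y _ _ hx hy =>
        rw [map_add, map_add]
        refine ⟨Ideal.add_mem _ hx.1 hy.1, ?_⟩
        have := Ideal.add_mem _ hx.2 hy.2
        convert this using 1
        ring
      | smul g x _ hx =>
        rw [smul_eq_mul, map_mul, map_mul]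
        refine ⟨Ideal.mul_mem_left _ _ hx.1, ?_⟩
        have e1 := Ideal.mul_mem_left _ (rho K hz g) hx.2
        have e2 := Ideal.mul_mem_mul hx.1 (rho_sub_mem K hz g)
        rw [← pow_succ] at e2
        have := Ideal.add_mem _ e1 e2
        convert this using 1
        ring
    exact h2.2

end univ

section newton

variable {C : Type u} [CommRing C] [Algebra R C] [IsLocalRing C]

/-- The value of a function vanishing at the identity at the `p`-th power of a centered point. -/
theorem ev_pow_mem (p : ℕ) (hp : p.Prime) (z : tb R C ⟶ N) (hz : Cent z) (f : K.B) (hf : K.π f = 0) :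
    ∃ a ∈ (aId K hz) ^ 2, ∃ b ∈ (aId K hz) ^ p,
      ev K (z ^ p) f = p * phi K hz f + p * a + b := by
  have h1 := shift_eq_sum_fwdDiff_iter 1 (fun i : ℕ => ev K (1 * z ^ i) f) p 0
  have h2 : ev K (z ^ p) f = ∑ k ∈ Finset.range (p + 1), p.choose k • D K z f k 1 := by
    have h0 : ev K (1 * z ^ (0 + p • 1)) f = ev K (z ^ p) f := by simp
    exact h0.symm.trans h1
  rw [Finset.sum_range_succ, Nat.choose_self, one_smul] at h2
  have hone : Cent (1 : tb R C ⟶ N) := Cent.one
  have h3 : ∃ a ∈ (aId K hz) ^ 2, ∑ k ∈ Finset.range p, p.choose k • D K z f k 1 =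
      p * phi K hz f + p * a := by
    obtain ⟨m, rfl⟩ : ∃ m, p = m + 2 := ⟨p - 2, by have := hp.two_le; omega⟩
    rw [Finset.sum_range_succ', Finset.sum_range_succ']
    have h4 : ∀ k ∈ Finset.range m, ∃ a ∈ (aId K hz) ^ 2,
        (m + 2).choose (k + 1 + 1) • D K z f (k + 1 + 1) 1 = ((m + 2 : ℕ) : C) * a := by
      intro k hk
      rw [Finset.mem_range] at hk
      have h5 : (m + 2) ∣ (m + 2).choose (k + 1 + 1) :=
        Nat.Prime.dvd_choose_self hp (by omega) (by omega)
      obtain ⟨c, hc⟩ := h5
      refine ⟨c * D K z f (k + 1 + 1) 1, Ideal.mul_mem_left _ _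
        (Ideal.pow_le_pow_right (by omega) (D_mem K f (k + 1 + 1) hz hone)), ?_⟩
      rw [hc, nsmul_eq_mul, Nat.cast_mul, _root_.mul_assoc]
    choose! a ha ha' using h4
    refine ⟨∑ k ∈ Finset.range m, a k, Ideal.sum_mem _ ha, ?_⟩
    rw [Finset.sum_congr rfl ha', ← Finset.mul_sum]
    have h6 : D K z f (0 + 1) 1 = phi K hz f - 0 := by
      rw [D_succ, D_zero, D_zero, _root_.one_mul, ev_eq K hz, ev_eq K hone, phi_one]
      change _ - algebraMap R C (K.π f) = _
      rw [hf, map_zero]
    have h7 : D K z f 0 1 = 0 := by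
      rw [D_zero, ev_eq K hone, phi_one]
      change algebraMap R C (K.π f) = _
      rw [hf, map_zero]
    rw [h6, h7]
    simp
    ring
  obtain ⟨a, ha, h3⟩ := h3
  exact ⟨a, ha, _, D_mem K f p hz hone, by rw [h2, h3]⟩

end newton

end K491.NewtonPt
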