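import Groth.Agent.Neron.K491.PAHom
import Groth.Agent.Neron.K491.AlgPt
import Groth.Agent.Sga3B.GaPts
import Groth.Agent.Sga3.H783.GaGm
import Groth.Agent.RedSub.H635.GaSm
import Mathlib.Algebra.Polynomial.Roots

/-!
# Subgroups of `G_a ^ n` contained in pseudo-abelian varieties contain no lines
-/

set_option autoImplicit false
universe u

open CategoryTheory CategoryTheory.Limits AlgebraicGeometry MonObj MonoidalCategory CartesianMonoidalCategory

namespace K491.NoLine

open K491.PDefs K491.AlgPt Groth.Agent.Sga3B Groth.Agent.Sga3B.GaPts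

variable {K : Type u} [Field K]

theorem charP_Γ {T : Over (Spec (CommRingCat.of K))} (p : ℕ) [Fact p.Prime] [CharP K p] [Nontrivial Γ(T.left, ⊤)] :
    CharP Γ(T.left, ⊤) p := charP_of_injective_ringHom (str K T).injective p

/-- **No lines**: `S ⊆ G_a ^ n` the kernel of the system `F`, `S ⊆ P`, `P` pseudo-abelian. -/
theorem noLine {P S : Over (Spec (CommRingCat.of K))} [GrpObj P] [LocallyOfFiniteType P.hom] (hP : IsPA P)
    [GrpObj S] (i : S ⟶ P) [IsMonHom i] [Mono i] [Infinite K]
    {n : ℕ} {x : Fin n → Γ(S.left, ⊤)} (hx : IsVec K S x) (p : ℕ) [Fact p.Prime] [CharP K p] {m : ℕ}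
    (F : Fin m → Fin n → (ℕ →₀ K))
    (hF : ∀ (T : Over (Spec (CommRingCat.of K))) (y : Fin n → Γ(T.left, ⊤)),
      (∀ j, addVal p (str K T) F j y = 0) ↔ ∃ a : T ⟶ S, ∀ l, ev (x l) a = y l)
    (φ : Fin n → (ℕ →₀ K)) (hφ : ∀ (j : Fin m) (t : K),
      addVal p (RingHom.id K) F j (fun l => (φ l).sum fun k a => a * t ^ p ^ k) = 0) : φ = 0 := by
  classical
  let 𝔾 := Red.Ga (Spec (CommRingCat.of K))
  have hI : IsIntegral 𝔾.left := Groth.Agent.Sga3.H783.GaGm.isIntegral_ga K
  have hsm : Smooth 𝔾.hom := Groth.Agent.RedSub.H635.GaSm.smooth_ga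
  have haff : IsAffine 𝔾.left := by
    have h1 : IsAffine Red.GaZ.{u}.left := inferInstanceAs (IsAffine (Spec _))
    change IsAffine (pullback _ _)
    infer_instance
  let F' : Fin n → Fin 1 → (ℕ →₀ K) := fun l _ => φ l
  let Y : Fin n → Polynomial K := fun l => addVal p Polynomial.C F' l (fun _ => Polynomial.X)
  have hY : ∀ l (t : K), (Y l).eval t = (φ l).sum fun k a => a * t ^ p ^ k := by
    intro l t
    simp [Y, F', addVal, Finsupp.sum, Polynomial.eval_finsetSum]
  have h0 : ∀ j, addVal p Polynomial.C F j Y = 0 := by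
    intro j
    apply Polynomial.funext
    intro t
    have h1 := map_addVal (p := p) F j (Polynomial.evalRingHom t) Polynomial.C Y
    have h2 : (Polynomial.evalRingHom t).comp Polynomial.C = RingHom.id K := by
      ext c
      simp
    rw [h2] at h1
    rw [Polynomial.eval_zero]
    refine Eq.trans h1 ?_
    rw [← hφ j t]
    congr 1
    funext l
    exact hY l t
  let t₀ : Γ(𝔾.left, ⊤) := Red.gaFn (𝟙 𝔾)
  let ρ : Polynomial K →+* Γ(𝔾.left, ⊤) := Polynomial.eval₂RingHom (str K 𝔾) t₀
  have hρC : ρ.comp Polynomial.C = str K 𝔾 := by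
    ext c
    simp [ρ]
  obtain ⟨σ, hσ⟩ := (hF 𝔾 (fun l => ρ (Y l))).1 (fun j => by
    rw [← hρC, ← map_addVal, h0, map_zero])
  have hval : ∀ (T : Over (Spec (CommRingCat.of K))) (a : T ⟶ 𝔾) (l : Fin n),
      ev (x l) (a ≫ σ) = addVal p (str K T) F' l (fun _ => Red.gaFn a) := by
    intro T a l
    rw [ev_comp, hσ]
    have h1 : ρ (Y l) = addVal p (str K 𝔾) F' l (fun _ => t₀) := by
      rw [map_addVal, hρC]
      simp [ρ]
    rw [h1]
    change a.left.appTop.hom _ = _
    rw [map_addVal]
    have h2 : a.left.appTop.hom.comp (str K 𝔾) = str K T := by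
      ext c
      exact ev_str c a
    have h3 : a.left.appTop.hom t₀ = Red.gaFn a := by
      change a.left.appTop (Red.gaFn (𝟙 𝔾)) = _
      rw [← gaFn_comp, Category.comp_id]
    rw [h2, h3]
  have hmon : IsMonHom σ := by
    apply Groth.Agent.Sga3B.IsoFam.isMonHom_of_mul
    intro T a b
    apply hx.ext
    intro l
    rw [hx.add, hval, hval, hval, gaFn_mul]
    rcases subsingleton_or_nontrivial Γ(T.left, ⊤) with hs | hs
    · exact Subsingleton.elim _ _
    · have := charP_Γ (T := T) p
      exact addVal_add F' l _ _ _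
  have h1 : σ ≫ i = 1 := PAHom.hom_eq_one hP (σ ≫ i)
  have h2 : σ = 1 := by
    rw [← cancel_mono i, h1, MonObj.one_comp]
  funext l
  ext k
  have h3 : ∀ (T : Over (Spec (CommRingCat.of K))) (a : T ⟶ 𝔾), addVal p (str K T) F' l (fun _ => Red.gaFn a) = 0 := by
    intro T a
    rw [← hval, h2, MonObj.comp_one, (hx.add l).one]
  let T₀ : Over (Spec (CommRingCat.of K)) := pt K (Polynomial K)
  have h4 := h3 T₀ (gaPt T₀ ((Scheme.ΓSpecIso (CommRingCat.of (Polynomial K))).inv.hom Polynomial.X))
  rw [gaFn_gaPt] at h4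
  have h5 : Y l = 0 := by
    have h6 := congrArg (Scheme.ΓSpecIso (CommRingCat.of (Polynomial K))).hom.hom h4
    rw [map_zero, map_addVal] at h6
    have h7 : ∀ z, (Scheme.ΓSpecIso (CommRingCat.of (Polynomial K))).hom.hom
        ((Scheme.ΓSpecIso (CommRingCat.of (Polynomial K))).inv.hom z) = z :=
      fun z => congr($((Scheme.ΓSpecIso (CommRingCat.of (Polynomial K))).inv_hom_id).hom z)
    rw [h7, comp_str] at h6
    exact h6
  have h8 := congrArg (fun f => Polynomial.coeff f (p ^ k)) h5
  have hp := (Fact.out : p.Prime).one_lt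
  have h9 : (Y l).coeff (p ^ k) = φ l k := by
    simp only [Y, F', addVal, Finsupp.sum, Finset.univ_unique, Finset.sum_singleton, Polynomial.finsetSum_coeff,
      Polynomial.coeff_C_mul, Polynomial.coeff_X_pow]
    by_cases hk : k ∈ (φ l).support
    · rw [Finset.sum_eq_single k]
      · simp
      · intro b _ hb
        rw [if_neg, mul_zero]
        intro h
        exact hb (Nat.pow_right_injective hp h).symm
      · intro h
        exact absurd hk h
    · rw [Finset.sum_eq_zero]
      · exact (Finsupp.notMem_support_iff.1 hk).symm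
      · intro b hb
        rw [if_neg, mul_zero]
        intro h
        exact hk (by rw [Nat.pow_right_injective hp h]; exact hb)
  rw [← h9]
  simpa using h8

end K491.NoLine
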