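import Groth.Agent.AlgGrp.K411.HomKit
import Groth.Agent.Neron.K491.PDefs
import Groth.Agent.Neron.K491.FrobIsog
import Groth.Agent.AlgGrp.K400.Quot

/-!
# Homomorphisms into pseudo-abelian varieties

* `hom_eq_one`: a homomorphism from a smooth connected affine group to a pseudo-abelian variety is trivial.
-/

set_option autoImplicit false
universe u

open CategoryTheory CategoryTheory.Limits AlgebraicGeometry MonObj MonoidalCategory CartesianMonoidalCategory

namespace K491.PAHom

open Groth.Agent K491.PDefs AlgGrp.K411

variable {K : Type u} [Field K]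

theorem hom_eq_one {P : Over (Spec (CommRingCat.of K))} [GrpObj P] [LocallyOfFiniteType P.hom] (hP : IsPA P)
    {U : Over (Spec (CommRingCat.of K))} [GrpObj U] [Smooth U.hom] [ConnectedSpace U.left] [IsAffine U.left]
    (f : U ⟶ P) [IsMonHom f] : f = 1 := by
  have hq : QuasiCompact f.left := by
    have hsep : IsSeparated P.hom := Books.AntiAffine.isSeparated_hom P
    have h : QuasiCompact (f.left ≫ P.hom) := by
      rw [Over.w]
      infer_instance
    exact QuasiCompact.of_comp f.left P.hom
  obtain ⟨C, _, q, i, hq, hi, hqi, hfl, hsurj, -, hcl, hsm, hconn, haff⟩ := HomKit.exists_image f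
  have h1 : IsIso η[C] := hP C i hcl hsm (hconn inferInstance) (haff inferInstance)
  have h2 : (𝟙 C : C ⟶ C) = 1 := by
    have h3 : (𝟙 C : C ⟶ C) = toUnit C ≫ η[C] := by
      rw [← cancel_mono (inv η[C]), Category.assoc, IsIso.hom_inv_id, Category.comp_id]
      exact toUnit_unique _ _
    rw [h3]
    rfl
  rw [← hqi, ← Category.comp_id q, h2, MonObj.comp_one, MonObj.one_comp]

end K491.PAHom
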