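import Groth.Agent.Sga3C.GrpIrr
import Groth.Agent.Sga3B.RadOpen.PtTorus
import Groth.Agent.Sga3B.RG.UnipRep
import Groth.Agent.Sga3B.RG.BrHc
import Groth.Agent.Neron.K490.PullMap
import Groth.Agent.Neron.K490.DualIsog
import Mathlib.LinearAlgebra.Eigenspace.Zero

/-!
# Unipotent groups in characteristic `p` are killed by a power of `p`

`exists_pow_eq_one`: `V` smooth connected affine over a field `K` of characteristic `p`, without
subtori over an algebraic closure: `(𝟙 V) ^ (p ^ N) = 1` for some `N`.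
-/

set_option autoImplicit false
universe u

open CategoryTheory CategoryTheory.Limits AlgebraicGeometry MonObj
open MonoidalCategory CartesianMonoidalCategory

namespace K491.UnipPow

open Groth.Agent.Sga3B.RG Groth.Agent.Sga3B Groth.Agent.Sga3B.RG.BrHc Groth.Agent.Sga3B.RG.BrPts

/-- Unipotent endomorphisms have `p`-power order. -/
theorem pow_eq_one_of_nilpotent {K V : Type*} [Field K] (p : ℕ) [Fact p.Prime] [CharP K p]
    [AddCommGroup V] [Module K V] [FiniteDimensional K V] (f : Module.End K V)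
    (hf : IsNilpotent (f - 1)) (N : ℕ) (hN : Module.finrank K V ≤ p ^ N) : f ^ p ^ N = 1 := by
  rcases subsingleton_or_nontrivial V with hV | hV
  · exact Subsingleton.elim _ _
  have hc : CharP (Module.End K V) p :=
    charP_of_injective_algebraMap (algebraMap K (Module.End K V)).injective p
  have h1 : (f - 1) ^ Module.finrank K V = 0 := by
    have h2 := LinearMap.aeval_self_charpoly (f - 1)
    rwa [IsNilpotent.charpoly_eq_X_pow_finrank hf, map_pow, Polynomial.aeval_X] at h2
  have h3 : (f - 1) ^ p ^ N = 0 := by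
    obtain ⟨c, hc⟩ := Nat.exists_eq_add_of_le hN
    rw [hc, pow_add, h1, zero_mul]
  have h4 : (f - 1) ^ p ^ N = f ^ p ^ N - 1 ^ p ^ N :=
    sub_pow_char_pow_of_commute _ _ (Commute.one_right f)
  rw [one_pow, h3] at h4
  exact (sub_eq_zero.mp h4.symm)

/-- The algebraically closed case. -/
theorem pow_eq_one_of_isAlgClosed {K : Type u} [Field K] [IsAlgClosed K] (p : ℕ) [Fact p.Prime]
    [CharP K p] (V : Over (Spec (CommRingCat.of K))) [GrpObj V] [Smooth V.hom]
    [ConnectedSpace ↥V.left] [IsAffine V.left] (hV : Red.HasNoSubtorus K V) :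
    ∃ N : ℕ, (𝟙 V : V ⟶ V) ^ p ^ N = 1 := by
  obtain ⟨A, _, _, e, he, hft⟩ := exists_hopf_ft V
  have hcl : IsClosedImmersion e.hom.left := inferInstance
  have hunip := RadOpen.isUnip_of_hasNoSubtorus e.hom hV
  have hred : IsReduced V.left := Groth.Agent.Books.AlgPtsSmooth.isReduced_of_smooth V
  have hA : _root_.IsReduced A := by
    have h1 : IsReduced (Groth.Agent.Books.AffBridge.SpecOver K A).left := isReduced_of_isOpenImmersion e.inv.left
    exact (affine_isReduced_iff (CommRingCat.of A)).1 h1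
  obtain ⟨W, _, _, _, ρ, -, hinj, hρ⟩ := exists_rep_unip K A
  obtain ⟨N, hN⟩ : ∃ N : ℕ, Module.finrank K W ≤ p ^ N :=
    ⟨_, (Nat.lt_pow_self (Fact.out : p.Prime).one_lt).le⟩
  refine ⟨N, ?_⟩
  have hg : ∀ g : Pt K A, g ^ p ^ N = 1 := by
    intro g
    apply hinj
    rw [map_pow, map_one]
    refine pow_eq_one_of_nilpotent p _ ((hρ g).1 (hunip g ?_)) N hN
    rw [mem_ptsSub]
    exact ⟨ptEquiv K A g ≫ e.inv, by rw [Category.assoc, e.inv_hom_id, Category.comp_id]⟩
  refine hom_ext_of_points _ _ fun x => ?_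
  have h5 : (x ≫ e.hom) ^ p ^ N = 1 := by
    obtain ⟨g, hg'⟩ := (ptEquiv K A).surjective (x ≫ e.hom)
    rw [← hg', ← map_pow, hg, map_one]
  have h6 : x ^ p ^ N = 1 := by
    have h7 : (x ^ p ^ N) ≫ e.hom = 1 := by rw [MonObj.pow_comp, h5]
    have h8 : ((1 : 𝟙_ (Over (Spec (CommRingCat.of K))) ⟶ V)) ≫ e.hom = 1 := MonObj.one_comp _
    rw [← cancel_mono e.hom, h7, h8]
  rw [MonObj.comp_pow, Category.comp_id, MonObj.comp_one, h6]

/-- **Unipotent groups in characteristic `p` are killed by a power of `p`.** -/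
theorem exists_pow_eq_one {K : Type u} [Field K] (p : ℕ) [Fact p.Prime]
    [CharP K p] (V : Over (Spec (CommRingCat.of K))) [GrpObj V] [Smooth V.hom]
    [ConnectedSpace ↥V.left] [IsAffine V.left]
    (hV : Red.HasNoSubtorus (AlgebraicClosure K)
      (Red.bc (Spec.map (CommRingCat.ofHom (algebraMap K (AlgebraicClosure K)))) V)) :
    ∃ N : ℕ, (𝟙 V : V ⟶ V) ^ p ^ N = 1 := by
  let f : Spec (CommRingCat.of (AlgebraicClosure K)) ⟶ Spec (CommRingCat.of K) :=
    Spec.map (CommRingCat.ofHom (algebraMap K (AlgebraicClosure K)))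
  have hp : CharP (AlgebraicClosure K) p :=
    charP_of_injective_algebraMap (algebraMap K (AlgebraicClosure K)).injective p
  have h1 : Smooth (Red.bc f V).hom := inferInstanceAs (Smooth (pullback.snd V.hom f))
  have h2 : ConnectedSpace ↥(Red.bc f V).left := by
    have : GrpObj (Over.mk V.hom) := inferInstanceAs (GrpObj V)
    have := Groth.Agent.Sga3C.GrpIrr.geometricallyIrreducible_of_connectedSpace V.hom
    have h3 : IrreducibleSpace ↥(pullback V.hom f) :=
      GeometricallyIrreducible.irreducibleSpace_of_subsingleton (pullback.snd V.hom f)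
    exact inferInstanceAs (ConnectedSpace ↥(pullback V.hom f))
  have h3 : IsAffine (Red.bc f V).left := inferInstanceAs (IsAffine (pullback V.hom f))
  obtain ⟨N, hN⟩ := pow_eq_one_of_isAlgClosed p (Red.bc f V) hV
  refine ⟨N, ?_⟩
  have h4 : (Over.pullback f).map ((𝟙 V : V ⟶ V) ^ p ^ N) = (Over.pullback f).map (1 : V ⟶ V) := by
    rw [K490.DualIsog.map_pow_one, Functor.map_one]
    exact hN
  rw [K490.PullMap.pullback_map_eq_iff] at h4
  have h5 : Flat f := by
    rw [Flat.SpecMap_iff]
    change (algebraMap K (AlgebraicClosure K)).Flat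
    rw [RingHom.flat_algebraMap_iff]
    infer_instance
  have h6 : Surjective f := by
    constructor
    intro x
    have : Subsingleton ↥(Spec (CommRingCat.of K)) := inferInstanceAs (Subsingleton (PrimeSpectrum K))
    have : Nonempty ↥(Spec (CommRingCat.of (AlgebraicClosure K))) :=
      inferInstanceAs (Nonempty (PrimeSpectrum _))
    exact ⟨Classical.arbitrary _, Subsingleton.elim _ _⟩
  have h7 : Epi (pullback.fst V.hom f) := Flat.epi_of_flat_of_surjective _
  ext1
  exact (cancel_epi _).mp h4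

end K491.UnipPow
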