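import Groth.Agent.Neron.K491.CharZ
import Groth.Agent.Neron.K491.UnipPow
import Groth.Agent.S17690

/-!
# Pseudo-abelian varieties: the maximal abelian subvariety and the virtual abelian quotient
-/

set_option autoImplicit false
universe u

open CategoryTheory CategoryTheory.Limits AlgebraicGeometry MonObj
open MonoidalCategory CartesianMonoidalCategory

namespace K491.PAMain

/-- In characteristic `p`, complementary homomorphisms between `E_L` and `A`. -/
theorem exists_isog_bc
    (k : Type u) [Field k] (p : ℕ) [Fact p.Prime] [CharP k p]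
    (P : Over (Spec (CommRingCat.of k))) [GrpObj P] [IsCommMonObj P]
    [Smooth P.hom] [LocallyOfFiniteType P.hom] [QuasiCompact P.hom] [ConnectedSpace ↥P.left]
    (E V : Over (Spec (CommRingCat.of k))) [GrpObj E] [GrpObj V]
    (iE : E ⟶ P) [IsMonHom iE] (q : P ⟶ V) [IsMonHom q]
    (hiE : IsClosedImmersion iE.left) (hkerE : AlgGrp.IsKernel iE q)
    [Smooth V.hom] [ConnectedSpace ↥V.left] [IsAffine V.left]
    (hV : Red.HasNoSubtorus (AlgebraicClosure k)
      (Red.bc (Spec.map (CommRingCat.ofHom (algebraMap k (AlgebraicClosure k)))) V))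
    (L : Type u) [Field L] [Algebra k L]
    (H A : Over (Spec (CommRingCat.of L))) [GrpObj H] [GrpObj A]
    (i : H ⟶ Red.bc (Spec.map (CommRingCat.ofHom (algebraMap k L))) P) [IsMonHom i] (π : Red.bc (Spec.map (CommRingCat.ofHom (algebraMap k L))) P ⟶ A) [IsMonHom π]
    (hker : AlgGrp.IsKernel i π) (hπ : Surjective π.left)
    [Smooth H.hom] [ConnectedSpace ↥H.left] [IsAffine H.left]
    (hH : Red.HasNoSubtorus (AlgebraicClosure L) (Red.bc (Spec.map (CommRingCat.ofHom (algebraMap L (AlgebraicClosure L)))) H))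
    [LocallyOfFiniteType A.hom] [IsReduced A.left] :
    ∃ (φ : Red.bc (Spec.map (CommRingCat.ofHom (algebraMap k L))) E ⟶ A)
      (ψ : A ⟶ Red.bc (Spec.map (CommRingCat.ofHom (algebraMap k L))) E) (n : ℕ),
      IsMonHom φ ∧ IsMonHom ψ ∧ 1 ≤ n ∧ φ ≫ ψ = (𝟙 _) ^ n ∧ ψ ≫ φ = (𝟙 A) ^ n := by
  have hmono : Mono iE := by
    have : Mono iE.left := inferInstance
    exact Over.mono_of_mono_left iE
  have hcL : CharP L p := charP_of_injective_algebraMap (algebraMap k L).injective p
  obtain ⟨N, hN⟩ := UnipPow.exists_pow_eq_one p V hV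
  obtain ⟨M, hM⟩ := UnipPow.exists_pow_eq_one p H hH
  obtain ⟨f, hf, hf1, hf2⟩ := IsogPA.exists_retr iE q hkerE _ hN
  let g : Spec (CommRingCat.of L) ⟶ Spec (CommRingCat.of k) :=
    Spec.map (CommRingCat.ofHom (algebraMap k L))
  let jL : Red.bc g E ⟶ Red.bc g P := (Over.pullback g).map iE
  let fL : Red.bc g P ⟶ Red.bc g E := (Over.pullback g).map f
  have h1 : fL ≫ jL = (𝟙 (Red.bc g P)) ^ p ^ N := by
    rw [← Functor.map_comp, hf1, K490.DualIsog.map_pow_one]
  have h2 : jL ≫ fL = (𝟙 (Red.bc g E)) ^ p ^ N := by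
    rw [← Functor.map_comp, hf2, K490.DualIsog.map_pow_one]
  have h3 : LocallyOfFiniteType (Red.bc g P).hom :=
    inferInstanceAs (LocallyOfFiniteType (pullback.snd P.hom g))
  have h4 : QuasiCompact (Red.bc g P).hom :=
    inferInstanceAs (QuasiCompact (pullback.snd P.hom g))
  have h5 : IsCommMonObj (Red.bc g P) := inferInstance
  obtain ⟨φ, ψ, hφ, hψ, h6, h7⟩ := IsogPA.exists_isog jL fL (p ^ N) h1 h2 i π hker hπ (p ^ M) hM
  exact ⟨φ, ψ, p ^ M * p ^ N, hφ, hψ,
    Nat.one_le_iff_ne_zero.mpr (by have := (Fact.out : p.Prime).ne_zero; positivity), h6, h7⟩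

theorem dim_eq
    (k : Type u) [Field k]
    (P : Over (Spec (CommRingCat.of k))) [GrpObj P] [IsCommMonObj P]
    [Smooth P.hom] [LocallyOfFiniteType P.hom] [QuasiCompact P.hom] [ConnectedSpace ↥P.left]
    (hP : ∀ (H : Over (Spec (CommRingCat.of k))) [GrpObj H] (j : H ⟶ P) [IsMonHom j],
      IsClosedImmersion j.left → Smooth H.hom → ConnectedSpace ↥H.left → IsAffine H.left → IsIso η[H])
    (E V : Over (Spec (CommRingCat.of k))) [GrpObj E] [GrpObj V]
    (iE : E ⟶ P) [IsMonHom iE] (q : P ⟶ V) [IsMonHom q]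
    (hiE : IsClosedImmersion iE.left) (hkerE : AlgGrp.IsKernel iE q)
    [IsProper E.hom] [GeometricallyIntegral E.hom]
    [Smooth V.hom] [ConnectedSpace ↥V.left] [IsAffine V.left]
    (hV : Red.HasNoSubtorus (AlgebraicClosure k)
      (Red.bc (Spec.map (CommRingCat.ofHom (algebraMap k (AlgebraicClosure k)))) V))
    (L : Type u) [Field L] [Algebra k L] [FiniteDimensional k L] [IsPurelyInseparable k L]
    (H A : Over (Spec (CommRingCat.of L))) [GrpObj H] [GrpObj A]
    (i : H ⟶ Red.bc (Spec.map (CommRingCat.ofHom (algebraMap k L))) P) [IsMonHom i] (π : Red.bc (Spec.map (CommRingCat.ofHom (algebraMap k L))) P ⟶ A) [IsMonHom π]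
    (hi : IsClosedImmersion i.left) (hker : AlgGrp.IsKernel i π) (hπ : Surjective π.left)
    [Smooth H.hom] [ConnectedSpace ↥H.left] [IsAffine H.left]
    (hH : Red.HasNoSubtorus (AlgebraicClosure L) (Red.bc (Spec.map (CommRingCat.ofHom (algebraMap L (AlgebraicClosure L)))) H))
    [IsProper A.hom] [GeometricallyIntegral A.hom] :
    topologicalKrullDim ↥E.left = topologicalKrullDim ↥A.left := by
  obtain ⟨p, hp⟩ := CharP.exists k
  rcases CharP.char_is_prime_or_zero k p with hp' | rfl
  · have : Fact p.Prime := ⟨hp'⟩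
    have hA : IsIntegral A.left := GeometricallyIntegral.isIntegral_of_subsingleton A.hom
    obtain ⟨φ, ψ, n, hφ, hψ, hn, h1, h2⟩ := exists_isog_bc k p P E V iE q hiE hkerE hV L H A i π hker
      hπ hH
    have h3 : IsProper (Red.bc (Spec.map (CommRingCat.ofHom (algebraMap k L))) E).hom :=
      inferInstanceAs (IsProper (pullback.snd E.hom _))
    have h4 : GeometricallyIntegral (Red.bc (Spec.map (CommRingCat.ofHom (algebraMap k L))) E).hom :=
      inferInstanceAs (GeometricallyIntegral (pullback.snd E.hom _))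
    have h5 := CharZ.dim_eq_of_isog φ ψ n hn h1 h2
    have h6 : topologicalKrullDim ↥(pullback E.hom (Spec.map (CommRingCat.ofHom (algebraMap k L)))) =
        topologicalKrullDim ↥E.left :=
      Groth.Agent.Sga3B.DimFib.topologicalKrullDim_baseChange_eq (Field.toIsField k)
        (Field.toIsField L) E.hom _ _ _ (IsPullback.of_hasPullback _ _)
    exact h6.symm.trans h5
  · have hz : CharZero k := CharP.charP_to_charZero k
    exact CharZ.dim_eq_of_bijective P hP E V iE q hiE hkerE L
      (IsPurelyInseparable.bijective_algebraMap_of_isSeparable k L) H A i π hi hker hπ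

end K491.PAMain
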