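import Groth.Agent.Neron.K491.PAHom
import Groth.Agent.Neron.K489.FieldBc
import Groth.Agent.Sga3B.IsoFam

/-!
# Subgroups of pseudo-abelian varieties over extensions of height one are killed by `p`

* `exists_ver`: the Verschiebung of a smooth commutative group over a field.
* `pow_eq_one_of_heightOne`: `P` pseudo-abelian over `K`, `E ^ p ⊆ K`, `U → P_E` a homomorphism from a smooth
  connected affine group; then its `p`-th power is trivial.
-/

set_option autoImplicit false
universe u

open CategoryTheory CategoryTheory.Limits AlgebraicGeometry MonObj MonoidalCategory CartesianMonoidalCategory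

namespace K491.PTw

open Groth.Agent K491.PDefs AlgGrp.K411 K491.FrobIsog Groth.Agent.Sga7.H729.Dict Groth.Agent.Sga3B.BcIso
open Groth.Agent.Sga7.H274.Transport

section general

variable {S S' S'' : Scheme.{u}}

/-- The comparison of the two ways to restrict scalars in two steps. -/
def rs (s : S'' ⟶ S') (j : S' ⟶ S) (T : Over S'') :
    (Over.map (s ≫ j)).obj T ⟶ (Over.map j).obj ((Over.map s).obj T) :=
  Over.homMk (𝟙 _) (by simp)

/-- The twist of a morphism `i : U ⟶ j^* P` along `s`. -/
noncomputable def tw (s : S'' ⟶ S') (j : S' ⟶ S) {U : Over S'} [GrpObj U] {P : Over S} [GrpObj P]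
    (i : U ⟶ Red.bc j P) : Red.bc s U ⟶ Red.bc (s ≫ j) P :=
  (bcPts (s ≫ j) P (Red.bc s U)).symm (rs s j _ ≫ bcPts j P _ (bcPts s U (Red.bc s U) (𝟙 _) ≫ i))

lemma tw_left_fst (s : S'' ⟶ S') (j : S' ⟶ S) {U : Over S'} [GrpObj U] {P : Over S} [GrpObj P]
    (i : U ⟶ Red.bc j P) :
    (tw s j i).left ≫ pullback.fst P.hom (s ≫ j) = pullback.fst U.hom s ≫ i.left ≫ pullback.fst P.hom j := by
  have h : bcPts (s ≫ j) P (Red.bc s U) (tw s j i) =
      rs s j _ ≫ bcPts j P _ (bcPts s U (Red.bc s U) (𝟙 _) ≫ i) := MulEquiv.apply_symm_apply _ _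
  have h2 := congr(($h).left)
  rw [bcPts_left, Over.comp_left, bcPts_left, Over.comp_left, bcPts_left] at h2
  rw [h2]
  simp [rs]

lemma bcPts_comp_tw (s : S'' ⟶ S') (j : S' ⟶ S) {U : Over S'} [GrpObj U] {P : Over S} [GrpObj P]
    (i : U ⟶ Red.bc j P) (T : Over S'') (y : T ⟶ Red.bc s U) :
    bcPts (s ≫ j) P T (y ≫ tw s j i) = rs s j T ≫ bcPts j P _ (bcPts s U T y ≫ i) := by
  ext1
  rw [bcPts_left, Over.comp_left, Category.assoc, tw_left_fst, Over.comp_left, bcPts_left, Over.comp_left, bcPts_left]
  simp [rs]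

instance isMonHom_tw (s : S'' ⟶ S') (j : S' ⟶ S) {U : Over S'} [GrpObj U] {P : Over S} [GrpObj P]
    (i : U ⟶ Red.bc j P) [IsMonHom i] : IsMonHom (tw s j i) := by
  apply Groth.Agent.Sga3B.IsoFam.isMonHom_of_mul
  intro T x y
  apply (bcPts (s ≫ j) P T).injective
  rw [map_mul, bcPts_comp_tw, bcPts_comp_tw, bcPts_comp_tw, map_mul, MonObj.mul_comp, map_mul, MonObj.comp_mul]

/-- Base change along equal morphisms and the projection. -/
lemma congr_left_fst {f g : S' ⟶ S} (h : f = g) (G : Over S) [GrpObj G] :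
    (bcCongrIso h G).hom.hom.hom.left ≫ pullback.fst G.hom g = pullback.fst G.hom f := by
  subst h
  simp [bcCongrIso]

end general

variable {K : Type u} [Field K] (p : ℕ) [Fact p.Prime] [CharP K p]

/-- The Verschiebung of a smooth commutative group of finite type. -/
theorem exists_ver [FrobSch.IsCharP (Spec (CommRingCat.of K)) p]
    (P : Over (Spec (CommRingCat.of K))) [GrpObj P] [IsCommMonObj P] [Smooth P.hom] [QuasiCompact P.hom]
    (hF : ∀ (T : Over (Spec (CommRingCat.of K))) (x : T ⟶ P), x ≫ rF p P = 1 → x ^ p = 1) :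
    ∃ V : Red.bc (FrobSch.frob (Spec (CommRingCat.of K)) p) P ⟶ P, IsMonHom V ∧ rF p P ≫ V = (𝟙 P) ^ p := by
  have h1 : Smooth (Red.bc (FrobSch.frob (Spec (CommRingCat.of K)) p) P).hom :=
    inferInstanceAs (Smooth (pullback.snd P.hom _))
  have h2 : IsReduced (Red.bc (FrobSch.frob (Spec (CommRingCat.of K)) p) P).left :=
    Books.AlgPtsSmooth.isReduced_of_smooth _
  have h3 : Surjective (rF p P).left := (isIsogenyOver_rF K p P).1
  have h4 : IsSeparated (Red.bc (FrobSch.frob (Spec (CommRingCat.of K)) p) P).hom :=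
    Books.AntiAffine.isSeparated_hom _
  have h5 : QuasiCompact (rF p P).left := by
    have h : QuasiCompact ((rF p P).left ≫ (Red.bc (FrobSch.frob (Spec (CommRingCat.of K)) p) P).hom) := by
      rw [Over.w]
      infer_instance
    exact QuasiCompact.of_comp (rF p P).left (Red.bc (FrobSch.frob (Spec (CommRingCat.of K)) p) P).hom
  have h6 : Flat (rF p P).left := HomKit.flat_of_surjective (rF p P)
  refine K400.Quot.exists_desc_hom (rF p P) ((𝟙 P : P ⟶ P) ^ p) (fun T x hx => ?_)
  rw [MonObj.comp_pow, Category.comp_id]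
  exact hF T x hx

variable (E : Type u) [Field E] [Algebra K E]

/-- Homomorphisms from smooth connected affine groups to `P_E`, `P` pseudo-abelian over `K` and `E ^ p ⊆ K`, are killed
by `p`. -/
theorem pow_eq_one_of_heightOne [FrobSch.IsCharP (Spec (CommRingCat.of K)) p]
    (hE : ∀ e : E, ∃ c : K, algebraMap K E c = e ^ p)
    (P : Over (Spec (CommRingCat.of K))) [GrpObj P] [IsCommMonObj P] [Smooth P.hom] [QuasiCompact P.hom]
    (hF : ∀ (T : Over (Spec (CommRingCat.of K))) (x : T ⟶ P), x ≫ rF p P = 1 → x ^ p = 1) (hP : IsPA P)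
    (U : Over (Spec (CommRingCat.of E))) [GrpObj U] [Smooth U.hom] [ConnectedSpace U.left] [IsAffine U.left]
    (i : U ⟶ Red.bc (Spec.map (CommRingCat.ofHom (algebraMap K E))) P) [IsMonHom i] : i ^ p = 1 := by
  obtain ⟨V, hV, hFV⟩ := exists_ver p P hF
  have hEp : CharP E p := charP_of_injective_algebraMap (algebraMap K E).injective p
  choose ψ₀ hψ₀ using hE
  let ψ : E →+* K :=
    { toFun := ψ₀
      map_one' := (algebraMap K E).injective (by rw [hψ₀, map_one, one_pow])
      map_zero' := (algebraMap K E).injective (by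
        rw [hψ₀, map_zero, zero_pow (Fact.out : p.Prime).ne_zero])
      map_mul' := fun x y => (algebraMap K E).injective (by rw [hψ₀, map_mul, hψ₀, hψ₀, mul_pow])
      map_add' := fun x y => (algebraMap K E).injective (by rw [hψ₀, map_add, hψ₀, hψ₀, add_pow_char]) }
  have hψ : ∀ e, algebraMap K E (ψ e) = e ^ p := hψ₀
  let j : Spec (CommRingCat.of E) ⟶ Spec (CommRingCat.of K) := Spec.map (CommRingCat.ofHom (algebraMap K E))
  let s : Spec (CommRingCat.of K) ⟶ Spec (CommRingCat.of E) := Spec.map (CommRingCat.ofHom ψ)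
  have hsj : s ≫ j = FrobSch.frob (Spec (CommRingCat.of K)) p := by
    rw [frob_spec]
    change Spec.map _ ≫ Spec.map _ = Spec.map _
    rw [← Spec.map_comp, ← CommRingCat.ofHom_comp]
    congr 2
    ext c
    apply (algebraMap K E).injective
    rw [RingHom.comp_apply, hψ, frobenius_def, map_pow]
  have hEc : FrobSch.IsCharP (Spec (CommRingCat.of E)) p := FrobSch.IsCharP.of_hom j p
  have hjs : j ≫ s = FrobSch.frob (Spec (CommRingCat.of E)) p := by
    rw [frob_spec]
    change Spec.map _ ≫ Spec.map _ = Spec.map _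
    rw [← Spec.map_comp, ← CommRingCat.ofHom_comp]
    congr 2
    ext c
    rw [RingHom.comp_apply, hψ, frobenius_def]
  -- the twist of `U` maps trivially
  have hUs : Smooth (Red.bc s U).hom := inferInstanceAs (Smooth (pullback.snd U.hom s))
  have hUi : IrreducibleSpace (Red.bc s U).left := K489.FieldBc.irreducibleSpace_bc' s U
  have hUa : IsAffine (Red.bc s U).left := by
    change IsAffine (pullback U.hom s)
    infer_instance
  let e := bcCongrIso hsj P
  let g : Red.bc s U ⟶ P := tw s j i ≫ e.hom.hom.hom ≫ V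
  have hg : g = 1 := PAHom.hom_eq_one hP g
  -- the universal point
  have hUc : FrobSch.IsCharP U.left p := FrobSch.IsCharP.of_hom U.hom p
  have hUc' : FrobSch.IsCharP ((Over.map j).obj U).left p := hUc
  have hPc : FrobSch.IsCharP P.left p := FrobSch.IsCharP.of_hom P.hom p
  let x : (Over.map j).obj U ⟶ P := bcPts j P U i
  let a₀ : (Over.map s).obj ((Over.map j).obj U) ⟶ U :=
    Over.homMk (FrobSch.frob U.left p) (by
      have h := FrobSch.frob_comp p U.hom
      rw [← hjs] at h
      simpa using h)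
  let a : (Over.map j).obj U ⟶ Red.bc s U := (bcPts s U _).symm a₀
  have ha : a.left ≫ pullback.fst U.hom s = FrobSch.frob U.left p := by
    rw [← bcPts_left]
    change (bcPts s U _ ((bcPts s U _).symm a₀)).left = _
    rw [MulEquiv.apply_symm_apply]
    rfl
  have hxa : x ≫ rF p P = a ≫ tw s j i ≫ e.hom.hom.hom := by
    ext1
    apply pullback.hom_ext
    · have h1 : (x ≫ rF p P).left ≫ pullback.fst P.hom (FrobSch.frob (Spec (CommRingCat.of K)) p) =
          x.left ≫ FrobSch.frob P.left p := by
        rw [Over.comp_left, rF_left, Category.assoc]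
        congr 1
        exact FrobSch.relFrob_fst P.hom p
      have h2 : (a ≫ tw s j i ≫ e.hom.hom.hom).left ≫
          pullback.fst P.hom (FrobSch.frob (Spec (CommRingCat.of K)) p) = FrobSch.frob U.left p ≫ x.left := by
        rw [Over.comp_left, Over.comp_left, Category.assoc, Category.assoc, congr_left_fst hsj P, tw_left_fst,
          reassoc_of% ha, bcPts_left]
      rw [h1, h2]
      exact (FrobSch.frob_comp p x.left).symm
    · rw [show pullback.snd P.hom (FrobSch.frob (Spec (CommRingCat.of K)) p) =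
        (Red.bc (FrobSch.frob (Spec (CommRingCat.of K)) p) P).hom from rfl, Over.w, Over.w]
  have hx : x ^ p = 1 := by
    rw [← Category.comp_id x, ← MonObj.comp_pow, ← hFV, ← Category.assoc, hxa, Category.assoc, Category.assoc]
    change a ≫ g = 1
    rw [hg, MonObj.comp_one]
  apply (bcPts j P U).injective
  rw [map_pow, map_one]
  exact hx

end K491.PTw
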