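import Groth.Agent.Neron.K491.BddStep
import Groth.Agent.Neron.K491.PTw
import Groth.Agent.Neron.K305.WeilQC
import Groth.Agent.Neron.K130.BddClosed
import Groth.Agent.Neron.K351.AffFieldDesc
import Groth.Agent.Neron.K354.PowRF
import Groth.Agent.Neron.K220.Vec
import Groth.Agent.Neron.K449.AddDesc
import Groth.Agent.Neron.K667.WeilBdd
import Groth.Agent.AbVar.K509.WeilLft
import Groth.Agent.AlgGrp.K398.Pts
import Groth.Agent.Neron.K491.ChevPI

/-!
# Boundedness of pseudo-abelian varieties: one step of height one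
-/

set_option autoImplicit false
universe u

open CategoryTheory CategoryTheory.Limits AlgebraicGeometry MonObj MonoidalCategory CartesianMonoidalCategory

namespace K491.PAStep

open K491.PDefs K131.Bdd Groth.Agent Groth.Agent.AbVar.K509

/-- Additive coordinates restrict to closed subgroups. -/
theorem IsVec_of_closed {K : Type u} [Field K] {S U : Over (Spec (CommRingCat.of K))} [GrpObj S] [GrpObj U]
    (s : S ⟶ U) [IsMonHom s] [IsClosedImmersion s.left] {n : ℕ} {x : Fin n → Γ(U.left, ⊤)} (hx : IsVec K U x) :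
    IsVec K S (fun l => ev (x l) s) := by
  have hU := hx.affine
  refine ⟨isAffine_of_isAffineHom s.left, fun l T a b => ?_, fun A hA hxA => ?_⟩
  · rw [← ev_comp, ← ev_comp, ← ev_comp, MonObj.mul_comp]
    exact hx.add l T _ _
  · have hsurj : Function.Surjective s.left.appTop :=
      (IsClosedImmersion.isAffine_surjective_of_isAffine s.left).2
    have h1 : A.comap s.left.appTop.hom = ⊤ := hx.gen _ (fun c => by
      change ev (str K U c) s ∈ A
      rw [ev_str]
      exact hA c) (fun l => hxA l)
    rw [eq_top_iff]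
    intro f _
    obtain ⟨g, rfl⟩ := hsurj f
    have : g ∈ A.comap s.left.appTop.hom := by rw [h1]; trivial
    exact this

variable (R K R' E : Type u) [CommRing R] [IsDomain R] [IsDiscreteValuationRing R] [HenselianLocalRing R] [Field K]
  [Algebra R K] [IsFractionRing R K] [CommRing R'] [IsDomain R'] [IsDiscreteValuationRing R'] [Field E] [Algebra R' E]
  [IsFractionRing R' E] [Algebra K E] [FiniteDimensional K E] [Algebra R R'] [Algebra R E] [IsScalarTower R K E]
  [IsScalarTower R R' E] [Module.Finite R R']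

/-- **The step.** -/
theorem bdd_step (hR : CAlg.IsGRing R) (p : ℕ) [Fact p.Prime] [CharP K p]
    (hE : ∀ e : E, ∃ c : K, algebraMap K E c = e ^ p)
    (P : Over (Spec (CommRingCat.of K))) [GrpObj P] [IsCommMonObj P] [Smooth P.hom] [QuasiCompact P.hom]
    (hP : IsPA P)
    (X : Over (Spec (CommRingCat.of E))) [GrpObj X] [IsCommMonObj X] [LocallyOfFiniteType X.hom] [QuasiCompact X.hom]
    (π : Red.bc (Spec.map (CommRingCat.ofHom (algebraMap K E))) P ⟶ X) [IsMonHom π]
    (U : Over (Spec (CommRingCat.of E))) [GrpObj U] [Smooth U.hom] [ConnectedSpace U.left] [IsAffine U.left]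
    (i : U ⟶ Red.bc (Spec.map (CommRingCat.ofHom (algebraMap K E))) P) [IsMonHom i] [IsClosedImmersion i.left]
    (hker : AlgGrp.IsKernel i π) (hX : Bdd R' X.hom (fun _ => True)) : Bdd R P.hom (fun _ => True) := by
  let f : Spec (CommRingCat.of E) ⟶ Spec (CommRingCat.of K) := Spec.map (CommRingCat.ofHom (algebraMap K E))
  have hEp : CharP E p := charP_of_injective_algebraMap (algebraMap K E).injective p
  have hKc : FrobSch.IsCharP (Spec (CommRingCat.of K)) p := inferInstance
  -- `U` is killed by `p`, so it is a closed subgroup of `G_a ^ n`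
  have hip : i ^ p = 1 := K491.PTw.pow_eq_one_of_heightOne p E hE P
    (fun T x hx => K354.PowRF.pow_eq_one_of_rF K p P T x hx) hP U i
  have himono : Mono i := K491.TorsCh.mono_of_kernel π i hker
  have hUp : ∀ (T : Over (Spec (CommRingCat.of E))) (x : T ⟶ U), x ^ p = 1 := by
    intro T x
    rw [← cancel_mono i, MonObj.one_comp, MonObj.pow_comp, ← MonObj.comp_pow, hip, MonObj.comp_one]
  have hUcomm : IsCommMonObj U := ⟨by
    rw [← cancel_mono i, Category.assoc, IsMonHom.mul_hom, ← Category.assoc,
      ← BraidedCategory.braiding_naturality, Category.assoc, IsCommMonObj.mul_comm]⟩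
  obtain ⟨n, x, hx⟩ := K220.Vec.exists_vec E p U hUp
  -- the Weil restriction
  obtain ⟨W, gW, q, hWc, hWl, hq, hW⟩ := WeilLft.exists_weil_grp K E X
  have hWqc : QuasiCompact W.hom := Groth.Agent.K305.WeilQC.quasiCompact_weil K E p hE X W q hW
  have hWb : Bdd R W.hom (fun _ => True) := K667.WeilBdd.bdd_weil R K R' E X W q hW hX
  let v : P ⟶ W := WeilRes.IsWeilRes.lift hW P π
  have hv : (Over.pullback f).map v ≫ q = π := WeilRes.IsWeilRes.restr_lift hW P π
  have hvm : IsMonHom v := by
    apply HomPts.isMonHom_of_mul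
    apply (hW _).1
    rw [WeilRes.restr_comp, WeilRes.restr_mul, WeilRes.restr_comp, WeilRes.restr_comp]
    change (Over.pullback f).map _ ≫ ((Over.pullback f).map v ≫ q) =
      ((Over.pullback f).map _ ≫ ((Over.pullback f).map v ≫ q)) *
      ((Over.pullback f).map _ ≫ ((Over.pullback f).map v ≫ q))
    rw [hv, CategoryTheory.Functor.map_mul, MonObj.mul_comp]
  obtain ⟨C, gC, r, j, hr, hj, hrj, hfl, hsu, hlfp, hcl⟩ := K398.Pts.exists_image v
  have hCl : LocallyOfFiniteType C.hom := by rw [← Over.w j]; infer_instance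
  have hCs : IsSeparated C.hom := Books.AntiAffine.isSeparated_hom C
  have hCb : Bdd R C.hom (fun _ => True) := by
    have h1 := K130.BddClosed.bdd_of_closed (R := R) W.hom j.left hWb
    rw [Over.w] at h1
    exact h1
  -- the kernel
  obtain ⟨S, gS, ks, hks, hkk⟩ : ∃ (S : Over (Spec (CommRingCat.of K))) (_ : GrpObj S) (ks : S ⟶ P), IsMonHom ks ∧
      AlgGrp.IsKernel ks r := by
    obtain ⟨g, hg⟩ := Sga3B.KerGrp.exists_grpObj r
    exact ⟨Sga3B.KerGrp.kerObj r, g, Sga3B.KerGrp.kerι r, hg, Sga3B.KerGrp.isPullback_ker r⟩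
  have hkc : IsClosedImmersion ks.left := by
    have h1 : IsClosedImmersion (η[C] : 𝟙_ (Over (Spec (CommRingCat.of K))) ⟶ C).left :=
      K510.KerLemmas.isClosedImmersion_one C
    exact MorphismProperty.of_isPullback (P := @IsClosedImmersion) (hkk.map (Over.forget _)).flip h1
  have hk1 : ks ≫ r = 1 := hkk.w
  have hSE : (Over.pullback f).map ks ≫ π = 1 := by
    rw [← hv, ← Category.assoc, ← Functor.map_comp, ← hrj, ← Category.assoc ks r j, hk1, MonObj.one_comp,
      CategoryTheory.Functor.map_one, MonObj.one_comp]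
  obtain ⟨s, hs⟩ := K491.TorsCh.exists_lift π i hker ((Over.pullback f).map ks) hSE
  have hsm : IsMonHom s := by
    constructor
    · rw [← cancel_mono i, Category.assoc, hs, IsMonHom.one_hom ((Over.pullback f).map ks), IsMonHom.one_hom i]
    · rw [← cancel_mono i, Category.assoc, hs, IsMonHom.mul_hom ((Over.pullback f).map ks), Category.assoc,
        IsMonHom.mul_hom i, ← Category.assoc, tensorHom_comp_tensorHom, hs]
  have hscl : IsClosedImmersion s.left := by
    have h1 : IsClosedImmersion ((Over.pullback f).map ks).left := K491.ChevPI.closed_map f ks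
    rw [← hs, Over.comp_left] at h1
    exact IsClosedImmersion.of_comp s.left i.left
  have hvecE := IsVec_of_closed s hx
  have hSl : LocallyOfFiniteType S.hom := by rw [← Over.w ks]; infer_instance
  have hSq : QuasiCompact S.hom := by rw [← Over.w ks]; infer_instance
  have hSs : IsSeparated S.hom := Books.AntiAffine.isSeparated_hom S
  have hSa : IsAffine S.left := K351.AffFieldDesc.isAffine_of_bc K E S hvecE.affine
  obtain ⟨m, y, hy⟩ := K449.AddDesc.vec_descend K E S _ hvecE
  exact K491.BddStep.bdd_of_quot R K hR p P C S hP r ks hkk hy hCb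

end K491.PAStep
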