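import Groth.Agent.Neron.K491.PAStep
import Groth.Agent.Neron.K491.PAHom
import Groth.Agent.Neron.K491.ChevPI
import Groth.Agent.Neron.K753.MaxAff
import Groth.Agent.AlgGrp.K412.Tower
import Groth.Agent.Neron.K679.DvrExtIns
import Groth.Agent.Neron.K203.BddAV
import Mathlib.FieldTheory.PurelyInseparable.Exponent

/-!
# Boundedness of pseudo-abelian varieties over henselian excellent discrete valuation fields
-/

set_option autoImplicit false
universe u

open CategoryTheory CategoryTheory.Limits AlgebraicGeometry MonObj MonoidalCategory CartesianMonoidalCategory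

namespace K491.PATower

open K491.PDefs K131.Bdd Groth.Agent Groth.Agent.AbVar.K509 Groth.Agent.Sga3B.RedIso K412.Tower

/-- Every pseudo-abelian quotient of `P_L` is proper. -/
def QPr (K L : Type u) [Field K] [Field L] [Algebra K L] (P : Over (Spec (CommRingCat.of K))) [GrpObj P] : Prop :=
  ∀ (X : Over (Spec (CommRingCat.of L))) [GrpObj X] [Smooth X.hom] [QuasiCompact X.hom], IsPA X →
    ∀ (π : Red.bc (Spec.map (CommRingCat.ofHom (algebraMap K L))) P ⟶ X) [IsMonHom π], Surjective π.left →
      IsProper X.hom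

/-- The quotient of `P_L` by a smooth connected affine subgroup is proper for some finite purely inseparable `L`. -/
theorem exists_qpr {K : Type u} [Field K] (P : Over (Spec (CommRingCat.of K))) [GrpObj P] [IsCommMonObj P]
    [Smooth P.hom] [QuasiCompact P.hom] [ConnectedSpace ↥P.left] :
    ∃ (L : Type u) (_ : Field L) (_ : Algebra K L), FiniteDimensional K L ∧ IsPurelyInseparable K L ∧
      QPr K L P := by
  obtain ⟨L, _, _, hfd, hpi, H, A, gH, gA, i, π, hi, hπ, hcl, hk, hs, hHs, hHc, hHa, hA1, hA2, hA3⟩ :=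
    K491.ChevPI.exists_chevalley P
  refine ⟨L, inferInstance, inferInstance, hfd, hpi, ?_⟩
  intro X _ _ _ hX ρ _ hρ
  let g : Spec (CommRingCat.of L) ⟶ Spec (CommRingCat.of K) := Spec.map (CommRingCat.ofHom (algebraMap K L))
  have hPs : Smooth (Red.bc g P).hom := inferInstanceAs (Smooth (pullback.snd P.hom g))
  have hPq : QuasiCompact (Red.bc g P).hom := inferInstanceAs (QuasiCompact (pullback.snd P.hom g))
  have hAs : IsSeparated A.hom := Books.AntiAffine.isSeparated_hom A
  have hπq : QuasiCompact π.left := by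
    have h : QuasiCompact (π.left ≫ A.hom) := by rw [Over.w]; exact hPq
    exact QuasiCompact.of_comp π.left A.hom
  have hAi : IsIntegral A.left := GeometricallyIntegral.isIntegral_of_subsingleton A.hom
  have hfl : Flat π.left := AlgGrp.K411.HomKit.flat_of_surjective π
  have hXs : IsSeparated X.hom := Books.AntiAffine.isSeparated_hom X
  obtain ⟨ψ, hψ, hψ'⟩ := K402.Quo.exists_desc i π hk ρ (K491.PAHom.hom_eq_one hX (i ≫ ρ))
  have hψs : Surjective ψ.left := by
    have h : Surjective (π.left ≫ ψ.left) := by rw [← Over.comp_left, hψ']; exact hρ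
    exact Surjective.of_comp π.left ψ.left
  exact K398.Pts.isProper_of_surjective ψ

theorem QPr.quot {K E L : Type u} [Field K] [Field E] [Field L] [Algebra K E] [Algebra K L] [Algebra E L]
    [IsScalarTower K E L] {P : Over (Spec (CommRingCat.of K))} [GrpObj P] (h : QPr K L P)
    {X : Over (Spec (CommRingCat.of E))} [GrpObj X]
    (q : Red.bc (Spec.map (CommRingCat.ofHom (algebraMap K E))) P ⟶ X) [IsMonHom q] [Surjective q.left] :
    QPr E L X := by
  intro X' _ _ _ hX' ρ _ hρ
  let g : Spec (CommRingCat.of L) ⟶ Spec (CommRingCat.of E) := Spec.map (CommRingCat.ofHom (algebraMap E L))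
  have hh : g ≫ Spec.map (CommRingCat.ofHom (algebraMap K E)) = Spec.map (CommRingCat.ofHom (algebraMap K L)) := by
    rw [IsScalarTower.algebraMap_eq K E L]
    exact sp_comp _ _
  have h1 : Surjective ((Over.pullback g).map q).left :=
    AlgGrp.K411.Bc.map_left_mem (P := @Surjective) g q inferInstance
  have h2 : IsIso ((und (tower hh P)).hom).left := inferInstanceAs (IsIso ((Over.forget _).map (und (tower hh P)).hom))
  refine h X' hX' ((und (tower hh P)).hom ≫ (Over.pullback g).map q ≫ ρ) ?_
  rw [Over.comp_left, Over.comp_left]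
  infer_instance

variable (R K : Type u) [CommRing R] [IsDomain R] [IsDiscreteValuationRing R] [HenselianLocalRing R] [Field K]
  [Algebra R K] [IsFractionRing R K]

/-- One step of height one, with the maximal smooth connected affine subgroup. -/
theorem step (E : Type u) [Field E] [Algebra K E] [FiniteDimensional K E] (hR : EGA4.IsExcellent R) (p : ℕ)
    [Fact p.Prime] [CharP K p] (hE : ∀ e : E, ∃ c : K, algebraMap K E c = e ^ p)
    (P : Over (Spec (CommRingCat.of K))) [GrpObj P] [IsCommMonObj P] [Smooth P.hom] [QuasiCompact P.hom]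
    [ConnectedSpace P.left] (hP : IsPA P)
    (H : ∀ (R' : Type u) [CommRing R'] [IsDomain R'] [IsDiscreteValuationRing R'] [HenselianLocalRing R']
      [Algebra R' E] [IsFractionRing R' E], EGA4.IsExcellent R' →
      ∀ (X : Over (Spec (CommRingCat.of E))) [GrpObj X] [IsCommMonObj X] [Smooth X.hom] [QuasiCompact X.hom]
        [ConnectedSpace X.left], IsPA X →
        ∀ (q : Red.bc (Spec.map (CommRingCat.ofHom (algebraMap K E))) P ⟶ X) [IsMonHom q], Surjective q.left →
          Bdd R' X.hom (fun _ => True)) :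
    Bdd R P.hom (fun _ => True) := by
  let g : Spec (CommRingCat.of E) ⟶ Spec (CommRingCat.of K) := Spec.map (CommRingCat.ofHom (algebraMap K E))
  let _ : Algebra R E := ((algebraMap K E).comp (algebraMap R K)).toAlgebra
  have : IsScalarTower R K E := IsScalarTower.of_algebraMap_eq' rfl
  obtain ⟨R', _, _, _, _, _, _, _, _, hfin, hexc⟩ := K679.DvrExtIns.exists_ext R K E hR
  have hPs : Smooth (Red.bc g P).hom := inferInstanceAs (Smooth (pullback.snd P.hom g))
  have hPq : QuasiCompact (Red.bc g P).hom := inferInstanceAs (QuasiCompact (pullback.snd P.hom g))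
  have hPirr : IrreducibleSpace (Red.bc g P).left := K489.FieldBc.irreducibleSpace_bc' g P
  obtain ⟨U, X, gU, gX, i, q, hi, hq, hcl, hk, hqs, hqf, hU1, hU2, hU3, hX1, hX2, hX3, hX4, hX5⟩ :=
    K753.MaxAff.exists_max_affine E (Red.bc g P)
  have hGR : CAlg.IsGRing R := hR.2.2.1
  exact K491.PAStep.bdd_step R K R' E hGR p hE P hP X q U i hk (H R' hexc X hX5 q hqs)

/-- Elements of height one. -/
def heightOne (L : Type u) [Field L] [Algebra K L] (p : ℕ) [Fact p.Prime] [CharP K p] : IntermediateField K L where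
  carrier := {x | ∃ c : K, algebraMap K L c = x ^ p}
  mul_mem' := by
    rintro x y ⟨a, ha⟩ ⟨b, hb⟩
    exact ⟨a * b, by rw [map_mul, ha, hb, mul_pow]⟩
  one_mem' := ⟨1, by simp⟩
  add_mem' := by
    rintro x y ⟨a, ha⟩ ⟨b, hb⟩
    have : CharP L p := charP_of_injective_algebraMap (algebraMap K L).injective p
    exact ⟨a + b, by rw [map_add, ha, hb, add_pow_char]⟩
  zero_mem' := ⟨0, by simp [(Fact.out : p.Prime).ne_zero]⟩
  algebraMap_mem' := fun c => ⟨c ^ p, by rw [map_pow]⟩
  inv_mem' := by
    rintro x ⟨a, ha⟩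
    exact ⟨a⁻¹, by rw [map_inv₀, ha, inv_pow]⟩

/-- **Boundedness in a tower.** -/
theorem bdd_tower (p : ℕ) [Fact p.Prime] (n : ℕ) : ∀ (R K : Type u) [CommRing R] [IsDomain R]
    [IsDiscreteValuationRing R] [HenselianLocalRing R] [Field K] [Algebra R K] [IsFractionRing R K]
    (L : Type u) [Field L] [Algebra K L] [FiniteDimensional K L], EGA4.IsExcellent R → ∀ [CharP K p],
    (∀ x : L, ∃ c : K, algebraMap K L c = x ^ p ^ (n + 1)) →
    ∀ (P : Over (Spec (CommRingCat.of K))) [GrpObj P] [IsCommMonObj P] [Smooth P.hom] [QuasiCompact P.hom]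
    [ConnectedSpace P.left], IsPA P → QPr K L P → Bdd R P.hom (fun _ => True) := by
  induction n with
  | zero =>
    intro R K _ _ _ _ _ _ _ L _ _ _ hR _ hL P _ _ _ _ _ hP hQ
    refine step R K L hR p (fun e => ?_) P hP ?_
    · obtain ⟨c, hc⟩ := hL e
      exact ⟨c, by rw [hc, zero_add, pow_one]⟩
    · intro R' _ _ _ _ _ _ hR' X _ _ _ _ _ hX q _ hq
      have hp : IsProper X.hom := hQ X hX q hq
      have hgi : GeometricallyIntegral X.hom := Sga3.H780.Pointed.geometricallyIntegral X
      exact K203.BddAV.bdd_abelian hR' X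
  | succ n ih =>
    intro R K _ _ _ _ _ _ _ L _ _ _ hR _ hL P _ _ _ _ _ hP hQ
    refine step R K (heightOne K L p) hR p (fun e => ?_) P hP ?_
    · obtain ⟨c, hc⟩ := e.2
      exact ⟨c, Subtype.ext hc⟩
    · intro R' _ _ _ _ _ _ hR' X _ _ _ _ _ hX q _ hq
      have hEp : CharP (heightOne K L p) p :=
        charP_of_injective_algebraMap (algebraMap K (heightOne K L p)).injective p
      have hfd : FiniteDimensional (heightOne K L p) L := FiniteDimensional.right K (heightOne K L p) L
      refine ih R' (heightOne K L p) L hR' (fun x => ?_) X hX (QPr.quot hQ q)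
      obtain ⟨c, hc⟩ := hL x
      refine ⟨⟨x ^ p ^ (n + 1), ⟨c, ?_⟩⟩, rfl⟩
      rw [hc, ← pow_mul, ← pow_succ]

/-- **Boundedness of pseudo-abelian varieties.** -/
theorem bdd_pa (hR : EGA4.IsExcellent R) (p : ℕ) [Fact p.Prime] [CharP K p]
    (P : Over (Spec (CommRingCat.of K))) [GrpObj P] [IsCommMonObj P] [Smooth P.hom] [QuasiCompact P.hom]
    [ConnectedSpace P.left] (hP : IsPA P) : Bdd R P.hom (fun _ => True) := by
  obtain ⟨L, _, _, hfd, hpi, hQ⟩ := exists_qpr P
  obtain ⟨n, hn⟩ : ∃ n : ℕ, ∀ x : L, ∃ c : K, algebraMap K L c = x ^ p ^ (n + 1) := by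
    have hexp : ExpChar K p := ExpChar.prime Fact.out
    refine ⟨IsPurelyInseparable.exponent K L, fun x => ?_⟩
    obtain ⟨c, hc⟩ := IsPurelyInseparable.exponent_def' K p x
    exact ⟨c ^ p, by rw [map_pow, hc, ← pow_mul, ← pow_succ]⟩
  exact bdd_tower p n R K L hR hn P hP hQ

end K491.PATower
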