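import Groth.Agent.Neron.K491.NewtonPt
import Groth.Agent.Neron.K491.LocSec
import Mathlib.RingTheory.DiscreteValuationRing.Basic

/-!
# `p`-torsion sections reducing to the identity over a discrete valuation ring of small ramification
-/

set_option autoImplicit false

universe u

open CategoryTheory CategoryTheory.Limits MonoidalCategory CartesianMonoidalCategory MonObj GrpObj
  AlgebraicGeometry

namespace K491.PTors

open K491.NewtonPt

attribute [local instance] Chart.ring Chart.alg Chart.isOpen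

theorem exists_chart {R : Type u} [CommRing R] [IsLocalRing R]
    (N : Over (Spec (CommRingCat.of R))) [GrpObj N] : Nonempty (Chart N) := by
  let e := (η[N] : 𝟙_ (Over (Spec (CommRingCat.of R))) ⟶ N).left
  obtain ⟨A, j, _, hj, _⟩ := Scheme.exists_affine_mem_range_and_range_subset
    (x := e (IsLocalRing.closedPoint R)) (U := ⊤) (by simp)
  have hr := LocSec.range_subset j e hj
  obtain ⟨α, hα⟩ := Spec.map_surjective (IsOpenImmersion.lift j e hr)
  obtain ⟨g, hg⟩ := Spec.map_surjective (j ≫ N.hom)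
  have hα' : Spec.map α ≫ j = e := by rw [hα, IsOpenImmersion.lift_fac]
  let _ : Algebra R A := g.hom.toAlgebra
  have hgα : g ≫ α = 𝟙 _ := by
    apply Spec.map_injective
    rw [Spec.map_comp, hg, reassoc_of% hα', Spec.map_id]
    exact Over.w (η[N] : 𝟙_ (Over (Spec (CommRingCat.of R))) ⟶ N)
  exact ⟨{ B := A
           j := j
           w := hg.symm
           π := { α.hom with
                  commutes' := fun r => ConcreteCategory.congr_hom hgα r }
           η_eq := hα'.symm }⟩

variable {R : Type u} [CommRing R]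

/-- A section as a point with values in `R`. -/
lemma toUnit_left : (toUnit (tb R R)).left = 𝟙 (Spec (CommRingCat.of R)) :=
  Spec.map_id (CommRingCat.of R)

lemma eq_one_of_toUnit {N : Over (Spec (CommRingCat.of R))} [GrpObj N]
    (x : 𝟙_ (Over (Spec (CommRingCat.of R))) ⟶ N) (h : toUnit (tb R R) ≫ x = 1) : x = 1 := by
  have h1 : toUnit (tb R R) ≫ x = toUnit (tb R R) ≫ 1 := by rw [h, MonObj.comp_one]
  have h2 := congrArg CommaMorphism.left h1
  ext1
  have h3 : (toUnit (tb R R)).left ≫ x.left =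
    (toUnit (tb R R)).left ≫ (1 : 𝟙_ (Over (Spec (CommRingCat.of R))) ⟶ N).left := h2
  rw [toUnit_left] at h3
  exact (Category.id_comp _).symm.trans (h3.trans (Category.id_comp _))

lemma cent_of_closedPoint [IsLocalRing R] {N : Over (Spec (CommRingCat.of R))} [GrpObj N]
    (x : 𝟙_ (Over (Spec (CommRingCat.of R))) ⟶ N)
    (h : x.left (IsLocalRing.closedPoint R) =
      (η[N] : 𝟙_ (Over (Spec (CommRingCat.of R))) ⟶ N).left (IsLocalRing.closedPoint R)) :
    Cent (toUnit (tb R R) ≫ x) := by
  have h1 := LocSec.res_comp_eq N.hom x.left (η[N] : 𝟙_ (Over (Spec (CommRingCat.of R))) ⟶ N).left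
    (Over.w x) (Over.w _) h
  have h2 : (sp (res R R) ≫ toUnit (tb R R)).left =
      Spec.map (CommRingCat.ofHom (IsLocalRing.residue R)) := by
    rw [Over.comp_left, toUnit_left]
    exact Category.comp_id _
  have h3 : (1 : 𝟙_ (Over (Spec (CommRingCat.of R))) ⟶ N) = η[N] := (MonObj.one_eq_one (M := N)).symm
  rw [Cent, ← Category.assoc, ← MonObj.comp_one (sp (res R R) ≫ toUnit (tb R R)), h3]
  ext1
  exact (congrArg (fun w => w ≫ x.left) h2).trans (h1.trans
    (congrArg (fun w => w ≫ (η[N] : 𝟙_ (Over (Spec (CommRingCat.of R))) ⟶ N).left) h2).symm)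

theorem eq_one_of_pow_prime [IsDomain R] [IsDiscreteValuationRing R] (p : ℕ) (hp : p.Prime)
    (hv : (p : R) ∉ IsLocalRing.maximalIdeal R ^ (p - 1))
    (N : Over (Spec (CommRingCat.of R))) [GrpObj N]
    (x : 𝟙_ (Over (Spec (CommRingCat.of R))) ⟶ N)
    (h : x.left (IsLocalRing.closedPoint R) =
      (η[N] : 𝟙_ (Over (Spec (CommRingCat.of R))) ⟶ N).left (IsLocalRing.closedPoint R))
    (hx : x ^ p = 1) : x = 1 := by
  obtain ⟨K⟩ := exists_chart N
  have hc := cent_of_closedPoint x h
  have hone : Cent (1 : tb R R ⟶ N) := Cent.one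
  let 𝔞 := aId K hc
  have h𝔞 : 𝔞 ≤ IsLocalRing.maximalIdeal R := by
    refine Ideal.map_le_iff_le_comap.2 fun b hb => phi_mem K hc b hb
  have hz : (toUnit (tb R R) ≫ x) ^ p = 1 := by
    rw [← MonObj.comp_pow, hx, MonObj.comp_one]
  have h0 : 𝔞 = ⊥ := by
    by_contra hne
    obtain ⟨ϖ, hϖ⟩ := IsDiscreteValuationRing.exists_irreducible R
    obtain ⟨r, hr⟩ := IsDiscreteValuationRing.ideal_eq_span_pow_irreducible hne hϖ
    have hm := hϖ.maximalIdeal_eq
    have hr1 : 1 ≤ r := by
      by_contra h1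
      have h2 : r = 0 := by omega
      rw [h2, pow_zero] at hr
      apply (Ideal.ne_top_iff_one _).1 (IsLocalRing.maximalIdeal.isMaximal R).ne_top
      apply h𝔞
      rw [hr]
      exact Ideal.mem_span_singleton_self 1
    have key : ∀ c ∈ 𝔞, (p : R) * c ∈ Ideal.span {(p : R)} * 𝔞 ^ 2 ⊔ 𝔞 ^ p := by
      intro c hcc
      change c ∈ Ideal.span _ at hcc
      induction hcc using Submodule.span_induction with
      | mem c hc' =>
        obtain ⟨f, hf, rfl⟩ := hc'
        obtain ⟨a, ha, b, hb, hab⟩ := ev_pow_mem K p hp _ hc f hf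
        have h1 : ev K ((toUnit (tb R R) ≫ x) ^ p) f = 0 := by
          rw [hz, ev_eq K hone, phi_one]
          change algebraMap R R (K.π f) = 0
          rw [show K.π f = 0 from hf, map_zero]
        rw [h1] at hab
        have h2 : (p : R) * phi K hc f = p * (-a) + (-b) := by
          linear_combination -hab
        rw [h2]
        exact Submodule.add_mem_sup
          (Ideal.mul_mem_mul (Ideal.mem_span_singleton_self _) (neg_mem ha)) (neg_mem hb)
      | zero => simp
      | add c d _ _ h1 h2 => rw [mul_add]; exact Ideal.add_mem _ h1 h2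
      | smul s c _ h1 =>
        rw [smul_eq_mul, mul_left_comm]
        exact Ideal.mul_mem_left _ _ h1
    have h1 := key (ϖ ^ r) (by rw [hr]; exact Ideal.mem_span_singleton_self _)
    rw [hr, Ideal.span_singleton_pow, Ideal.span_singleton_pow, Ideal.span_singleton_mul_span_singleton,
      ← Ideal.span_insert, Ideal.mem_span_pair] at h1
    obtain ⟨s, t, hst⟩ := h1
    have hϖ0 : ϖ ^ r ≠ 0 := pow_ne_zero _ hϖ.ne_zero
    obtain ⟨q, rfl⟩ : ∃ q, p = q + 2 := ⟨p - 2, by have := hp.two_le; omega⟩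
    have h2 : ((q + 2 : ℕ) : R) * (1 - ϖ ^ r * s) = ϖ ^ ((q + 1) * r) * t := by
      apply mul_left_cancel₀ hϖ0
      have e1 : (ϖ ^ r) ^ (q + 2) = ϖ ^ r * ϖ ^ ((q + 1) * r) := by ring
      rw [e1] at hst
      linear_combination -hst
    have h3 : IsUnit (1 - ϖ ^ r * s) := by
      rw [← IsLocalRing.notMem_maximalIdeal]
      intro h4
      apply (Ideal.ne_top_iff_one _).1 (IsLocalRing.maximalIdeal.isMaximal R).ne_top
      have h5 : ϖ ^ r * s ∈ IsLocalRing.maximalIdeal R := by
        apply Ideal.mul_mem_right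
        exact Ideal.pow_mem_of_mem _ (by rw [hm]; exact Ideal.mem_span_singleton_self _) _ hr1
      have := Ideal.add_mem _ h4 h5
      rwa [sub_add_cancel] at this
    apply hv
    obtain ⟨v, hv'⟩ := h3
    have h4 : ((q + 2 : ℕ) : R) = ϖ ^ ((q + 1) * r) * (t * (v⁻¹ : Rˣ)) := by
      rw [← hv'] at h2
      rw [← _root_.mul_assoc, ← h2, _root_.mul_assoc, Units.mul_inv, _root_.mul_one]
    rw [h4]
    apply Ideal.mul_mem_right
    have h5 : ϖ ^ ((q + 1) * r) ∈ IsLocalRing.maximalIdeal R ^ ((q + 1) * r) := by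
      apply Ideal.pow_mem_pow
      rw [hm]
      exact Ideal.mem_span_singleton_self _
    refine Ideal.pow_le_pow_right ?_ h5
    have : (q + 1) * 1 ≤ (q + 1) * r := Nat.mul_le_mul_left _ hr1
    omega
  apply eq_one_of_toUnit
  ext1
  rw [phi_spec K hc, phi_spec K hone]
  congr 3
  ext b
  have h1 : phi K hc (b - algebraMap R K.B (K.π b)) ∈ 𝔞 := by
    refine Ideal.mem_map_of_mem _ ?_
    rw [RingHom.mem_ker, map_sub, AlgHom.commutes]
    simp
  rw [h0, Ideal.mem_bot, map_sub, sub_eq_zero, AlgHom.commutes] at h1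
  rw [phi_one]
  exact h1

end K491.PTors
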