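import Groth.Agent.Sga7.H617.PowFib

/-!
# Flat power maps and the additive group
-/

set_option autoImplicit false

universe u

open CategoryTheory CategoryTheory.Limits MonoidalCategory CartesianMonoidalCategory MonObj GrpObj
  AlgebraicGeometry

namespace K491.PowFlat

open Groth.Agent Groth.Agent.Sga7 Groth.Agent.Sga3B Groth.Agent.Sga3B.GaPts
  Groth.Agent.Sga7.H756.QFRank Groth.Agent.Sga7.H617.GaKill Groth.Agent.Sga7.H756.GenBase

variable {k : Type u} [Field k]

/-- A flat homomorphism between group schemes of finite type of the same dimension over a field has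
no closed points of positive dimension in the kernel: any two comparable points of `H` with the same
image agree, if the specialization is closed.  Here we use the translation-invariance of the dimension
at closed points. -/
theorem eq_of_flat {H G : Over (Spec (CommRingCat.of k))} [GrpObj H] [GrpObj G]
    [LocallyOfFiniteType H.hom] [QuasiCompact H.hom] [LocallyOfFiniteType G.hom] [QuasiCompact G.hom]
    (f : H ⟶ G) [Flat f.left] (d : ℕ) (hH : topologicalKrullDim H.left = d)
    (hG : topologicalKrullDim G.left = d) (x y : H.left) (hx : IsClosed ({x} : Set H.left))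
    (hyx : y ⤳ x) (hxy : f.left y = f.left x) : y = x := by
  have hN : IsLocallyNoetherian H.left := LocallyOfFiniteType.isLocallyNoetherian H.hom
  have hN' : IsLocallyNoetherian G.left := LocallyOfFiniteType.isLocallyNoetherian G.hom
  have hlft : LocallyOfFiniteType f.left := H742.PowUnram.locallyOfFiniteType_left f
  have hfx : IsClosed ({f.left x} : Set G.left) := by
    have hJ : JacobsonSpace G.left := LocallyOfFiniteType.jacobsonSpace G.hom
    exact Scheme.Hom.closePoints_subset_preimage_closedPoints f.left hx
  have h3 : (Order.coheight x : WithBot ℕ∞) = d := by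
    rw [← hH, ← S0354.result k H x hx, ringKrullDim_stalk_eq_coheight]
  have h4 : (Order.coheight (f.left x) : WithBot ℕ∞) = d := by
    rw [← hG, ← S0354.result k G (f.left x) hfx, ringKrullDim_stalk_eq_coheight]
  have h5 := Flat2D.DimFlat.coheight_eq_add_fiber f.left x (Flat.stalkMap f.left x)
  have h3' : Order.coheight x = (d : ℕ∞) := by exact_mod_cast h3
  have h4' : Order.coheight (f.left x) = (d : ℕ∞) := by exact_mod_cast h4
  rw [h3', h4'] at h5
  have h6 : Order.coheight (f.left.asFiber x) = 0 := by
    have h7 : (d : ℕ∞) + 0 = d + Order.coheight (f.left.asFiber x) := by rw [add_zero]; exact h5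
    exact (ENat.add_right_injective_of_ne_top (ENat.natCast_ne_top d) h7).symm
  rw [Order.coheight_eq_zero] at h6
  obtain ⟨z, hz⟩ : y ∈ Set.range (f.left.fiberι (f.left x)) := by
    rw [f.left.range_fiberι]
    exact hxy
  have h8 : z ⤳ f.left.asFiber x := by
    rw [← (f.left.fiberι (f.left x)).isEmbedding.isInducing.specializes_iff, hz,
      f.left.fiberι_asFiber]
    exact hyx
  have h9 : f.left.asFiber x ⤳ z := h6 (show f.left.asFiber x ≤ z from h8)
  have h10 : z = f.left.asFiber x := (Specializes.antisymm h8 h9).eq
  rw [← hz, h10, f.left.fiberι_asFiber]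

/-- A flat homomorphism between group schemes of the same dimension does not kill a closed additive
group. -/
theorem false_of_flat {H G : Over (Spec (CommRingCat.of k))} [GrpObj H] [GrpObj G]
    [LocallyOfFiniteType H.hom] [QuasiCompact H.hom] [LocallyOfFiniteType G.hom] [QuasiCompact G.hom]
    (f : H ⟶ G) [Flat f.left] (d : ℕ) (hH : topologicalKrullDim H.left = d)
    (hG : topologicalKrullDim G.left = d)
    (j : Red.Ga (Spec (CommRingCat.of k)) ⟶ H) [IsClosedImmersion j.left]
    (hj : j ≫ f = 1) : False := by
  let X := Red.Ga (Spec (CommRingCat.of k))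
  have hsub : Subsingleton ↥(Spec (CommRingCat.of k)) :=
    inferInstanceAs (Subsingleton (PrimeSpectrum k))
  have hlft : LocallyOfFiniteType X.hom := by
    rw [← Over.w j]
    infer_instance
  have hqc : QuasiCompact X.hom := by
    rw [← Over.w j]
    infer_instance
  let a : X.left := (η[X] : 𝟙_ (Over (Spec (CommRingCat.of k))) ⟶ X).left (IsLocalRing.closedPoint k)
  have ha : IsClosed ({a} : Set X.left) := Grpsch.TangentPoint.isClosed_unit X
  have hnf : ¬ IsFinite X.hom := fun h => not_lqf_ga k inferInstance
  obtain ⟨g, hg, hdim⟩ := H742.P1Dim.exists_dim_pos X hnf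
  have h1 : (Order.coheight a : WithBot ℕ∞) = g := by
    rw [← hdim, ← S0354.result k X a ha, ringKrullDim_stalk_eq_coheight]
  have h2 : ¬ IsMax a := by
    intro h
    rw [← Order.coheight_eq_zero] at h
    rw [h] at h1
    have h3 : (0 : WithBot ℕ∞) = (g : WithBot ℕ∞) := h1
    have h4 : (0 : ℕ) = g := by exact_mod_cast h3
    omega
  rw [not_isMax_iff] at h2
  obtain ⟨y, hy⟩ := h2
  have hya : y ⤳ a := hy.le
  have hne : y ≠ a := hy.ne'
  have hx : IsClosed ({j.left a} : Set H.left) := by
    have := j.left.isClosedEmbedding.isClosedMap _ ha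
    rwa [Set.image_singleton] at this
  have hconst : ∀ b : X.left, f.left (j.left b) =
      (η[G] : 𝟙_ (Over (Spec (CommRingCat.of k))) ⟶ G).left (IsLocalRing.closedPoint k) := by
    intro b
    rw [← Scheme.Hom.comp_apply, ← Over.comp_left, hj, one_left, Scheme.Hom.comp_apply]
    congr 1
    exact Subsingleton.elim _ _
  have h3 := eq_of_flat f d hH hG (j.left a) (j.left y) hx (hya.map j.left.continuous)
    ((hconst y).trans (hconst a).symm)
  exact hne (j.left.isClosedEmbedding.injective h3)

/-- If the `m`-th power map is flat and `m = 0` in `κ(s)` then the geometric fibre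
at `s` contains no additive group. -/
theorem rankZero_of_flat {S : Scheme.{u}} (G : Over S) [GrpObj G] [LocallyOfFiniteType G.hom]
    [QuasiCompact G.hom] (m : ℕ) [Flat ((𝟙 G : G ⟶ G) ^ m).left] (s : S)
    (hm : (m : S.residueField s) = 0) :
    SGA7.FibreUnipotentRankZero s G := by
  intro j hj hcl
  have hm' : (m : AlgebraicClosure (S.residueField s)) = 0 := by
    rw [← map_natCast (algebraMap (S.residueField s) (AlgebraicClosure (S.residueField s))), hm,
      map_zero]
  let H : Over (Spec (CommRingCat.of (AlgebraicClosure (S.residueField s)))) := Red.geomFibre s G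
  have h0 : LocallyOfFiniteType H.hom :=
    inferInstanceAs (LocallyOfFiniteType (pullback.snd G.hom (Red.geomPt s)))
  have h00 : QuasiCompact H.hom := inferInstanceAs (QuasiCompact (pullback.snd G.hom (Red.geomPt s)))
  have h1 : Flat ((𝟙 H : H ⟶ H) ^ m).left := by
    have h2 : Flat ((Over.pullback (Red.geomPt s)).map ((𝟙 G : G ⟶ G) ^ m)).left :=
      MorphismProperty.of_isPullback (P := @Flat)
        (isPullback_map (Red.geomPt s) _).flip ‹_›
    rwa [H742.PowUnram.map_pow_one] at h2
  obtain ⟨d, hd⟩ := H742.P1Dim.exists_dim H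
  exact false_of_flat (H := H) ((𝟙 H : H ⟶ H) ^ m) d hd hd j (comp_pow_eq_one m hm' j)

end K491.PowFlat
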