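import Groth.Agent.S3249
import Groth.Agent.Sga1.BiratExt
import Groth.Agent.Dix.NormalLoc

/-!
# Rational maps from smooth schemes to abelian varieties
-/

set_option autoImplicit false
universe u

open CategoryTheory CategoryTheory.Limits AlgebraicGeometry

namespace K491.RatExt

/-- A rational map from a smooth scheme over a field to a proper group scheme is a morphism. -/
theorem existsUnique_extension (K : Type u) [Field K] {X G : Scheme.{u}}
    (pX : X ⟶ Spec (CommRingCat.of K)) (pG : G ⟶ Spec (CommRingCat.of K)) [Smooth pX]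
    [GrpObj (Over.mk pG)] [IsProper pG] (W : X.Opens) (hW : Dense (W : Set X))
    (g : (W : Scheme.{u}) ⟶ G) (hg : g ≫ pG = W.ι ≫ pX) :
    ∃! h : X ⟶ G, h ≫ pG = pX ∧ W.ι ≫ h = g := by
  have hLN : IsLocallyNoetherian X := LocallyOfFiniteType.isLocallyNoetherian pX
  have hst : ∀ x : X, IsDomain (X.presheaf.stalk x) ∧ IsIntegrallyClosed (X.presheaf.stalk x) :=
    fun x => Groth.Agent.Dix.NormalLoc.stalk_of_smooth pX x
  have hst' : ∀ x : X, _root_.IsReduced (X.presheaf.stalk x) := fun x => by
    have := (hst x).1
    infer_instance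
  have hred : AlgebraicGeometry.IsReduced X := isReduced_of_isReduced_stalk X
  obtain ⟨W', hWW', g', hg', hgW, hval⟩ :=
    Groth.Agent.Sga1.BiratExt.exists_extension pX pG W hW g hg
  have hW' : Dense (W' : Set X) := hW.mono hWW'
  obtain ⟨h, ⟨h1, h2⟩, hu⟩ := Groth.Agent.S3249.result (R := K) pX pG W' (by
      intro x
      have h0 : {y | pX.base y = pX.base x} = Set.univ := by
        ext y
        simp only [Set.mem_ofPred_eq, Set.mem_univ, iff_true]
        have : Subsingleton ↥(Spec (CommRingCat.of K)) :=
          inferInstanceAs (Subsingleton (PrimeSpectrum K))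
        exact Subsingleton.elim _ _
      rw [h0, Set.inter_univ]
      exact hW' x) (by
      intro x hx
      by_contra hd
      have := (hst x).1
      have := (hst x).2
      have := (Groth.Agent.Dix.NormalLoc.valuationRing_of_not_two_le_ringKrullDim _ hd).1
      exact hx (hval x)) g' hg'
  refine ⟨h, ⟨h1, ?_⟩, ?_⟩
  · rw [← hgW, ← h2, ← Category.assoc, Scheme.homOfLE_ι]
  · rintro h' ⟨h3, h4⟩
    have hdom : IsDominant W.ι := Opens.isDominant_ι hW
    exact ext_of_isDominant_of_isSeparated pG (ι := W.ι) (by rw [h3, h1]) (by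
      rw [h4, ← hgW, ← h2, ← Category.assoc, Scheme.homOfLE_ι])

end K491.RatExt
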