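import Groth.Agent.EtpbcB.OshHens
import Groth.Agent.Sga7.H742.PowUnram
import Groth.Agent.Neron.K491.LocSec
import Groth.Prelude.Def_AbDual

/-!
# Torsion sections over local rings
-/

set_option autoImplicit false
universe u

open CategoryTheory CategoryTheory.Limits MonoidalCategory CartesianMonoidalCategory MonObj GrpObj
  AlgebraicGeometry

namespace K491.Tors

open Groth.Agent.EtpbcB.StrictLoc Groth.Agent.Etrest.StrictLoc

/-- A natural number invertible in a ring is nonzero in all residue fields of the spectrum. -/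
theorem natCast_ne_zero (R : Type u) [CommRing R] (m : ℕ) (h : IsUnit (m : R))
    (s : Spec (CommRingCat.of R)) : (m : (Spec (CommRingCat.of R)).residueField s) ≠ 0 := by
  have h2 : IsUnit (m : s.asIdeal.ResidueField) := by
    rw [← map_natCast (algebraMap R s.asIdeal.ResidueField)]
    exact h.map _
  have h3 := h2.map (Scheme.Spec.residueFieldIso (CommRingCat.of R) s).inv.hom
  rw [map_natCast] at h3
  exact h3.ne_zero

theorem comp_pow_one {S : Scheme.{u}} {T G : Over S} [GrpObj G] (x : T ⟶ G) (n : ℕ) :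
    x ≫ (𝟙 G : G ⟶ G) ^ n = x ^ n := by
  rw [MonObj.comp_pow, Category.comp_id]

/-- Uniqueness of torsion sections, `n` invertible. -/
theorem eq_of_pow_eq {R : Type u} [CommRing R] [IsLocalRing R] {G : Over (Spec (CommRingCat.of R))}
    [GrpObj G] [IsCommMonObj G] [Flat G.hom] [LocallyOfFinitePresentation G.hom]
    (n : ℕ) (hn : IsUnit (n : R)) {T : Over (Spec (CommRingCat.of R))}
    (e : Spec (CommRingCat.of R) ⟶ T.left) [IsIso e]
    (x y : T ⟶ G) (hxy : x ^ n = y ^ n)
    (h : Spec.map (CommRingCat.ofHom (IsLocalRing.residue R)) ≫ e ≫ x.left =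
      Spec.map (CommRingCat.ofHom (IsLocalRing.residue R)) ≫ e ≫ y.left) : x = y := by
  have het : Etale ((𝟙 G : G ⟶ G) ^ n).left :=
    Groth.Agent.Sga7.H742.PowUnram.etale_pow G n (natCast_ne_zero R n hn)
  ext1
  rw [← cancel_epi e]
  refine Groth.Agent.EtpbcB.OshHens.eq_of_resPt ((𝟙 G : G ⟶ G) ^ n).left _ _ ?_ h
  rw [Category.assoc, Category.assoc, ← Over.comp_left, ← Over.comp_left, comp_pow_one, comp_pow_one, hxy]

/-- Prime-to-`p` torsion sections over a local ring are determined by their value at the closed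
point. -/
theorem eq_one_of_pow_eq_one {R : Type u} [CommRing R] [IsLocalRing R]
    (N : Over (Spec (CommRingCat.of R))) [GrpObj N] [IsCommMonObj N] [Smooth N.hom]
    (x : 𝟙_ (Over (Spec (CommRingCat.of R))) ⟶ N) (n : ℕ) (hn : IsUnit (n : R)) (hx : x ^ n = 1)
    (hred : x.left (IsLocalRing.closedPoint R) = (η[N]).left (IsLocalRing.closedPoint R)) :
    x = 1 := by
  have hη : (η[N] : 𝟙_ (Over (Spec (CommRingCat.of R))) ⟶ N) = 1 := MonObj.one_eq_one _
  refine eq_of_pow_eq n hn (𝟙 _) x 1 (by rw [hx, one_pow]) ?_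
  rw [Category.id_comp, Category.id_comp, ← hη]
  exact LocSec.res_comp_eq N.hom x.left (η[N]).left (Over.w x) (Over.w η[N]) hred

/-- Lifting of torsion points over a henselian local ring. -/
theorem existsUnique_lift {R : Type u} [CommRing R] [HenselianLocalRing R]
    (G : Over (Spec (CommRingCat.of R))) [GrpObj G] [IsCommMonObj G] [Smooth G.hom]
    (N : ℕ) (hN : IsUnit (N : R))
    (τ : Over.mk (Spec.map (CommRingCat.ofHom (IsLocalRing.residue R))) ⟶ G)
    (hτ : τ ^ N = 1) :
    ∃! σ : Over.mk (𝟙 (Spec (CommRingCat.of R))) ⟶ G, σ ^ N = 1 ∧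
        Over.homMk (Spec.map (CommRingCat.ofHom (IsLocalRing.residue R))) (Category.comp_id _) ≫ σ =
          τ := by
  have het : Etale ((𝟙 G : G ⟶ G) ^ N).left :=
    Groth.Agent.Sga7.H742.PowUnram.etale_pow G N (natCast_ne_zero R N hN)
  let i : Over.mk (Spec.map (CommRingCat.ofHom (IsLocalRing.residue R))) ⟶
    Over.mk (𝟙 (Spec (CommRingCat.of R))) :=
    Over.homMk (Spec.map (CommRingCat.ofHom (IsLocalRing.residue R))) (Category.comp_id _)
  have h1 : τ.left ≫ ((𝟙 G : G ⟶ G) ^ N).left = resPt R ≫ (1 : Over.mk (𝟙 _) ⟶ G).left := by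
    rw [← Over.comp_left, comp_pow_one, hτ]
    have h2 : i ≫ (1 : Over.mk (𝟙 _) ⟶ G) = 1 := MonObj.comp_one _
    rw [← h2]
    rfl
  obtain ⟨a, ha, ha'⟩ := Groth.Agent.EtpbcB.OshHens.exists_lift_of_resPt
    ((𝟙 G : G ⟶ G) ^ N).left _ τ.left h1
  have hw : a ≫ G.hom = 𝟙 _ := by
    rw [← Over.w ((𝟙 G : G ⟶ G) ^ N), reassoc_of% ha]
    exact Over.w (1 : Over.mk (𝟙 (Spec (CommRingCat.of R))) ⟶ G)
  let σ : Over.mk (𝟙 (Spec (CommRingCat.of R))) ⟶ G := Over.homMk a hw
  refine ⟨σ, ⟨?_, ?_⟩, ?_⟩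
  · rw [← comp_pow_one]
    ext1
    exact ha
  · ext1
    exact ha'
  · rintro σ' ⟨h3, h4⟩
    refine eq_of_pow_eq N hN (𝟙 _) σ' σ ?_ ?_
    · rw [h3, ← comp_pow_one]
      ext1
      exact ha.symm
    · rw [Category.id_comp, Category.id_comp]
      have h5 := congrArg (fun f => f.left) h4
      exact h5.trans ha'.symm

end K491.Tors
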