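import Groth.Agent.Neron.K491.AlgPt
import Groth.Agent.Neron.K724.FfDesc

/-!
# Torsors under subgroups of `G_a ^ n` over affine schemes

`exists_coord`: `π : G ⟶ B` a homomorphism with kernel `S ⊆ G_a ^ n`, `Spec D ⟶ B`, `Spec C` the fibre product with `G`,
`D → C` faithfully flat: then `C = D[g_1, …, g_n]` with `F_j(g)` in `D` for all additive polynomials `F_j` vanishing on
`S`.
-/

set_option autoImplicit false
universe u

open CategoryTheory CategoryTheory.Limits AlgebraicGeometry MonObj MonoidalCategory CartesianMonoidalCategory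
open scoped TensorProduct

namespace K491.TorsCh

open K491.PDefs K491.AlgPt

variable {K : Type u} [Field K] {G B S : Over (Spec (CommRingCat.of K))} [GrpObj G] [GrpObj B] [GrpObj S]
  (π : G ⟶ B) [IsMonHom π] (i : S ⟶ G) [IsMonHom i] (hker : AlgGrp.IsKernel i π)
  {D C : Type u} [CommRing D] [CommRing C] [Algebra K D] [Algebra K C] [Algebra D C] [IsScalarTower K D C]
  (u : pt K D ⟶ B) (v : pt K C ⟶ G) (hpb : IsPullback v (ptMap (IsScalarTower.toAlgHom K D C)) π u)

include hker in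
lemma mono_of_kernel : Mono i := by
  constructor
  intro T a b hab
  exact hker.hom_ext hab (toUnit_unique _ _)

include hker in
lemma exists_lift {T : Over (Spec (CommRingCat.of K))} (x : T ⟶ G) (hx : x ≫ π = 1) : ∃ y : T ⟶ S, y ≫ i = x := by
  refine ⟨hker.lift x (toUnit T) ?_, hker.lift_fst _ _ _⟩
  rw [hx, Hom.one_def]

/-- An affine scheme over `K` as the spectrum of its ring of functions. -/
noncomputable def specIso (S : Over (Spec (CommRingCat.of K))) [IsAffine S.left] :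
    letI : Algebra K Γ(S.left, ⊤) := (str K S).toAlgebra
    pt K Γ(S.left, ⊤) ≅ S :=
  letI : Algebra K Γ(S.left, ⊤) := (str K S).toAlgebra
  Over.isoMk S.left.isoSpec.symm (by
    change S.left.isoSpec.inv ≫ S.hom = Spec.map (CommRingCat.ofHom (str K S))
    rw [Iso.inv_comp_eq]
    change S.hom = S.left.toSpecΓ ≫ Spec.map ((Scheme.ΓSpecIso (CommRingCat.of K)).inv ≫ S.hom.appTop)
    rw [Spec.map_comp, ← Scheme.toSpecΓ_naturality_assoc, ← SpecMap_ΓSpecIso_hom, ← Spec.map_comp,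
      Iso.inv_hom_id, Spec.map_id, Category.comp_id])

lemma evA_specIso (S : Over (Spec (CommRingCat.of K))) [IsAffine S.left] (f : Γ(S.left, ⊤)) :
    letI : Algebra K Γ(S.left, ⊤) := (str K S).toAlgebra
    evA f (specIso S).hom = f := by
  change (Scheme.ΓSpecIso Γ(S.left, ⊤)).hom.hom (S.left.isoSpec.inv.appTop.hom f) = f
  have h : S.left.isoSpec.inv.appTop ≫ (Scheme.ΓSpecIso Γ(S.left, ⊤)).hom = 𝟙 _ := by
    rw [← Scheme.toSpecΓ_appTop, ← Scheme.Hom.comp_appTop]
    have h1 : S.left.toSpecΓ ≫ S.left.isoSpec.inv = 𝟙 _ := S.left.isoSpec.hom_inv_id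
    rw [h1, Scheme.Hom.id_appTop]
  exact congr($(h).hom f)

lemma ptMap_injective {A A' : Type u} [CommRing A] [CommRing A'] [Algebra K A] [Algebra K A'] {φ ψ : A →ₐ[K] A'}
    (h : ptMap φ = ptMap ψ) : φ = ψ := by
  have h1 := congr(($h).left)
  rw [ptMap_left, ptMap_left] at h1
  have h2 := Spec.map_injective h1
  ext a
  exact congr($(h2).hom a)

variable (K) in
/-- The left inclusion. -/
def w1 (D C : Type u) [CommRing D] [CommRing C] [Algebra K D] [Algebra K C] [Algebra D C] [IsScalarTower K D C] :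
    C →ₐ[K] C ⊗[D] C :=
  (Algebra.TensorProduct.includeLeft : C →ₐ[D] C ⊗[D] C).restrictScalars K

variable (K) in
/-- The right inclusion. -/
def w2 (D C : Type u) [CommRing D] [CommRing C] [Algebra K D] [Algebra K C] [Algebra D C] [IsScalarTower K D C] :
    C →ₐ[K] C ⊗[D] C :=
  (Algebra.TensorProduct.includeRight : C →ₐ[D] C ⊗[D] C).restrictScalars K

lemma w_alg : ptMap (w1 K D C) ≫ ptMap (IsScalarTower.toAlgHom K D C) =
    ptMap (w2 K D C) ≫ ptMap (IsScalarTower.toAlgHom K D C) := by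
  rw [← ptMap_comp, ← ptMap_comp]
  congr 1
  ext d
  change (Algebra.TensorProduct.includeLeft : C →ₐ[D] C ⊗[D] C) (algebraMap D C d) =
    (Algebra.TensorProduct.includeRight : C →ₐ[D] C ⊗[D] C) (algebraMap D C d)
  rw [AlgHom.commutes, AlgHom.commutes]

include hker hpb in
/-- The difference point. -/
lemma exists_sigma : ∃ σ : pt K (C ⊗[D] C) ⟶ S, σ ≫ i = (ptMap (w1 K D C) ≫ v)⁻¹ * (ptMap (w2 K D C) ≫ v) := by
  apply exists_lift π i hker
  rw [MonObj.mul_comp, GrpObj.inv_comp, Category.assoc, Category.assoc, hpb.w, ← Category.assoc, ← Category.assoc,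
    w_alg, _root_.inv_mul_cancel]

variable {n : ℕ} {x : Fin n → Γ(S.left, ⊤)} (hx : IsVec K S x)

include hker hx in
lemma cocycle (σ : pt K (C ⊗[D] C) ⟶ S) (hσ : σ ≫ i = (ptMap (w1 K D C) ≫ v)⁻¹ * (ptMap (w2 K D C) ≫ v)) (l : Fin n) :
    Algebra.TensorProduct.map (AlgHom.id D C) (Algebra.TensorProduct.includeRight : C →ₐ[D] C ⊗[D] C) (evA (x l) σ) =
      Algebra.TensorProduct.map (AlgHom.id D C) (Algebra.TensorProduct.includeLeft : C →ₐ[D] C ⊗[D] C) (evA (x l) σ) +
      (Algebra.TensorProduct.includeRight : C ⊗[D] C →ₐ[D] C ⊗[D] (C ⊗[D] C)) (evA (x l) σ) := by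
  have hm := mono_of_kernel π i hker
  let d13 : C ⊗[D] C →ₐ[K] C ⊗[D] (C ⊗[D] C) := (Algebra.TensorProduct.map (AlgHom.id D C)
    (Algebra.TensorProduct.includeRight : C →ₐ[D] C ⊗[D] C)).restrictScalars K
  let d12 : C ⊗[D] C →ₐ[K] C ⊗[D] (C ⊗[D] C) := (Algebra.TensorProduct.map (AlgHom.id D C)
    (Algebra.TensorProduct.includeLeft : C →ₐ[D] C ⊗[D] C)).restrictScalars K
  let d23 : C ⊗[D] C →ₐ[K] C ⊗[D] (C ⊗[D] C) :=
    (Algebra.TensorProduct.includeRight : C ⊗[D] C →ₐ[D] C ⊗[D] (C ⊗[D] C)).restrictScalars K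
  have e1 : d13.comp (w1 K D C) = d12.comp (w1 K D C) := by
    ext c
    change d13 (c ⊗ₜ[D] 1) = d12 (c ⊗ₜ[D] 1)
    simp [d13, d12]
  have e2 : d12.comp (w2 K D C) = d23.comp (w1 K D C) := by
    ext c
    change d12 (1 ⊗ₜ[D] c) = d23 (c ⊗ₜ[D] 1)
    simp [d23, d12]
  have e3 : d13.comp (w2 K D C) = d23.comp (w2 K D C) := by
    ext c
    change d13 (1 ⊗ₜ[D] c) = d23 (1 ⊗ₜ[D] c)
    simp [d13, d23]
  have key : ptMap d13 ≫ σ = (ptMap d12 ≫ σ) * (ptMap d23 ≫ σ) := by
    rw [← cancel_mono i, MonObj.mul_comp, Category.assoc, Category.assoc, Category.assoc, hσ]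
    rw [MonObj.comp_mul, MonObj.comp_mul, MonObj.comp_mul, GrpObj.comp_inv, GrpObj.comp_inv, GrpObj.comp_inv,
      ← Category.assoc, ← Category.assoc, ← Category.assoc, ← Category.assoc, ← Category.assoc, ← Category.assoc,
      ← ptMap_comp, ← ptMap_comp, ← ptMap_comp, ← ptMap_comp, ← ptMap_comp, ← ptMap_comp, e1, e2, e3]
    group
  change d13 (evA (x l) σ) = d12 (evA (x l) σ) + d23 (evA (x l) σ)
  rw [← evA_ptMap, ← evA_ptMap, ← evA_ptMap, key, evA_mul (hx.add l)]

include hker hx hpb in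
lemma adjoin_eq_top (σ : pt K (C ⊗[D] C) ⟶ S)
    (hσ : σ ≫ i = (ptMap (w1 K D C) ≫ v)⁻¹ * (ptMap (w2 K D C) ≫ v)) :
    Algebra.adjoin C (Set.range fun l => evA (x l) σ) = ⊤ := by
  have hm := mono_of_kernel π i hker
  have haff := hx.affine
  let Q : Type u := Γ(S.left, ⊤)
  let algQ : Algebra K Q := (str K S).toAlgebra
  let s : pt K Q ≅ S := specIso S
  have hsx : ∀ f : Γ(S.left, ⊤), evA f s.hom = f := fun f => evA_specIso S f
  -- the point `(c, s) ↦ c * s`
  let j1 : C →ₐ[K] C ⊗[K] Q := Algebra.TensorProduct.includeLeft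
  let j2 : Q →ₐ[K] C ⊗[K] Q := Algebra.TensorProduct.includeRight
  let m : pt K (C ⊗[K] Q) ⟶ G := (ptMap j1 ≫ v) * (ptMap j2 ≫ s.hom ≫ i)
  have hiπ : i ≫ π = 1 := hker.w
  have hm2 : m ≫ π = (ptMap j1 ≫ ptMap (IsScalarTower.toAlgHom K D C)) ≫ u := by
    change ((ptMap j1 ≫ v) * (ptMap j2 ≫ s.hom ≫ i)) ≫ π = _
    rw [MonObj.mul_comp, Category.assoc, Category.assoc, Category.assoc, hiπ, MonObj.comp_one, MonObj.comp_one,
      _root_.mul_one, hpb.w, Category.assoc]
  let c' : pt K (C ⊗[K] Q) ⟶ pt K C := hpb.lift m (ptMap j1 ≫ ptMap (IsScalarTower.toAlgHom K D C)) hm2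
  have hc1 : c' ≫ v = m := hpb.lift_fst _ _ _
  have hc2 : c' ≫ ptMap (IsScalarTower.toAlgHom K D C) = ptMap j1 ≫ ptMap (IsScalarTower.toAlgHom K D C) :=
    hpb.lift_snd _ _ _
  obtain ⟨γ, hγ⟩ := exists_ptMap c'
  obtain ⟨τ, hτ⟩ := exists_ptMap (σ ≫ s.inv)
  -- `θ : C ⊗ Q → C ⊗_D C`
  let θ : C ⊗[K] Q →ₐ[K] C ⊗[D] C := Algebra.TensorProduct.lift (w1 K D C) τ (fun _ _ => Commute.all _ _)
  have hθ1 : θ.comp j1 = w1 K D C := by
    ext c
    simp [θ, j1]
  have hθ2 : θ.comp j2 = τ := by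
    ext c
    simp [θ, j2]
  have hθγ : θ.comp γ = w2 K D C := by
    apply ptMap_injective
    apply hpb.hom_ext
    · rw [ptMap_comp, Category.assoc, hγ, hc1, MonObj.comp_mul, ← Category.assoc, ← ptMap_comp, hθ1,
        ← Category.assoc, ← ptMap_comp, hθ2, hτ, Category.assoc, Iso.inv_hom_id_assoc, hσ, mul_inv_cancel_left]
    · rw [ptMap_comp, Category.assoc, hγ, hc2, ← Category.assoc, ← ptMap_comp, hθ1, w_alg]
  have hsurj : Function.Surjective θ := by
    intro z
    induction z using TensorProduct.induction_on with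
    | zero => exact ⟨0, map_zero _⟩
    | tmul a b =>
      refine ⟨j1 a * γ b, ?_⟩
      rw [map_mul]
      have h1 := congr($hθ1 a)
      have h2 := congr($hθγ b)
      simp only [AlgHom.comp_apply] at h1 h2
      rw [h1, h2]
      change (a ⊗ₜ[D] (1 : C)) * ((1 : C) ⊗ₜ[D] b) = _
      rw [Algebra.TensorProduct.tmul_mul_tmul, _root_.mul_one, _root_.one_mul]
    | add a b ha hb =>
      obtain ⟨a', rfl⟩ := ha
      obtain ⟨b', rfl⟩ := hb
      exact ⟨a' + b', map_add _ _ _⟩
  have hQ : ∀ f : Γ(S.left, ⊤), τ f ∈ Algebra.adjoin C (Set.range fun l => evA (x l) σ) := by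
    let R' : Subring Γ(S.left, ⊤) := (Algebra.adjoin C (Set.range fun l => evA (x l) σ)).toSubring.comap τ.toRingHom
    have hR : R' = ⊤ := by
      apply hx.gen
      · intro c
        change τ (algebraMap K Q c) ∈ Algebra.adjoin C (Set.range fun l => evA (x l) σ)
        rw [AlgHom.commutes, IsScalarTower.algebraMap_apply K C (C ⊗[D] C)]
        exact Subalgebra.algebraMap_mem _ _
      · intro l
        change τ (x l) ∈ Algebra.adjoin C (Set.range fun l => evA (x l) σ)
        have h1 : evA (x l) σ = τ (x l) := by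
          have h2 : σ = ptMap τ ≫ s.hom := by rw [hτ, Category.assoc, Iso.inv_hom_id, Category.comp_id]
          rw [h2, evA_ptMap, hsx]
        rw [← h1]
        exact Algebra.subset_adjoin ⟨l, rfl⟩
    intro f
    have : f ∈ R' := by rw [hR]; trivial
    exact this
  rw [eq_top_iff]
  intro z _
  obtain ⟨y, rfl⟩ := hsurj z
  induction y using TensorProduct.induction_on with
  | zero => rw [map_zero]; exact Subalgebra.zero_mem _
  | tmul a b =>
    have h1 : θ (a ⊗ₜ b) = algebraMap C (C ⊗[D] C) a * τ b := by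
      simp only [θ, Algebra.TensorProduct.lift_tmul]
      rfl
    rw [h1]
    exact Subalgebra.mul_mem _ (Subalgebra.algebraMap_mem _ _) (hQ b)
  | add a b ha hb => rw [map_add]; exact Subalgebra.add_mem _ (ha trivial) (hb trivial)

include hker hpb hx in
/-- **Coordinates on a torsor under a subgroup of `G_a ^ n` over an affine scheme.** -/
theorem exists_coord [Module.FaithfullyFlat D C]
    (htriv : ∀ z : Fin n → C ⊗[D] C,
      (∀ l, Algebra.TensorProduct.map (AlgHom.id D C) (Algebra.TensorProduct.includeRight : C →ₐ[D] C ⊗[D] C) (z l) =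
        Algebra.TensorProduct.map (AlgHom.id D C) (Algebra.TensorProduct.includeLeft : C →ₐ[D] C ⊗[D] C) (z l) +
        (Algebra.TensorProduct.includeRight : C ⊗[D] C →ₐ[D] C ⊗[D] (C ⊗[D] C)) (z l)) →
      Algebra.adjoin C (Set.range z) = ⊤ →
      ∃ g : Fin n → C, (∀ l, z l = 1 ⊗ₜ g l - g l ⊗ₜ 1) ∧ Algebra.adjoin D (Set.range g) = ⊤)
    {p : ℕ} [Fact p.Prime] [CharP K p] {m : ℕ} (F : Fin m → Fin n → (ℕ →₀ K))
    (hF : ∀ (T : Over (Spec (CommRingCat.of K))) (y : Fin n → Γ(T.left, ⊤)),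
      (∀ j, addVal p (str K T) F j y = 0) ↔ ∃ a : T ⟶ S, ∀ l, ev (x l) a = y l) :
    ∃ (g : Fin n → C) (c : Fin m → D), Algebra.adjoin D (Set.range g) = ⊤ ∧
      ∀ j, algebraMap D C (c j) = addVal p (algebraMap K C) F j g := by
  obtain ⟨σ, hσ⟩ := exists_sigma π i hker u v hpb
  obtain ⟨g, hg, hgen⟩ := htriv (fun l => evA (x l) σ) (fun l => cocycle π i hker v hx σ hσ l)
    (adjoin_eq_top π i hker u v hpb hx σ hσ)
  have hz : ∀ j, addVal p (algebraMap K (C ⊗[D] C)) F j (fun l => evA (x l) σ) = 0 :=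
    (system_iff hF _).2 ⟨σ, fun l => rfl⟩
  have key : ∀ j, (1 : C) ⊗ₜ[D] (addVal p (algebraMap K C) F j g) = (addVal p (algebraMap K C) F j g) ⊗ₜ[D] (1 : C) := by
    intro j
    rcases subsingleton_or_nontrivial (C ⊗[D] C) with hs | hs
    · exact Subsingleton.elim _ _
    have hch : CharP (C ⊗[D] C) p := charP_of_injective_algebraMap (algebraMap K (C ⊗[D] C)).injective p
    have h1 : w2 K D C (addVal p (algebraMap K C) F j g) = w1 K D C (addVal p (algebraMap K C) F j g) := by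
      have e1 := map_addVal (p := p) F j (w1 K D C).toRingHom (algebraMap K C) g
      have e2 := map_addVal (p := p) F j (w2 K D C).toRingHom (algebraMap K C) g
      have e3 : (w1 K D C).toRingHom.comp (algebraMap K C) = algebraMap K (C ⊗[D] C) := (w1 K D C).comp_algebraMap
      have e4 : (w2 K D C).toRingHom.comp (algebraMap K C) = algebraMap K (C ⊗[D] C) := (w2 K D C).comp_algebraMap
      rw [e3] at e1
      rw [e4] at e2
      refine e2.trans (Eq.trans ?_ e1.symm)
      have e5 : (fun l => (w2 K D C).toRingHom (g l)) = fun l => evA (x l) σ + (w1 K D C).toRingHom (g l) := by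
        funext l
        rw [hg l]
        exact (sub_add_cancel _ _).symm
      rw [e5, addVal_add, hz, _root_.zero_add]
    exact h1
  choose c hc using fun j => K724.FfDesc.exists_of_eq D C _ (key j)
  exact ⟨g, c, hgen, hc⟩

end K491.TorsCh
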